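import Mathlib
import Cfsg.Agent.Lib.MonsterType.Orbit
import Cfsg.Agent.Lib.Golay.Co0

/-! The action of the centraliser of a lattice automorphism on the fixed classes modulo two, and the permutation
action on blocks of classes. -/

set_option autoImplicit false

namespace CfsgLib.MonsterLocal21

open Cfsg CfsgLib.MonsterType

/-- Coordinates for the classes modulo two of the vectors fixed by `γ₀`. -/
structure Coord (γ₀ : Co0) (n : ℕ) where
  kap : leechLattice → Fin n
  lift : Fin n → leechLattice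
  lift_fix : ∀ x, γ₀ • lift x = lift x
  kap_congr : ∀ {v w : leechLattice}, Cong v w → kap v = kap w
  kap_lift : ∀ x, kap (lift x) = x
  cong_lift : ∀ {v : leechLattice}, γ₀ • v = v → Cong v (lift (kap v))

/-- The centraliser of an automorphism. -/
abbrev cent (γ₀ : Co0) : Subgroup Co0 := Subgroup.centralizer ({γ₀} : Set Co0)

theorem smul_zero' (γ : Co0) : γ • (0 : leechLattice) = 0 := map_zero (LeechEight.addHom γ)

theorem smul_sum' {ι : Type*} (γ : Co0) (s : Finset ι) (f : ι → leechLattice) :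
    γ • ∑ i ∈ s, f i = ∑ i ∈ s, γ • f i := map_sum (LeechEight.addHom γ) f s

theorem smul_fix {γ₀ : Co0} (γ : cent γ₀) {v : leechLattice} (hv : γ₀ • v = v) :
    γ₀ • ((γ : Co0) • v) = (γ : Co0) • v := by
  rw [← mul_smul, ← Subgroup.mem_centralizer_singleton_iff.mp γ.2, mul_smul, hv]

/-- The parity of a sixteenth of the squared length. -/
def qv (v : leechLattice) : ℤ := sqNorm (v : GolayPt → ℤ) / 16 % 2

theorem qv_smul (γ : Co0) (v : leechLattice) : qv (γ • v) = qv v := congrArg (fun t : ℤ => t / 16 % 2) (γ.2.2 v)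

theorem qv_cong {v w : leechLattice} (h : Cong v w) : qv v = qv w := by
  obtain ⟨u, rfl⟩ := h
  have h1 := CfsgLib.Golay.sixteen_dvd_sqNorm w.2
  have h2 := CfsgLib.Golay.sixteen_dvd_sqNorm u.2
  have h3 := CfsgLib.Golay.eight_dvd_dot w.2 u.2
  have e : sqNorm ((w + (u + u) : leechLattice) : GolayPt → ℤ) =
      sqNorm (w : GolayPt → ℤ) + (4 * sqNorm (u : GolayPt → ℤ) + 4 * dotInt (w : GolayPt → ℤ) u) := by
    simp only [sqNorm, dotInt, AddSubgroup.coe_add, Pi.add_apply, Finset.mul_sum, ← Finset.sum_add_distrib]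
    exact Finset.sum_congr rfl fun i _ => by ring
  unfold qv
  rw [e]
  omega

namespace Coord

variable {γ₀ : Co0} {n : ℕ} (C : Coord γ₀ n)

/-- The image of a class. -/
def act (γ : cent γ₀) (x : Fin n) : Fin n := C.kap ((γ : Co0) • C.lift x)

theorem act_kap (γ : cent γ₀) {v : leechLattice} (hv : γ₀ • v = v) :
    C.act γ (C.kap v) = C.kap ((γ : Co0) • v) := C.kap_congr ((C.cong_lift hv).symm'.smul' _)

theorem act_one (x : Fin n) : C.act 1 x = x := by
  simp only [act, OneMemClass.coe_one, one_smul, C.kap_lift]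

theorem act_mul (γ δ : cent γ₀) (x : Fin n) : C.act (γ * δ) x = C.act γ (C.act δ x) := by
  rw [show C.act δ x = C.kap ((δ : Co0) • C.lift x) from rfl, C.act_kap γ (smul_fix δ (C.lift_fix x)),
    act, Subgroup.coe_mul, mul_smul]

/-- The action on the fixed classes. -/
def rho : cent γ₀ →* Equiv.Perm (Fin n) where
  toFun γ := ⟨C.act γ, C.act γ⁻¹, fun x => by rw [← C.act_mul, inv_mul_cancel, C.act_one],
    fun x => by rw [← C.act_mul, mul_inv_cancel, C.act_one]⟩
  map_one' := Equiv.ext C.act_one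
  map_mul' γ δ := Equiv.ext (C.act_mul γ δ)

theorem rho_apply (γ : cent γ₀) (x : Fin n) : C.rho γ x = C.kap ((γ : Co0) • C.lift x) := rfl

theorem rho_eq_one {γ : cent γ₀} (h : ∀ v : leechLattice, γ₀ • v = v → Cong ((γ : Co0) • v) v) : C.rho γ = 1 :=
  Equiv.ext fun x => by rw [rho_apply, C.kap_congr (h _ (C.lift_fix x)), C.kap_lift]; rfl

theorem cong_of_rho_eq {γ : cent γ₀} {x y : Fin n} (h : C.rho γ x = y) :
    Cong ((γ : Co0) • C.lift x) (C.lift y) := by
  subst h
  exact C.cong_lift (smul_fix γ (C.lift_fix x))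

theorem rho_kap_zero (γ : cent γ₀) : C.rho γ (C.kap 0) = C.kap 0 := by
  show C.act γ (C.kap 0) = _
  rw [C.act_kap γ (smul_zero' _), smul_zero']

/-! ### Blocks of classes -/

variable {N : ℕ} (blk : Fin n → Option (Fin N)) (T : Subgroup (Equiv.Perm (Fin N)))

/-- `γ` moves the blocks by `p`. -/
def Cov (γ : cent γ₀) (p : Equiv.Perm (Fin N)) : Prop := ∀ x, blk (C.rho γ x) = (blk x).map p

variable {C blk} in
theorem Cov.one : C.Cov blk 1 1 := fun x => by
  rw [map_one, Equiv.Perm.one_apply, Equiv.Perm.coe_one, Option.map_id]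
  rfl

variable {C blk} in
theorem Cov.mul {γ δ : cent γ₀} {p q : Equiv.Perm (Fin N)} (hγ : C.Cov blk γ p) (hδ : C.Cov blk δ q) :
    C.Cov blk (γ * δ) (p * q) := fun x => by
  rw [map_mul, Equiv.Perm.mul_apply, hγ, hδ, Option.map_map]
  rfl

variable {C blk} in
theorem Cov.inv {γ : cent γ₀} {p : Equiv.Perm (Fin N)} (hγ : C.Cov blk γ p) : C.Cov blk γ⁻¹ p⁻¹ := fun x => by
  have h := hγ ((C.rho γ)⁻¹ x)
  rw [show C.rho γ ((C.rho γ)⁻¹ x) = x from (C.rho γ).apply_symm_apply x] at h
  rw [map_inv, h, Option.map_map, show (⇑p⁻¹ ∘ ⇑p) = id from funext p.symm_apply_apply, Option.map_id]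
  rfl

/-- The elements permuting the blocks within `T`. -/
def good : Subgroup (cent γ₀) where
  carrier := {γ | ∃ p ∈ T, C.Cov blk γ p}
  one_mem' := ⟨1, one_mem _, Cov.one⟩
  mul_mem' := fun ⟨p, hp, hγ⟩ ⟨q, hq, hδ⟩ => ⟨p * q, mul_mem hp hq, hγ.mul hδ⟩
  inv_mem' := fun ⟨p, hp, hγ⟩ => ⟨p⁻¹, inv_mem hp, hγ.inv⟩

variable {C blk} in
theorem Cov.unique (hsurj : ∀ i, ∃ x, blk x = some i) {γ : cent γ₀} {p q : Equiv.Perm (Fin N)}
    (hp : C.Cov blk γ p) (hq : C.Cov blk γ q) : p = q := Equiv.ext fun i => by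
  obtain ⟨x, hx⟩ := hsurj i
  have h := (hp x).symm.trans (hq x)
  rw [hx, Option.map_some, Option.map_some] at h
  exact Option.some_injective _ h

/-- The action on the blocks. -/
noncomputable def blockHom (hsurj : ∀ i, ∃ x, blk x = some i) (hg : C.good blk T = ⊤) : cent γ₀ →* T :=
  MonoidHom.mk' (fun γ => ⟨(show γ ∈ C.good blk T by rw [hg]; trivial).choose,
      (show γ ∈ C.good blk T by rw [hg]; trivial).choose_spec.1⟩) fun γ δ =>
    Subtype.ext (Cov.unique hsurj (show γ * δ ∈ C.good blk T by rw [hg]; trivial).choose_spec.2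
      ((show γ ∈ C.good blk T by rw [hg]; trivial).choose_spec.2.mul
        (show δ ∈ C.good blk T by rw [hg]; trivial).choose_spec.2))

theorem blockHom_eq (hsurj : ∀ i, ∃ x, blk x = some i) (hg : C.good blk T = ⊤) {γ : cent γ₀}
    {p : Equiv.Perm (Fin N)} (hp : C.Cov blk γ p) : (C.blockHom blk T hsurj hg γ : Equiv.Perm (Fin N)) = p :=
  Cov.unique hsurj (show γ ∈ C.good blk T by rw [hg]; trivial).choose_spec.2 hp

theorem blockHom_eq_one (hsurj : ∀ i, ∃ x, blk x = some i) (hg : C.good blk T = ⊤) {γ : cent γ₀}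
    (h : C.rho γ = 1) : C.blockHom blk T hsurj hg γ = 1 :=
  Subtype.ext (C.blockHom_eq blk T hsurj hg fun x => by
    rw [h, Equiv.Perm.one_apply, OneMemClass.coe_one, Equiv.Perm.coe_one, Option.map_id]
    rfl)

end Coord

/-! ### The stabiliser of the frame -/

theorem sgnW_inj' {c d : golayCode} (h : sgnW c = sgnW d) : c = d :=
  Multiplicative.ofAdd.injective (sgnHom_injective h)

theorem permW_mul' (σ τ : M24) : permW (σ * τ) = permW σ * permW τ := map_mul permHom σ τ

theorem sgnW_zero' : sgnW (0 : golayCode) = 1 := map_one sgnHom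

/-- A monomial automorphism commutes with a permutation exactly when both of its parts do. -/
theorem mono_comm_iff (σ : M24) (c : golayCode) (π : M24) :
    sgnW c * permW π * permW σ = permW σ * (sgnW c * permW π) ↔
      CfsgLib.GolayModule.act (σ : Equiv.Perm GolayPt) c.1 = c.1 ∧ π * σ = σ * π := by
  have h2 : permW σ * (sgnW c * permW π) = sgnW ⟨_, act_code σ.2 c⟩ * permW (σ * π) := by
    rw [← mul_assoc, permW_mul', ← mul_assoc]
    congr 1
    exact mul_inv_eq_iff_eq_mul.mp (perm_sgn σ c)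
  rw [mul_assoc, ← permW_mul', h2]
  constructor
  · intro h
    have hp := mono_unique h
    rw [hp] at h
    exact ⟨(congrArg Subtype.val (sgnW_inj' (mul_right_cancel h))).symm, hp⟩
  · rintro ⟨hc, hp⟩
    rw [hp, show (⟨_, act_code σ.2 c⟩ : golayCode) = c from Subtype.ext hc]

theorem permW_mem_cent {σ π : M24} (h : π * σ = σ * π) : permW π ∈ cent (permW σ) :=
  Subgroup.mem_centralizer_singleton_iff.mpr (by rw [← permW_mul', ← permW_mul', h])

theorem sgnW_mem_cent {σ : M24} {c : golayCode}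
    (h : CfsgLib.GolayModule.act (σ : Equiv.Perm GolayPt) c.1 = c.1) : sgnW c ∈ cent (permW σ) :=
  Subgroup.mem_centralizer_singleton_iff.mpr (by
    have := (mono_comm_iff σ c 1).mpr ⟨h, by rw [one_mul, mul_one]⟩
    rwa [show permW (1 : M24) = 1 from map_one permHom, mul_one] at this)

variable {σ : M24} {n N : ℕ} (C : Coord (permW σ) n) (blk : Fin n → Option (Fin N))
  (T : Subgroup (Equiv.Perm (Fin N))) (e : Fin n)

theorem rho_eq_iff_frame (he : Cong (C.lift e) (LeechEight.latE none)) (γ : cent (permW σ)) :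
    C.rho γ e = e ↔ Cong ((γ : Co0) • LeechEight.latE none) (LeechEight.latE none) := by
  constructor
  · intro h
    exact ((he.symm'.smul' _).trans' (C.cong_of_rho_eq h)).trans' he
  · intro h
    rw [C.rho_apply, C.kap_congr (((he.smul' _).trans' h).trans' he.symm'), C.kap_lift]

theorem exists_mono (he : Cong (C.lift e) (LeechEight.latE none)) {γ : cent (permW σ)} (h : C.rho γ e = e) :
    ∃ cπ : {c : golayCode // CfsgLib.GolayModule.act (σ : Equiv.Perm GolayPt) c.1 = c.1} × {π : M24 // π * σ = σ * π},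
      (γ : Co0) = sgnW cπ.1.1 * permW cπ.2.1 := by
  obtain ⟨c, π, hγ⟩ := cong_latE_iff.mp ((rho_eq_iff_frame C e he γ).mp h)
  have hc := Subgroup.mem_centralizer_singleton_iff.mp γ.2
  rw [hγ] at hc
  obtain ⟨h1, h2⟩ := (mono_comm_iff σ c π).mp hc
  exact ⟨⟨⟨c, h1⟩, ⟨π, h2⟩⟩, hγ⟩

theorem qv_latE (j : GolayPt) : qv (LeechEight.latE j) = 0 := by
  have := sqNorm_image_latE 1 j
  rw [one_smul] at this
  rw [qv, this]
  rfl

theorem rho_frame_mem (he : Cong (C.lift e) (LeechEight.latE none)) (he0 : e ≠ C.kap 0) (γ : cent (permW σ)) :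
    qv (C.lift (C.rho γ e)) = 0 ∧ C.rho γ e ≠ C.kap 0 := by
  refine ⟨?_, fun h => he0 ((C.rho γ).injective (h.trans (C.rho_kap_zero γ).symm))⟩
  rw [← qv_cong (C.cong_of_rho_eq rfl), qv_smul, qv_cong he, qv_latE]

theorem good_eq_top (he : Cong (C.lift e) (LeechEight.latE none)) (he0 : e ≠ C.kap 0)
    (hperm : ∀ (π : M24) (h : π * σ = σ * π), ⟨permW π, permW_mem_cent h⟩ ∈ C.good blk T)
    (hsgn : ∀ (c : golayCode) (h : CfsgLib.GolayModule.act (σ : Equiv.Perm GolayPt) c.1 = c.1),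
      ⟨sgnW c, sgnW_mem_cent h⟩ ∈ C.good blk T)
    (horb : ∀ x, qv (C.lift x) = 0 → x ≠ C.kap 0 → ∃ δ ∈ C.good blk T, C.rho δ e = x) :
    C.good blk T = ⊤ := by
  refine (Subgroup.eq_top_iff' _).mpr fun γ => ?_
  obtain ⟨h1, h2⟩ := rho_frame_mem C e he he0 γ
  obtain ⟨δ, hδ, hδx⟩ := horb _ h1 h2
  have hfix : C.rho (δ⁻¹ * γ) e = e := by
    rw [map_mul, map_inv, Equiv.Perm.mul_apply, Equiv.Perm.inv_eq_iff_eq]
    exact hδx.symm
  obtain ⟨⟨⟨c, hc⟩, ⟨π, hπ⟩⟩, hcπ⟩ := exists_mono C e he hfix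
  have : δ⁻¹ * γ = (⟨sgnW c, sgnW_mem_cent hc⟩ : cent (permW σ)) * ⟨permW π, permW_mem_cent hπ⟩ :=
    Subtype.ext hcπ
  rw [show γ = δ * (δ⁻¹ * γ) by group, this]
  exact mul_mem hδ (mul_mem (hsgn c hc) (hperm π hπ))

/-- The order of the centraliser is bounded by the orbit and the monomial part. -/
theorem card_cent_le (he : Cong (C.lift e) (LeechEight.latE none)) (he0 : e ≠ C.kap 0) :
    Nat.card (cent (permW σ)) ≤
      Nat.card {x : Fin n // qv (C.lift x) = 0 ∧ x ≠ C.kap 0} *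
        (Nat.card {c : golayCode // CfsgLib.GolayModule.act (σ : Equiv.Perm GolayPt) c.1 = c.1} *
          Nat.card {π : M24 // π * σ = σ * π}) := by
  classical
  haveI := CfsgLib.Golay.co0_finite
  haveI : Finite golayCode := inferInstance
  letI : MulAction (cent (permW σ)) (Fin n) := MulAction.compHom (Fin n) C.rho
  rw [← Nat.card_congr (MulAction.orbitProdStabilizerEquivGroup (cent (permW σ)) e), Nat.card_prod]
  refine Nat.mul_le_mul ?_ ?_
  · refine Nat.card_le_card_of_injective (fun x => (⟨x.1, ?_⟩ : {x : Fin n // qv (C.lift x) = 0 ∧ x ≠ C.kap 0}))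
      fun a b h => Subtype.ext (congrArg (fun t => t.1) h)
    obtain ⟨γ, hγ⟩ := x.2
    rw [← hγ]
    exact rho_frame_mem C e he he0 γ
  · rw [← Nat.card_prod]
    choose f hf using fun γ : MulAction.stabilizer (cent (permW σ)) e => exists_mono C e he γ.2
    refine Nat.card_le_card_of_injective f fun a b h => Subtype.ext (Subtype.ext ?_)
    rw [hf a, hf b, h]

end CfsgLib.MonsterLocal21
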