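import Mathlib

/-! Tables for the centraliser in the lattice automorphism group of a fixed-point-free element of order 3 of the
monomial subgroup: a basis of the fixed lattice, dual vectors, a non-monomial element, the nine blocks. -/

set_option autoImplicit false

namespace CfsgLib.MonsterLocal21.Thompson

def sigInv : List ℕ :=
  [23, 0, 4, 2, 3, 16, 12, 9, 18, 15, 8, 14, 21, 11, 13, 7, 20, 22, 10, 17, 5, 6, 19, 1]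

def genA : List ℕ :=
  [20, 16, 14, 11, 13, 18, 23, 4, 6, 3, 21, 17, 1, 19, 22, 2, 10, 15, 12, 9, 8, 0, 7, 5]

def genAInv : List ℕ :=
  [21, 12, 15, 9, 7, 23, 8, 22, 20, 19, 16, 3, 18, 4, 2, 17, 1, 11, 5, 13, 0, 10, 14, 6]

def genB : List ℕ :=
  [19, 22, 8, 10, 18, 16, 12, 4, 15, 3, 9, 1, 21, 23, 0, 2, 20, 13, 7, 14, 5, 6, 11, 17]

def genBInv : List ℕ :=
  [14, 11, 15, 9, 7, 20, 21, 18, 2, 10, 3, 22, 6, 17, 19, 8, 5, 23, 4, 0, 16, 12, 1, 13]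

def cycOf : List ℕ :=
  [0, 0, 1, 1, 1, 2, 3, 4, 5, 4, 5, 6, 3, 6, 6, 4, 2, 7, 5, 7, 2, 3, 7, 0]

def cycRep : List ℕ :=
  [0, 2, 5, 6, 7, 8, 11, 17]

def basA : List (List ℤ) :=
  [[1, 1, 1, 1, 1, 1, 1, 5],
  [0, 2, 0, 0, 0, 2, 2, 2],
  [0, 0, 2, 0, 2, 2, 0, 2],
  [0, 0, 0, 2, 2, 0, 2, 2],
  [0, 0, 0, 0, 4, 0, 0, 4],
  [0, 0, 0, 0, 0, 4, 0, 4],
  [0, 0, 0, 0, 0, 0, 4, 4],
  [0, 0, 0, 0, 0, 0, 0, 8]]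

def basRows : List (List ℤ) :=
  [[1, 1, 1, 1, 1, 1, 1, 1, 1, 1, 1, 1, 1, 1, 1, 1, 1, 5, 1, 5, 1, 1, 5, 1],
  [0, 0, 2, 2, 2, 0, 0, 0, 2, 0, 2, 2, 0, 2, 2, 0, 0, 2, 2, 2, 0, 0, 2, 0],
  [0, 0, 0, 0, 0, 2, 0, 2, 2, 2, 2, 0, 0, 0, 0, 2, 2, 2, 2, 2, 2, 0, 2, 0],
  [0, 0, 0, 0, 0, 0, 2, 2, 0, 2, 0, 2, 2, 2, 2, 2, 0, 2, 0, 2, 0, 2, 2, 0],
  [0, 0, 0, 0, 0, 0, 0, 4, 0, 4, 0, 0, 0, 0, 0, 4, 0, 4, 0, 4, 0, 0, 4, 0],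
  [0, 0, 0, 0, 0, 0, 0, 0, 4, 0, 4, 0, 0, 0, 0, 0, 0, 4, 4, 4, 0, 0, 4, 0],
  [0, 0, 0, 0, 0, 0, 0, 0, 0, 0, 0, 4, 0, 4, 4, 0, 0, 4, 0, 4, 0, 0, 4, 0],
  [0, 0, 0, 0, 0, 0, 0, 0, 0, 0, 0, 0, 0, 0, 0, 0, 0, 8, 0, 8, 0, 0, 8, 0]]

def dualRows : List (List ℤ) :=
  [[0, 0, 0, 0, 0, 0, 0, 0, 0, 0, 0, 0, 0, 0, 0, 0, 0, 8, 0, 8, 0, 0, 8, 0],
  [0, 0, 0, 0, 0, 0, 0, 4, 0, 4, 0, 0, 0, 0, 0, 4, 0, 12, 0, 12, 0, 0, 12, 0],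
  [0, 0, 0, 0, 0, 0, 0, 0, 0, 0, 0, 4, 0, 4, 4, 0, 0, 12, 0, 12, 0, 0, 12, 0],
  [0, 0, 0, 0, 0, 0, 0, 0, 4, 0, 4, 0, 0, 0, 0, 0, 0, 12, 4, 12, 0, 0, 12, 0],
  [0, 0, 2, 2, 2, 0, 0, 0, 6, 0, 6, 6, 0, 6, 6, 0, 0, 10, 6, 10, 0, 0, 10, 0],
  [0, 0, 0, 0, 0, 0, 2, 6, 0, 6, 0, 6, 2, 6, 6, 6, 0, 10, 0, 10, 0, 2, 10, 0],
  [0, 0, 0, 0, 0, 2, 0, 6, 6, 6, 6, 0, 0, 0, 0, 6, 2, 10, 6, 10, 2, 0, 10, 0],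
  [1, 1, 3, 3, 3, 3, 3, 5, 5, 5, 5, 5, 3, 5, 5, 5, 3, 11, 5, 11, 3, 3, 11, 1]]

def gamRows : List (List ℤ) :=
  [[-4, 0, 2, -2, 2, 2, -2, 0, 0, 0, 0, 0, 2, 0, 0, 0, -2, 2, 0, 2, 2, 2, 2, 0],
  [0, -4, 2, 2, -2, -2, 2, 0, 0, 0, 0, 0, 2, 0, 0, 0, 2, 2, 0, 2, 2, -2, 2, 0],
  [2, 2, 4, 0, 0, 0, 0, 2, -2, -2, -2, -2, 0, 2, 2, -2, 0, 0, -2, 0, 0, 0, 0, -2],
  [-2, 2, 0, 4, 0, 0, 0, -2, -2, -2, -2, 2, 0, -2, 2, 2, 0, 0, -2, 0, 0, 0, 0, 2],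
  [2, -2, 0, 0, 4, 0, 0, -2, -2, 2, -2, 2, 0, 2, -2, -2, 0, 0, -2, 0, 0, 0, 0, 2],
  [2, 2, 0, 0, 0, 0, 0, 2, -2, -2, 2, 2, 0, 2, -2, 2, 0, 4, 2, 0, 0, 0, 0, 2],
  [0, 0, 2, 2, 2, -2, -2, 0, 0, 0, 0, 0, 2, 0, 0, 0, 2, -2, 4, -2, -2, 2, 2, 0],
  [-2, -2, 0, 0, 0, 0, 0, 2, 2, -2, -2, 2, -4, 2, 2, -2, 0, 0, 2, 0, 0, 0, 0, 2],
  [0, 0, -2, -2, 2, -2, 2, 0, 0, -4, 0, 0, 2, 0, 0, 0, -2, -2, 0, 2, -2, -2, 2, 0],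
  [-2, 2, 0, 0, 0, 0, 0, -2, -2, 2, 2, 2, 0, 2, 2, -2, 0, 0, 2, 0, 0, -4, 0, -2],
  [0, 0, 2, -2, -2, -2, 2, -4, 0, 0, 0, 0, -2, 0, 0, 0, -2, 2, 0, -2, -2, 2, 2, 0],
  [-2, -2, 0, 0, 0, 0, 0, 2, -2, 2, 2, -2, 0, 2, 2, 2, 0, 0, -2, 0, -4, 0, 0, 2],
  [0, 0, 2, 2, 2, -2, 2, 0, 0, 0, 4, 0, -2, 0, 0, 0, -2, -2, 0, 2, 2, 2, -2, 0],
  [2, -2, 0, 0, 0, 0, 0, 2, -2, 2, -2, 2, 0, -2, 2, 2, -4, 0, 2, 0, 0, 0, 0, -2],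
  [-2, 2, 0, 0, 0, -4, 0, 2, 2, 2, -2, 2, 0, 2, -2, 2, 0, 0, -2, 0, 0, 0, 0, -2],
  [2, -2, 0, 0, 0, 0, -4, -2, 2, -2, 2, 2, 0, 2, 2, 2, 0, 0, -2, 0, 0, 0, 0, -2],
  [2, 2, 0, 0, 0, 0, 0, 2, 2, 2, 2, 2, 0, -2, 2, -2, 0, 0, -2, 0, 0, 0, 4, 2],
  [0, 0, -2, -2, 2, -2, 2, 0, 0, 0, 0, 0, 2, 0, 4, 0, 2, 2, 0, -2, 2, 2, -2, 0],
  [0, 0, -2, 2, -2, -2, -2, 0, 0, 0, 0, 0, 2, 0, 0, -4, -2, 2, 0, 2, -2, 2, -2, 0],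
  [0, 0, 2, -2, -2, 2, 2, 0, 0, 0, 0, 4, 2, 0, 0, 0, 2, -2, 0, 2, -2, 2, -2, 0],
  [2, 2, 0, 0, 0, 0, 0, -2, 2, 2, -2, -2, 0, 2, 2, 2, 0, 0, 2, 4, 0, 0, 0, 2],
  [0, 0, 2, 2, 2, 2, 2, 0, 4, 0, 0, 0, 2, 0, 0, 0, -2, 2, 0, -2, -2, -2, -2, 0],
  [0, 0, -2, 2, -2, 2, 2, 0, 0, 0, 0, 0, 2, 4, 0, 0, -2, -2, 0, -2, 2, 2, 2, 0],
  [0, 0, -2, 2, 2, 2, 2, 0, 0, 0, 0, 0, -2, 0, 0, 0, 2, 2, 0, 2, -2, 2, 2, -4]]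

def blkTab : List ℕ :=
  [9, 0, 9, 9, 9, 9, 9, 9, 9, 9, 9, 9, 9, 9, 0, 0, 1, 9, 2, 9, 9, 3, 4, 9, 9, 5, 6, 9, 9, 7, 9, 8, 1, 9, 9, 2, 9, 5, 9, 6, 4, 9, 3, 9, 8, 9, 9, 7, 1, 2, 7, 8, 9, 9, 0, 0, 0, 0, 9, 9, 5, 6, 4, 3, 1, 9, 9, 5, 3, 9, 7, 9, 9, 4, 9, 8, 2, 9, 9, 6, 1, 3, 0, 0, 8, 6, 9, 9, 9, 9, 5, 7, 0, 0, 2, 4, 1, 4, 9, 9, 0, 0, 5, 8, 6, 7, 0, 0, 9, 9, 3, 2, 1, 9, 6, 9, 7, 9, 9, 4, 8, 9, 9, 3, 9, 2, 9, 5, 1, 9, 9, 3, 9, 4, 9, 7, 9, 2, 9, 6, 9, 8, 5, 9, 1, 6, 8, 4, 9, 9, 3, 5, 9, 9, 7, 2, 9, 9, 9, 9, 1, 8, 9, 9, 9, 9, 9, 9, 7, 3, 2, 5, 6, 4, 9, 9, 1, 9, 5, 9, 9, 7, 6, 9, 2, 9, 9, 4, 3, 9, 8, 9, 1, 7, 9, 9, 6, 2, 8, 3, 9, 9, 9, 9, 4, 5, 9, 9, 1, 9, 3, 9, 5, 9, 9, 2, 9, 8, 4, 9, 7, 9, 6, 9, 1, 9, 9, 6, 4, 9, 2, 9, 5, 9, 8, 9, 9, 3, 7, 9, 1, 5, 4, 7, 2, 8, 9, 9,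 3, 6, 9, 9, 9, 9, 9, 9]

def frameIdx : ℕ :=
  128

def fixIdx : List ℕ :=
  [0, 124, 671, 739, 1343, 1347, 1952, 2012, 2083, 2143, 2748, 2752, 3356, 3424, 3971, 4095]

def signIdx : List ℕ :=
  [124, 671, 1343, 2083]

def genImg : List (List ℕ) :=
  [[6, 1, 8, 5, 7, 2, 4, 0, 3],
  [7, 1, 2, 3, 8, 0, 4, 5, 6],
  [1, 0, 3, 2, 8, 6, 4, 5, 7],
  [5, 1, 6, 7, 8, 0, 2, 3, 4],
  [7, 1, 4, 5, 2, 3, 8, 0, 6],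
  [2, 1, 0, 8, 7, 6, 5, 4, 3],
  [8, 1, 3, 2, 5, 4, 7, 6, 0]]

def genImgInv : List (List ℕ) :=
  [[7, 1, 5, 8, 6, 3, 0, 4, 2],
  [5, 1, 2, 3, 6, 7, 8, 0, 4],
  [1, 0, 3, 2, 6, 7, 5, 8, 4],
  [5, 1, 6, 7, 8, 0, 2, 3, 4],
  [7, 1, 4, 5, 2, 3, 8, 0, 6],
  [2, 1, 0, 8, 7, 6, 5, 4, 3],
  [8, 1, 3, 2, 5, 4, 7, 6, 0]]

def orbWord : List (List ℕ) :=
  [[],
  [6, 1, 2, 0, 2],
  [],
  [],
  [],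
  [],
  [],
  [],
  [],
  [],
  [],
  [],
  [],
  [],
  [1, 5, 0, 2],
  [0, 2, 6, 2],
  [0, 0, 2, 2],
  [],
  [3, 0, 2],
  [],
  [],
  [4, 2, 4, 2],
  [6, 3, 2],
  [],
  [],
  [2, 4, 2],
  [1, 2, 1, 0, 2],
  [],
  [],
  [2, 2, 0, 0, 2],
  [],
  [2, 6, 2, 1, 2],
  [2, 2],
  [],
  [],
  [0, 2, 1, 2],
  [],
  [3, 2, 2, 2],
  [],
  [4, 1, 2, 0, 2],
  [0, 0, 2],
  [],
  [0, 1, 0, 0, 2],
  [],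
  [1, 1, 0, 2],
  [],
  [],
  [2, 6, 2],
  [2, 2, 2, 2],
  [0, 6, 2, 0, 2],
  [6, 0, 2],
  [0, 4, 2, 0, 2],
  [],
  [],
  [2],
  [3, 2, 4, 2],
  [4, 1, 2],
  [1, 2, 1, 2],
  [],
  [],
  [3, 0, 1, 2],
  [2, 2, 1, 2],
  [1, 0, 2],
  [1, 2, 3, 0, 2],
  [0, 2, 2],
  [],
  [],
  [3, 2, 3, 2, 2],
  [2, 5, 2],
  [],
  [4, 2],
  [],
  [],
  [4, 2, 3, 1, 2],
  [],
  [1, 2, 0, 2],
  [5, 0, 1, 2],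
  [],
  [],
  [5, 2, 1, 2],
  [2, 0, 1, 2],
  [3, 2, 6, 2],
  [0, 4, 2],
  [2, 0, 2, 2],
  [1, 0, 0, 2],
  [0, 2, 2, 2],
  [],
  [],
  [],
  [],
  [0, 2, 5, 2],
  [1, 2, 2, 2],
  [0, 1, 2],
  [2, 3, 2, 2],
  [4, 1, 0, 2],
  [3, 2, 0, 0, 2],
  [0, 2, 0, 1, 2],
  [4, 2, 4, 3, 2],
  [],
  [],
  [3, 1, 1, 2],
  [1, 2, 4, 2],
  [3, 2],
  [2, 0, 6, 1, 2],
  [6, 1, 2],
  [2, 1, 1, 0, 2],
  [6, 2, 1, 0, 2],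
  [2, 2, 2],
  [],
  [],
  [1, 0, 6, 2],
  [1, 0, 2, 1, 2],
  [0, 0, 0, 2, 2],
  [],
  [0, 2],
  [],
  [1, 4, 1, 2],
  [],
  [],
  [5, 2, 6, 2],
  [3, 0, 0, 2],
  [],
  [],
  [4, 2, 1, 2],
  [],
  [2, 4, 3, 2],
  [],
  [1, 5, 2, 0, 2],
  [],
  [],
  [],
  [2, 3, 0, 2],
  [],
  [3, 1, 2, 0, 2],
  [],
  [4, 2, 2, 2],
  [],
  [1, 4, 2, 0, 2],
  [],
  [2, 2, 4, 2],
  [],
  [2, 4, 3, 0, 2],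
  [6, 1, 0, 2],
  [],
  [1, 2, 0, 1, 2],
  [5, 2, 4, 2],
  [4, 0, 2],
  [6, 2, 4, 2],
  [],
  [],
  [4, 3, 2],
  [2, 1, 2],
  [],
  [],
  [2, 1, 0, 0, 2],
  [2, 2, 5, 2],
  [],
  [],
  [],
  [],
  [3, 2, 2],
  [2, 0, 0, 2],
  [],
  [],
  [],
  [],
  [],
  [],
  [1, 2],
  [5, 2, 0, 0, 2],
  [0, 1, 1, 2],
  [2, 2, 6, 2],
  [2, 1, 1, 2],
  [6, 2, 1, 2],
  [],
  [],
  [1, 0, 2, 2],
  [],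
  [5, 0, 2],
  [],
  [],
  [0, 2, 0, 2],
  [5, 3, 2],
  [],
  [1, 5, 2],
  [],
  [],
  [2, 0, 2],
  [3, 0, 0, 0, 2],
  [],
  [3, 1, 0, 2],
  [],
  [3, 0, 2, 2],
  [4, 2, 3, 2, 2],
  [],
  [],
  [5, 1, 1, 2],
  [2, 3, 1, 2],
  [6, 2],
  [6, 2, 4, 3, 2],
  [],
  [],
  [],
  [],
  [0, 6, 1, 2],
  [1, 2, 6, 2],
  [],
  [],
  [1, 2, 2],
  [],
  [0, 6, 2],
  [],
  [1, 1, 2],
  [],
  [],
  [4, 2, 0, 2],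
  [],
  [0, 0, 2, 1, 2],
  [3, 2, 1, 0, 2],
  [],
  [0, 0, 0, 2],
  [],
  [1, 4, 0, 2],
  [],
  [0, 1, 2, 2],
  [],
  [],
  [2, 3, 2, 2, 2],
  [6, 1, 1, 2],
  [],
  [5, 2],
  [],
  [1, 4, 2],
  [],
  [2, 1, 0, 2],
  [],
  [],
  [5, 3, 2, 0, 2],
  [0, 1, 0, 2],
  [],
  [2, 3, 1, 1, 2],
  [6, 2, 0, 2],
  [4, 3, 0, 2],
  [5, 2, 0, 2],
  [1, 1, 5, 2],
  [3, 2, 0, 2],
  [],
  [],
  [3, 1, 2],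
  [4, 3, 2, 0, 2],
  [],
  [],
  [],
  [],
  [],
  []]

def transWord : List (List (List ℕ)) :=
  [[[], [2], [5], [3, 1], [0, 0], [3], [0], [1], [6]],
  [[], [5, 2, 3, 1], [2, 5, 2], [2, 0, 2], [3, 2, 1], [2, 3, 2], [1, 2, 1], [6, 2, 0, 0]],
  [[], [1, 5, 0], [4, 1], [6, 1, 1, 0], [0, 6, 0], [0, 4], [0, 1]],
  [[], [3, 2, 2, 3, 0, 0], [2, 2, 4, 0, 1, 0], [5, 2, 2, 5], [6, 1, 2, 2, 5, 0], [4, 0, 1, 0]],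
  [[], [1, 5, 1, 2, 2, 0], [6, 1, 0, 0], [2, 2], [6, 2, 2, 6, 1]],
  [[], [3, 1, 2, 2, 1, 0], [0, 1, 2, 2, 4, 1], [4, 2, 2, 0, 0, 0, 1]],
  [[], [4, 2, 2, 1, 2, 2, 4], [6, 0, 2, 2, 4, 2, 2, 3]]]

def cenProg : List (ℕ × ℕ) :=
  [(1, 1), (1, 2), (3, 2), (3, 3), (5, 3), (5, 4), (7, 4), (7, 5), (9, 5), (9, 6), (11, 6), (12, 6), (12, 7), (14, 7), (14, 8), (16, 8), (16, 9), (18, 9), (19, 9), (20, 9), (20, 10), (22, 10), (22, 11), (24, 11), (24, 12), (26, 12), (26, 13), (27, 13), (29, 13), (30, 13), (31, 13), (31, 14), (33, 14), (33, 15), (35, 14), (36, 14), (37, 14), (38, 14), (38, 14), (40, 14), (40, 15), (41, 15), (43, 15), (44, 15), (45, 15), (45, 16), (46, 16), (48, 16), (48, 17), (50, 17), (51, 17), (52, 17), (53, 17), (53, 17), (54, 17), (55, 17), (56, 17), (57,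 17), (59, 17), (60, 17), (61, 17), (61, 17), (63, 17), (63, 16), (65, 16), (66, 16), (66, 16), (67, 15), (68, 15), (70, 15), (71, 15), (72, 15), (73, 15), (74, 15), (74, 16), (75, 16), (76, 16), (78, 16), (78, 16), (79, 16), (81, 16), (81, 16), (82, 16), (84, 16), (85, 16), (86, 16), (86, 16), (87, 16), (88, 16), (89, 16), (90, 16), (92, 16), (92, 16), (93, 16), (94, 16), (96, 16), (96, 16), (97, 16), (98, 16), (100, 16), (100, 16), (102, 16), (102, 16), (104, 16), (105, 16), (105, 16), (106, 16), (107, 15), (109, 14), (109, 14), (111, 13), (112, 13), (113, 11), (114, 9), (115, 7), (115, 7), (116, 7), (118, 7), (118, 7), (119, 7), (121, 7), (122, 7), (122, 7), (124, 7), (125, 7), (125, 7), (127, 7), (127, 7), (129, 7), (129, 7)]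

def cenLev : List ℕ :=
  [104, 118, 121, 99, 116, 131, 103, 124, 112, 113, 123, 89, 125, 126, 111, 127, 128, 130, 129, 119, 122, 117, 105, 132]

def cenStages : List (List ℕ × List ℕ × List ℕ) :=
  [([23, 0, 1], [], [23]),
  ([2, 3, 4], [], [0, 1, 2, 3, 4, 5, 6, 7, 8, 9, 10, 11, 12, 13, 14, 15, 16, 17, 18, 19, 20, 21, 22, 23]),
  ([5, 20, 16], [], [0, 1, 2, 3, 4, 5, 6, 7, 8, 9, 10, 11, 12, 13, 14, 15, 16, 17, 18, 19, 20, 21, 22, 23]),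
  ([6, 21, 12], [11538486, 9506893, 2162811], [0, 1, 2, 3, 4, 5, 6, 7, 8, 9, 10, 11, 12, 13, 14, 15, 16, 17, 18, 19, 20, 21, 22, 23]),
  ([7, 15, 9], [9474712, 2130606, 99029, 11637475], [0, 1, 2, 3, 4, 5, 6, 7, 8, 9, 10, 11, 12, 13, 14, 15, 16, 17, 18, 19, 20, 21, 22, 23]),
  ([8, 10, 18], [1413139, 10846245, 8683614, 3444840, 3182981, 2425238, 9769376, 8421811, 10584520, 262637, 8716939, 1315526], [0, 1, 2, 3, 4, 5, 6, 7, 8, 9, 10, 11, 12, 13, 14, 15, 16, 17, 18, 19, 20, 21, 22, 23]),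
  ([11, 13, 14], [3416079, 2207772, 9543722, 8663097, 10825794, 11575377, 45159, 1384564, 9465987, 10768524, 8773776, 118953], [0, 1, 2, 3, 4, 5, 6, 7, 8, 9, 10, 11, 12, 13, 14, 15, 16, 17, 18, 19, 20, 21, 22, 23]),
  ([17, 19, 22], [13062145, 4845570, 9347075, 13938692, 1302533, 10305542, 5902343, 7221256, 11100169, 2605066, 14716939, 12222476], [0, 1, 2, 3, 4, 5, 6, 7, 8, 9, 10, 11, 12, 13, 14, 15, 16, 17, 18, 19, 20, 21, 22, 23])]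

def genMat : List (List (List ℤ)) :=
  [[[24, 96, 48, 48, 72, 144, 144, 168], [48, 96, 96, 72, 96, 144, 96, 144], [0, 24, 0, 24, 48, 48, 72, 96], [48, 96, 72, 72, 72, 96, 96, 120], [0, 48, 0, 0, 24, 72, 72, 96], [0, 48, 0, 0, 0, 96, 72, 96], [96, 192, 144, 144, 120, 192, 192, 192], [0, 96, 0, 0, 0, 144, 144, 120]],
  [[24, 48, 96, 48, 144, 144, 72, 168], [0, 24, 24, 24, 72, 72, 72, 96], [0, 24, 24, 0, 48, 72, 48, 96], [0, 0, 24, 0, 48, 48, 0, 72], [0, 0, 48, 0, 96, 72, 0, 96], [0, 48, 48, 0, 72, 144, 72, 120], [0, 0, 48, 0, 72, 72, 0, 72], [0, 0, 96, 0, 144, 144, 0, 120]],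
  [[0, 0, 0, 0, 0, 0, 24, 48], [0, 24, 0, 0, 0, 48, 48, 72], [0, 0, 0, -24, -48, 0, -24, -24], [48, 72, 96, 72, 96, 96, 72, 120], [-24, -48, 0, -48, 0, 0, -48, 0], [-24, -24, -48, -24, -48, -24, 24, 0], [24, 72, 48, 48, 72, 96, 120, 144], [-48, -72, -72, -48, -24, -72, 0, 0]],
  [[-120, -168, -168, -168, -120, -120, -120, -144], [-48, -72, -48, -48, 0, -24, -24, -24], [-48, -48, -72, -48, -24, -24, 0, -24], [-48, -48, -48, -72, -24, 0, -24, -24], [-96, -96, -144, -144, -120, -48, -48, -72], [-96, -144, -144, -96, -48, -120, -48, -72], [-96, -144, -96, -144, -48, -48, -120, -72], [-192, -288, -288, -288, -240, -240, -240, -264]],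
  [[-120, -192, -168, -168, -120, -144, -144, -144], [-48, -72, -48, -48, 0, -24, -24, -24], [-48, -96, -72, -48, -24, -96, -48, -48], [-48, -96, -48, -72, -24, -48, -96, -48], [-96, -192, -144, -144, -120, -192, -192, -192], [-96, -144, -144, -96, -48, -120, -48, -72], [-96, -144, -96, -144, -48, -48, -120, -72], [-192, -288, -288, -288, -240, -240, -240, -264]],
  [[120, 192, 192, 168, 144, 192, 144, 168], [48, 72, 96, 48, 48, 96, 24, 48], [48, 96, 72, 48, 24, 96, 48, 48], [48, 96, 96, 72, 96, 144, 96, 144], [96, 192, 144, 144, 120, 192, 192, 192], [96, 144, 144, 96, 48, 120, 48, 72], [96, 144, 192, 144, 192, 192, 120, 192], [192, 288, 288, 288, 240, 240, 240, 264]],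
  [[-120, -168, -192, -168, -144, -144, -120, -144], [-48, -72, -96, -48, -48, -96, -24, -48], [-48, -48, -72, -48, -24, -24, 0, -24], [-48, -48, -96, -72, -96, -48, -24, -48], [-96, -96, -144, -144, -120, -48, -48, -72], [-96, -144, -144, -96, -48, -120, -48, -72], [-96, -144, -192, -144, -192, -192, -120, -192], [-192, -288, -288, -288, -240, -240, -240, -264]]]

end CfsgLib.MonsterLocal21.Thompson
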