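import Mathlib
import Cfsg.Agent.Lib.Golay.Classes
import Cfsg.Agent.Lib.Schur.GolaySearch
import Cfsg.Agent.Lib.MonsterLocal21.ThompsonData

/-! The centraliser in the group of the code of a fixed-point-free element of order 3: two generators, 504
elements. -/

set_option autoImplicit false
set_option Elab.async false

namespace CfsgLib.MonsterLocal21.Thompson

open Cfsg CfsgLib.Golay CfsgLib.Schur.GolaySearch

/-- Two image lists inverse to each other. -/
def invOK (l li : List ℕ) : Bool :=
  decide (∀ i : Fin 24, l.getD i.val 0 < 24 ∧ li.getD (l.getD i.val 0) 0 = i.val) &&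
    decide (∀ i : Fin 24, li.getD i.val 0 < 24 ∧ l.getD (li.getD i.val 0) 0 = i.val)

/-- The function of an image list. -/
def imgFun (l : List ℕ) (p : GolayPt) : GolayPt := pt ⟨l.getD (idx p).val 0 % 24, Nat.mod_lt _ (by norm_num)⟩

theorem imgFun_cancel {l li : List ℕ} (h : ∀ i : Fin 24, l.getD i.val 0 < 24 ∧ li.getD (l.getD i.val 0) 0 = i.val)
    (p : GolayPt) : imgFun li (imgFun l p) = p := by
  obtain ⟨h1, h2⟩ := h (idx p)
  simp only [imgFun, idx_pt, Nat.mod_eq_of_lt h1, h2, Nat.mod_eq_of_lt (idx p).isLt, Fin.eta, pt_idx]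

/-- The permutation of a pair of inverse image lists. -/
def permOf (l li : List ℕ) (h : invOK l li = true) : Equiv.Perm GolayPt where
  toFun := imgFun l
  invFun := imgFun li
  left_inv := imgFun_cancel (by simp only [invOK, Bool.and_eq_true, decide_eq_true_eq] at h; exact h.1)
  right_inv := imgFun_cancel (by simp only [invOK, Bool.and_eq_true, decide_eq_true_eq] at h; exact h.2)

/-- The element of order 3. -/
def sigP : Equiv.Perm GolayPt := permOf Classes.thrFree sigInv (by decide +kernel)

/-- The first generator of its centraliser. -/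
def gAP : Equiv.Perm GolayPt := permOf genA genAInv (by decide +kernel)

/-- The second generator of its centraliser. -/
def gBP : Equiv.Perm GolayPt := permOf genB genBInv (by decide +kernel)

theorem toList_gens : toList sigP = Classes.thrFree ∧ toList gAP = genA ∧ toList gBP = genB := by
  decide +kernel

theorem mem_M24_gens : sigP ∈ M24 ∧ gAP ∈ M24 ∧ gBP ∈ M24 := by
  obtain ⟨h1, h2, h3⟩ := toList_gens
  refine ⟨?_, ?_, ?_⟩ <;> rw [mem_M24_iff_isPres]
  · rw [h1]; decide +kernel
  · rw [h2]; decide +kernel
  · rw [h3]; decide +kernel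

/-- The element of order 3 in `M24`. -/
def sigM : M24 := ⟨sigP, mem_M24_gens.1⟩

/-- The generators in `M24`. -/
def gAM : M24 := ⟨gAP, mem_M24_gens.2.1⟩

/-- The second generator in `M24`. -/
def gBM : M24 := ⟨gBP, mem_M24_gens.2.2⟩

theorem comm_gens : gAM * sigM = sigM * gAM ∧ gBM * sigM = sigM * gBM :=
  ⟨Subtype.ext (by decide +kernel), Subtype.ext (by decide +kernel)⟩

theorem sigM_order : orderOf sigM = 3 := by
  have : Fact (Nat.Prime 3) := ⟨Nat.prime_three⟩
  refine orderOf_eq_prime (Subtype.ext ?_) fun h => ?_
  · show sigP ^ 3 = 1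
    decide +kernel
  · have h' : sigP none = none := congrArg (fun t : M24 => (t : Equiv.Perm GolayPt) none) h
    revert h'
    decide +kernel

/-- The stages, with the images of two points prescribed. -/
def yStages (y : ℕ) : List Stage := ([23, 0, 1], [], [23]) :: ([2, 3, 4], [], [y]) :: cenStages.drop 2

/-- The search for one image of the second point. -/
def yFound (y : ℕ) : List (List ℕ) := searchImg Classes.thrFree 0 (yStages y) (List.replicate 24 0)

/-- The searched list. -/
def cenFound : List (List ℕ) := (List.range 24).flatMap yFound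

/-- The list of the program. -/
def cenPerms : List (List ℕ) := runProg cenProg [genB, genA, List.range 24]

/-- The number of solutions for one image of the second point. -/
def yCount (y : ℕ) : ℕ := if y ∈ [2, 7, 10, 11, 12, 19, 20] then 3 else 0

/-- The check of one search. -/
def yOK (y : Fin 24) : Prop :=
  stagesOK Classes.thrFree 0 (yStages y.val) = true ∧
    ((yFound y.val).all fun l => cenPerms.contains l) = true ∧ (yFound y.val).length ≤ yCount y.val

theorem y_ok0 : yOK 0 := by unfold yOK; decide +kernel

theorem y_ok1 : yOK 1 := by unfold yOK; decide +kernel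

theorem y_ok2 : yOK 2 := by unfold yOK; decide +kernel

theorem y_ok3 : yOK 3 := by unfold yOK; decide +kernel

theorem y_ok4 : yOK 4 := by unfold yOK; decide +kernel

theorem y_ok5 : yOK 5 := by unfold yOK; decide +kernel

theorem y_ok6 : yOK 6 := by unfold yOK; decide +kernel

theorem y_ok7 : yOK 7 := by unfold yOK; decide +kernel

theorem y_ok8 : yOK 8 := by unfold yOK; decide +kernel

theorem y_ok9 : yOK 9 := by unfold yOK; decide +kernel

theorem y_ok10 : yOK 10 := by unfold yOK; decide +kernel

theorem y_ok11 : yOK 11 := by unfold yOK; decide +kernel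

theorem y_ok12 : yOK 12 := by unfold yOK; decide +kernel

theorem y_ok13 : yOK 13 := by unfold yOK; decide +kernel

theorem y_ok14 : yOK 14 := by unfold yOK; decide +kernel

theorem y_ok15 : yOK 15 := by unfold yOK; decide +kernel

theorem y_ok16 : yOK 16 := by unfold yOK; decide +kernel

theorem y_ok17 : yOK 17 := by unfold yOK; decide +kernel

theorem y_ok18 : yOK 18 := by unfold yOK; decide +kernel

theorem y_ok19 : yOK 19 := by unfold yOK; decide +kernel

theorem y_ok20 : yOK 20 := by unfold yOK; decide +kernel

theorem y_ok21 : yOK 21 := by unfold yOK; decide +kernel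

theorem y_ok22 : yOK 22 := by unfold yOK; decide +kernel

theorem y_ok23 : yOK 23 := by unfold yOK; decide +kernel

theorem y_ok (y : Fin 24) : yOK y := by
  fin_cases y
  exacts [y_ok0, y_ok1, y_ok2, y_ok3, y_ok4, y_ok5, y_ok6, y_ok7,
    y_ok8, y_ok9, y_ok10, y_ok11, y_ok12, y_ok13, y_ok14, y_ok15,
    y_ok16, y_ok17, y_ok18, y_ok19, y_ok20, y_ok21, y_ok22, y_ok23]

theorem cand_drop : ∀ s ∈ cenStages.drop 2, ∀ y : Fin 24, y.val ∈ s.2.2 := by decide +kernel

theorem lev_ok : ∀ y : Fin 24, (cenPerms.getD (cenLev.getD y.val 0) []).getD 23 0 = y.val := by decide +kernel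

theorem lev_lt : ∀ y : Fin 24, cenLev.getD y.val 0 < cenPerms.length := by decide +kernel

theorem count_sum : ((List.range 24).map yCount).sum = 21 := by decide +kernel

theorem toList_lt (π : Equiv.Perm GolayPt) (c : ℕ) : (toList π).getD c 0 < 24 := by
  by_cases hc24 : c < 24
  · rw [List.getD_eq_getElem _ _ (by rw [toList_length]; exact hc24), toList_getElem]
    exact Fin.isLt _
  · rw [List.getD_eq_default _ _ (by rw [toList_length]; omega)]
    norm_num

theorem toList_mem_found {π : M24} (h : π * sigM = sigM * π) (h0 : (π : Equiv.Perm GolayPt) none = none) :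
    toList (π : Equiv.Perm GolayPt) ∈ cenFound := by
  have hy := toList_lt (π : Equiv.Perm GolayPt) 2
  refine List.mem_flatMap.mpr ⟨_, List.mem_range.mpr hy, ?_⟩
  refine mem_searchImg_start π.2 (t := sigP) ?_ toList_gens.1 toList_gens.1 (y_ok ⟨_, hy⟩).1 fun s hs c hc => ?_
  · exact mul_inv_eq_iff_eq_mul.mpr (congrArg Subtype.val h)
  · rw [yStages, List.mem_cons, List.mem_cons] at hs
    rcases hs with rfl | rfl | hs
    · simp only [List.head?_cons, Option.some.injEq] at hc
      subst hc
      have := toList_getD (π : Equiv.Perm GolayPt) none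
      rw [h0] at this
      simp only [List.mem_singleton]
      exact this
    · simp only [List.head?_cons, Option.some.injEq] at hc
      subst hc
      exact List.mem_singleton_self _
    · exact cand_drop s hs ⟨_, toList_lt _ c⟩

theorem found_sub : (cenFound.all fun l => cenPerms.contains l) = true := by
  refine List.all_eq_true.mpr fun l hl => ?_
  obtain ⟨y, hy, hl⟩ := List.mem_flatMap.mp hl
  exact List.all_eq_true.mp (y_ok ⟨y, List.mem_range.mp hy⟩).2.1 l hl

theorem found_len : cenFound.length ≤ 21 := by
  rw [cenFound, List.length_flatMap, ← count_sum]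
  exact List.sum_le_sum fun y hy => (y_ok ⟨y, List.mem_range.mp hy⟩).2.2

/-- The closure of the two generators, as permutations. -/
def genGroup : Subgroup (Equiv.Perm GolayPt) := (Subgroup.closure ({gAM, gBM} : Set M24)).map M24.subtype

theorem inSub_perms : ∀ l ∈ cenPerms, InSub genGroup l :=
  inSub_runProg cenProg [genB, genA, List.range 24] (fun l hl => by
    simp only [List.mem_cons, List.not_mem_nil, or_false] at hl
    rcases hl with rfl | rfl | rfl
    · exact ⟨gBP, ⟨gBM, Subgroup.subset_closure (Or.inr rfl), rfl⟩, toList_gens.2.2⟩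
    · exact ⟨gAP, ⟨gAM, Subgroup.subset_closure (Or.inl rfl), rfl⟩, toList_gens.2.1⟩
    · exact ⟨1, one_mem _, toList_one⟩)

theorem comm_closure {π : M24} (h : π ∈ Subgroup.closure ({gAM, gBM} : Set M24)) : π * sigM = sigM * π := by
  induction h using Subgroup.closure_induction with
  | mem x hx =>
    rcases hx with rfl | rfl
    exacts [comm_gens.1, comm_gens.2]
  | one => simp
  | mul x y _ _ hx hy => rw [mul_assoc, hy, ← mul_assoc, hx, mul_assoc]
  | inv x _ hx => exact (show Commute x sigM from hx).inv_left.eq

theorem exists_transversal_elt (p : GolayPt) :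
    ∃ ρ ∈ Subgroup.closure ({gAM, gBM} : Set M24), (ρ : Equiv.Perm GolayPt) none = p := by
  have hmem : cenPerms.getD (cenLev.getD (idx p).val 0) [] ∈ cenPerms := by
    rw [List.getD_eq_getElem _ _ (lev_lt (idx p))]
    exact List.getElem_mem _
  obtain ⟨_, ⟨ρ, hρ, rfl⟩, hl⟩ := inSub_perms _ hmem
  refine ⟨ρ, hρ, idx_injective (Fin.ext ?_)⟩
  have := lev_ok (idx p)
  rw [← hl] at this
  rw [← this, ← toList_getD]
  rfl

theorem exists_split {π : M24} (h : π * sigM = sigM * π) :
    ∃ (p : GolayPt) (τ : M24), τ * sigM = sigM * τ ∧ (τ : Equiv.Perm GolayPt) none = none ∧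
      π = (exists_transversal_elt p).choose * τ := by
  refine ⟨(π : Equiv.Perm GolayPt) none, (exists_transversal_elt _).choose⁻¹ * π, ?_, ?_,
    (mul_inv_cancel_left _ _).symm⟩
  · have := comm_closure (exists_transversal_elt ((π : Equiv.Perm GolayPt) none)).choose_spec.1
    exact ((show Commute _ sigM from this).inv_left.mul_left h).eq
  · rw [Subgroup.coe_mul, Subgroup.coe_inv, Equiv.Perm.mul_apply, Equiv.Perm.inv_eq_iff_eq]
    exact (exists_transversal_elt _).choose_spec.2.symm

/-- The centraliser is generated by the two elements. -/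
theorem mem_closure {π : M24} (h : π * sigM = sigM * π) : π ∈ Subgroup.closure ({gAM, gBM} : Set M24) := by
  obtain ⟨p, τ, hτ, hτ0, rfl⟩ := exists_split h
  refine mul_mem (exists_transversal_elt p).choose_spec.1 ?_
  have hm := List.all_eq_true.mp found_sub _ (toList_mem_found hτ hτ0)
  rw [List.contains_iff_mem] at hm
  obtain ⟨_, ⟨ρ, hρ, rfl⟩, hl⟩ := inSub_perms _ hm
  rwa [← Subtype.ext (toList_injective hl) (a1 := ρ) (a2 := τ)]

theorem card_cen_le : Nat.card {π : M24 // π * sigM = sigM * π} ≤ 504 := by
  choose p τ hτ hτ0 heq using fun π : {π : M24 // π * sigM = sigM * π} => exists_split π.2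
  refine (Nat.card_le_card_of_injective (β := GolayPt × cenFound.toFinset)
    (fun π => (p π, ⟨toList (τ π : Equiv.Perm GolayPt), List.mem_toFinset.mpr (toList_mem_found (hτ π) (hτ0 π))⟩))
    fun a b h => Subtype.ext ?_).trans ?_
  · simp only [Prod.mk.injEq] at h
    rw [heq a, heq b, h.1, Subtype.ext (toList_injective (congrArg Subtype.val h.2))]
  · rw [Nat.card_prod, Nat.card_eq_fintype_card (α := GolayPt), CfsgLib.Golay.card_golayPt,
      Nat.card_eq_fintype_card, Fintype.card_coe]
    have := List.toFinset_card_le cenFound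
    have := found_len
    omega

end CfsgLib.MonsterLocal21.Thompson
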