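import Mathlib
import Cfsg.Agent.Lib.Golay.FrameElem
import Cfsg.Agent.Lib.MonsterLocal21.FixedClass
import Cfsg.Agent.Lib.MonsterLocal21.ThompsonCentral

/-! Coordinates modulo two for the lattice vectors fixed by the fixed-point-free element of order 3: the vectors
constant on the eight cycles, with a triangular basis. -/

set_option autoImplicit false
set_option Elab.async false

namespace CfsgLib.MonsterLocal21.Thompson

open Cfsg CfsgLib.Golay CfsgLib.MonsterType

/-- The permutation as an automorphism of the lattice. -/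
abbrev tau : Co0 := permW sigM

/-- The cycle of a point. -/
def cyc (p : GolayPt) : Fin 8 := ⟨cycOf.getD (idx p).val 0 % 8, Nat.mod_lt _ (by norm_num)⟩

/-- A point of each cycle. -/
def cyRep (i : Fin 8) : GolayPt := pt ⟨cycRep.getD i.val 0 % 24, Nat.mod_lt _ (by norm_num)⟩

/-- The vector constant on the cycles. -/
def expd (a : Fin 8 → ℤ) : GolayPt → ℤ := fun p => a (cyc p)

/-- The coefficient table of the basis. -/
def basC (i : Fin 8) : Fin 8 → ℤ := fun j => (basA.getD i.val []).getD j.val 0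

/-- The dual test vectors. -/
def dualV (j : Fin 8) : GolayPt → ℤ := rowVec (dualRows.getD j.val [])

/-- The coordinate of a function. -/
def kapF (x : GolayPt → ℤ) : Fin 256 :=
  ⟨((List.finRange 8).map fun j => if dotInt x (dualV j) / 8 % 2 = 1 then 2 ^ j.val else 0).sum % 256,
    Nat.mod_lt _ (by norm_num)⟩

/-- The bit of a class as an integer. -/
def bitI (x : Fin 256) (i : Fin 8) : ℤ := if x.val.testBit i.val then 1 else 0

/-- The sum of the selected basis vectors. -/
def liftA (x : Fin 256) : Fin 8 → ℤ := fun j => ((List.finRange 8).map fun i => bitI x i * basC i j).sum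

theorem bas_mem : ∀ i : Fin 8, leechTest (expd (basC i)) = true := by decide +kernel

theorem liftA_eq (x : Fin 256) : liftA x = fun j => ∑ i, bitI x i * basC i j := by
  funext j
  rw [liftA, Fin.sum_univ_def]

theorem mem_lift (x : Fin 256) : expd (liftA x) ∈ leechLattice := by
  have e : expd (liftA x) = ∑ i, bitI x i • expd (basC i) := by
    funext p
    simp [liftA_eq, expd, Finset.sum_apply]
  rw [e]
  exact sum_mem fun i _ => zsmul_mem (mem_of_leechTest (bas_mem i)) _

/-- The representative of a class. -/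
def liftV (x : Fin 256) : leechLattice := ⟨expd (liftA x), mem_lift x⟩

theorem cyc_sig : ∀ p, cyc (sigP.symm p) = cyc p := by decide +kernel

theorem expd_fix {a : Fin 8 → ℤ} (h : expd a ∈ leechLattice) : tau • (⟨expd a, h⟩ : leechLattice) = ⟨expd a, h⟩ := by
  apply Subtype.ext
  funext p
  rw [tau, permW_apply]
  exact congrArg a (cyc_sig p)

theorem point_cases : ∀ p : GolayPt, p = cyRep (cyc p) ∨ p = sigP (cyRep (cyc p)) ∨
    p = sigP (sigP (cyRep (cyc p))) := by decide +kernel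

theorem eq_expd {v : leechLattice} (h : tau • v = v) :
    (v : GolayPt → ℤ) = expd fun i => (v : GolayPt → ℤ) (cyRep i) := by
  have hs : ∀ p, (v : GolayPt → ℤ) (sigP p) = (v : GolayPt → ℤ) p := fun p => by
    have := congrArg (fun w : leechLattice => (w : GolayPt → ℤ) (sigP p)) h
    simp only [tau, permW_apply] at this
    rw [← this, show (sigM : Equiv.Perm GolayPt).symm (sigP p) = p from sigP.symm_apply_apply p]
  funext p
  rcases point_cases p with e | e | e <;> conv_lhs => rw [e]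
  · rfl
  · exact hs _
  · rw [hs, hs]; rfl

theorem eightMul_mem (z : GolayPt → ℤ) : (fun p => 8 * z p) ∈ leechLattice := by
  have : (fun p => 8 * z p) = ((∑ p, z p • LeechEight.latE p : leechLattice) : GolayPt → ℤ) := by
    funext i
    simp only [AddSubgroup.val_finsetSum, Finset.sum_apply, AddSubgroup.coe_zsmul, Pi.smul_apply, smul_eq_mul]
    rw [Finset.sum_eq_single i (fun p _ hp => by simp [latE_apply, Ne.symm hp]) (by simp)]
    simp [latE_apply, mul_comm]
  rw [this]
  exact SetLike.coe_mem _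

/-- The condition of `residue_cases` for a fixed first value. -/
def residueOK (a : Fin 4) : Prop :=
  ∀ b c d : Fin 4,
    leechTest (expd ![0, 0, 0, 0, 2 * (a.val : ℤ), 2 * (b.val : ℤ), 2 * (c.val : ℤ), 2 * (d.val : ℤ)]) = true →
      a.val % 2 = 0 ∧ b.val % 2 = 0 ∧ c.val % 2 = 0 ∧ (d.val : ℤ) % 4 = (a.val + b.val + c.val : ℤ) % 4

theorem residue_case0 : residueOK 0 := by unfold residueOK; decide +kernel

theorem residue_case1 : residueOK 1 := by unfold residueOK; decide +kernel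

theorem residue_case2 : residueOK 2 := by unfold residueOK; decide +kernel

theorem residue_case3 : residueOK 3 := by unfold residueOK; decide +kernel

theorem residue_cases (a : Fin 4) : residueOK a := by
  fin_cases a
  exacts [residue_case0, residue_case1, residue_case2, residue_case3]

theorem basC_values :
    basC 0 = ![1, 1, 1, 1, 1, 1, 1, 5] ∧ basC 1 = ![0, 2, 0, 0, 0, 2, 2, 2] ∧
    basC 2 = ![0, 0, 2, 0, 2, 2, 0, 2] ∧ basC 3 = ![0, 0, 0, 2, 2, 0, 2, 2] ∧
    basC 4 = ![0, 0, 0, 0, 4, 0, 0, 4] ∧ basC 5 = ![0, 0, 0, 0, 0, 4, 0, 4] ∧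
    basC 6 = ![0, 0, 0, 0, 0, 0, 4, 4] ∧ basC 7 = ![0, 0, 0, 0, 0, 0, 0, 8] := by decide +kernel

theorem cyc_rep : ∀ k : Fin 8, cyc (cyRep k) = k := by decide +kernel

theorem expd_congr {a b : Fin 8 → ℤ} (h : ∀ k, a k = b k) : expd a = expd b := funext fun p => h _

theorem residue_vec {t4 t5 t6 t7 : ℤ} (h : expd ![0, 0, 0, 0, 2 * t4, 2 * t5, 2 * t6, 2 * t7] ∈ leechLattice) :
    t4 % 2 = 0 ∧ t5 % 2 = 0 ∧ t6 % 2 = 0 ∧ t7 % 4 = (t4 + t5 + t6) % 4 := by
  have hr : ∀ t : ℤ, ∃ (r : Fin 4) (k : ℤ), t = (r.val : ℤ) + 4 * k := fun t =>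
    ⟨⟨(t % 4).toNat, by omega⟩, t / 4, by simp only; omega⟩
  obtain ⟨r4, k4, rfl⟩ := hr t4
  obtain ⟨r5, k5, rfl⟩ := hr t5
  obtain ⟨r6, k6, rfl⟩ := hr t6
  obtain ⟨r7, k7, rfl⟩ := hr t7
  have hred : expd ![0, 0, 0, 0, 2 * (r4.val : ℤ), 2 * (r5.val : ℤ), 2 * (r6.val : ℤ), 2 * (r7.val : ℤ)]
      ∈ leechLattice := by
    have e : expd ![0, 0, 0, 0, 2 * (r4.val : ℤ), 2 * (r5.val : ℤ), 2 * (r6.val : ℤ), 2 * (r7.val : ℤ)] =
        expd ![0, 0, 0, 0, 2 * ((r4.val : ℤ) + 4 * k4), 2 * ((r5.val : ℤ) + 4 * k5), 2 * ((r6.val : ℤ) + 4 * k6),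
          2 * ((r7.val : ℤ) + 4 * k7)] - fun p => 8 * expd ![0, 0, 0, 0, k4, k5, k6, k7] p := by
      funext p
      show ![0, 0, 0, 0, 2 * (r4.val : ℤ), 2 * (r5.val : ℤ), 2 * (r6.val : ℤ), 2 * (r7.val : ℤ)] (cyc p) =
        ![0, 0, 0, 0, 2 * ((r4.val : ℤ) + 4 * k4), 2 * ((r5.val : ℤ) + 4 * k5), 2 * ((r6.val : ℤ) + 4 * k6),
          2 * ((r7.val : ℤ) + 4 * k7)] (cyc p) - 8 * ![0, 0, 0, 0, k4, k5, k6, k7] (cyc p)
      generalize cyc p = k
      fin_cases k <;> simp <;> ring
    rw [e]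
    exact sub_mem h (eightMul_mem _)
  obtain ⟨q4, q5, q6, q7⟩ := residue_cases _ _ _ _ (leechTest_of_mem hred)
  omega

/-- A fixed vector is an integral combination of the basis. -/
theorem exists_coeff {a : Fin 8 → ℤ} (h : expd a ∈ leechLattice) :
    ∃ n : Fin 8 → ℤ, a = fun j => ∑ i, n i * basC i j := by
  obtain ⟨m, hm⟩ := CfsgLib.Golay.mem_leechLattice.mp h
  have hpar : ∀ i, ∃ c, a i = a 0 + 2 * c := by
    intro i
    have h1 := (hm.1 (cyRep i)).dvd
    have h2 := (hm.1 (cyRep 0)).dvd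
    simp only [expd, cyc_rep] at h1 h2
    exact ⟨(a i - a 0) / 2, by omega⟩
  obtain ⟨c1, h1⟩ := hpar 1
  obtain ⟨c2, h2⟩ := hpar 2
  obtain ⟨c3, h3⟩ := hpar 3
  obtain ⟨c4, h4⟩ := hpar 4
  obtain ⟨c5, h5⟩ := hpar 5
  obtain ⟨c6, h6⟩ := hpar 6
  obtain ⟨c7, h7⟩ := hpar 7
  obtain ⟨e0, e1, e2, e3, e4, e5, e6, e7⟩ := basC_values
  have hw : expd ![0, 0, 0, 0, 2 * (c4 - c2 - c3), 2 * (c5 - c1 - c2), 2 * (c6 - c1 - c3),
      2 * (c7 - 2 * a 0 - c1 - c2 - c3)] ∈ leechLattice := by
    have e : expd ![0, 0, 0, 0, 2 * (c4 - c2 - c3), 2 * (c5 - c1 - c2), 2 * (c6 - c1 - c3),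
        2 * (c7 - 2 * a 0 - c1 - c2 - c3)] =
        expd a - a 0 • expd (basC 0) - c1 • expd (basC 1) - c2 • expd (basC 2) - c3 • expd (basC 3) := by
      funext p
      simp only [expd, Pi.sub_apply, Pi.smul_apply, smul_eq_mul, e0, e1, e2, e3]
      generalize cyc p = k
      fin_cases k <;> simp [h1, h2, h3, h4, h5, h6, h7] <;> ring
    rw [e]
    exact sub_mem (sub_mem (sub_mem (sub_mem h (zsmul_mem (mem_of_leechTest (bas_mem 0)) _))
      (zsmul_mem (mem_of_leechTest (bas_mem 1)) _)) (zsmul_mem (mem_of_leechTest (bas_mem 2)) _))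
      (zsmul_mem (mem_of_leechTest (bas_mem 3)) _)
  obtain ⟨q4, q5, q6, q7⟩ := residue_vec hw
  obtain ⟨n4, hn4⟩ : (2 : ℤ) ∣ c4 - c2 - c3 := by omega
  obtain ⟨n5, hn5⟩ : (2 : ℤ) ∣ c5 - c1 - c2 := by omega
  obtain ⟨n6, hn6⟩ : (2 : ℤ) ∣ c6 - c1 - c3 := by omega
  obtain ⟨n7, hn7⟩ : (4 : ℤ) ∣ c7 - 2 * a 0 - c1 - c2 - c3 - 2 * n4 - 2 * n5 - 2 * n6 := by omega
  refine ⟨![a 0, c1, c2, c3, n4, n5, n6, n7], funext fun j => ?_⟩
  simp only [Fin.sum_univ_eight, e0, e1, e2, e3, e4, e5, e6, e7]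
  fin_cases j <;> simp [h1, h2, h3, h4, h5, h6, h7] <;> linarith

theorem dual_values : ∀ i j : Fin 8, (8 : ℤ) ∣ dotInt (expd (basC i)) (dualV j) ∧
    dotInt (expd (basC i)) (dualV j) / 8 % 2 = (if i = j then 1 else 0) := by decide +kernel

theorem dualV_mem : ∀ j : Fin 8, leechTest (dualV j) = true := by decide +kernel

theorem kapF_congr {v w : leechLattice} (h : Cong v w) :
    kapF (v : GolayPt → ℤ) = kapF (w : GolayPt → ℤ) := by
  obtain ⟨u, rfl⟩ := h
  refine Fin.ext ?_
  show List.sum _ % 256 = List.sum _ % 256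
  congr 2
  refine List.map_congr_left fun j _ => if_congr (iff_of_eq ?_) rfl rfl
  have h1 := eight_dvd_dot u.2 (mem_of_leechTest (dualV_mem j))
  have h2 := eight_dvd_dot w.2 (mem_of_leechTest (dualV_mem j))
  rw [AddSubgroup.coe_add, AddSubgroup.coe_add, dotInt_add_left, dotInt_add_left]
  congr 1
  omega

theorem parity_of_bits : ∀ x : Fin 256, ∀ j : Fin 8,
    (((List.finRange 8).map fun i => if x.val.testBit i.val then 2 ^ i.val else 0).sum % 256) = x.val ∧
      (bitI x j = 1 ↔ x.val.testBit j.val = true) := by decide +kernel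

theorem bits_of_sum : ∀ b : Fin 8 → Bool, ∀ j : Fin 8,
    ((((List.finRange 8).map fun i => if b i then 2 ^ i.val else 0).sum % 256).testBit j.val) = b j := by
  decide +kernel

theorem dot_comb (n : Fin 8 → ℤ) (j : Fin 8) :
    dotInt (expd fun k => ∑ i, n i * basC i k) (dualV j) / 8 % 2 = n j % 2 := by
  set a : Fin 8 → ℤ := fun k => ∑ i, n i * basC i k with hn
  have hdot : ∀ j, dotInt (expd a) (dualV j) = ∑ i, n i * dotInt (expd (basC i)) (dualV j) := by
    intro j
    simp only [dotInt, Finset.mul_sum]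
    rw [Finset.sum_comm]
    refine Finset.sum_congr rfl fun p _ => ?_
    simp only [hn, expd, Finset.sum_mul]
    exact Finset.sum_congr rfl fun i _ => by ring
  have hj : ∀ j, dotInt (expd a) (dualV j) / 8 % 2 = n j % 2 := by
    intro j
    have e : ∀ i, ∃ k, n i * dotInt (expd (basC i)) (dualV j) = 8 * (n i * (if i = j then 1 else 0) + 2 * k) := by
      intro i
      obtain ⟨⟨d, hd⟩, h2⟩ := dual_values i j
      refine ⟨n i * (d / 2), ?_⟩
      rw [hd]
      have : d = (if i = j then 1 else 0) + 2 * (d / 2) := by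
        rw [hd, Int.mul_ediv_cancel_left _ (by norm_num)] at h2
        omega
      calc n i * (8 * d) = 8 * (n i * ((if i = j then 1 else 0) + 2 * (d / 2))) := by rw [← this]; ring
        _ = _ := by ring
    choose k hk using e
    rw [hdot, Finset.sum_congr rfl fun i _ => hk i, ← Finset.mul_sum, Int.mul_ediv_cancel_left _ (by norm_num),
      Finset.sum_add_distrib, ← Finset.mul_sum]
    simp [Int.add_mul_emod_self_left]
  exact hj j

theorem kap_lift_all (x : Fin 256) : kapF (expd (liftA x)) = x := by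
  refine Fin.ext ?_
  show List.sum _ % 256 = x.val
  conv_rhs => rw [← (parity_of_bits x 0).1]
  congr 2
  refine List.map_congr_left fun j _ => if_congr ?_ rfl rfl
  rw [liftA_eq, dot_comb (bitI x) j, ← (parity_of_bits x j).2]
  simp only [bitI]
  split_ifs <;> simp

theorem cong_lift_kap {v : leechLattice} (h : tau • v = v) : Cong v (liftV (kapF (v : GolayPt → ℤ))) := by
  set a := fun i => (v : GolayPt → ℤ) (cyRep i)
  have hv : (v : GolayPt → ℤ) = expd a := eq_expd h
  obtain ⟨n, hn⟩ := exists_coeff (hv ▸ v.2)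
  have hj : ∀ j, dotInt (expd a) (dualV j) / 8 % 2 = n j % 2 := fun j => by rw [hn]; exact dot_comb n j
  have hbit : ∀ i, (2 : ℤ) ∣ n i - bitI (kapF (v : GolayPt → ℤ)) i := by
    intro i
    have hb : (kapF (v : GolayPt → ℤ)).val.testBit i.val = decide (n i % 2 = 1) := by
      show Nat.testBit (List.sum _ % 256) i.val = _
      rw [← hj, ← hv]
      have := bits_of_sum (fun j => decide (dotInt (v : GolayPt → ℤ) (dualV j) / 8 % 2 = 1)) i
      simpa using this
    simp only [bitI, hb]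
    rcases Int.emod_two_eq_zero_or_one (n i) with e | e <;> simp [e] <;> omega
  generalize kapF (v : GolayPt → ℤ) = K at hbit ⊢
  choose k hk using hbit
  refine ⟨⟨expd fun j => ∑ i, k i * basC i j, ?_⟩, Subtype.ext ?_⟩
  · have : (expd fun j => ∑ i, k i * basC i j) = ∑ i, k i • expd (basC i) := by
      funext p
      simp [expd, Finset.sum_apply]
    rw [this]
    exact sum_mem fun i _ => zsmul_mem (mem_of_leechTest (bas_mem i)) _
  · funext p
    simp only [AddSubgroup.coe_add, Pi.add_apply, liftV, hv, expd, hn, liftA_eq, ← Finset.sum_add_distrib]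
    refine Finset.sum_congr rfl fun i _ => ?_
    linear_combination (basC i (cyc p)) * hk i

/-- The coordinates of the fixed classes. -/
def coord : Coord tau 256 where
  kap v := kapF (v : GolayPt → ℤ)
  lift := liftV
  lift_fix x := expd_fix _
  kap_congr := kapF_congr
  kap_lift := kap_lift_all
  cong_lift := cong_lift_kap

end CfsgLib.MonsterLocal21.Thompson
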