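import Mathlib
import Cfsg.Agent.Lib.MonsterLocal21.ThompsonFixed

/-! The centraliser in the lattice automorphism group of the fixed-point-free element of order 3 of the monomial
subgroup acts as the alternating group of degree 9 on nine blocks of fixed classes, with kernel of order 6. -/

set_option autoImplicit false
set_option Elab.async false

namespace CfsgLib.MonsterLocal21.Thompson

open Cfsg CfsgLib.Golay CfsgLib.MonsterType

/-- The block of a class. -/
def blk (x : Fin 256) : Option (Fin 9) := if h : blkTab.getD x.val 9 < 9 then some ⟨_, h⟩ else none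

theorem blk_surj : ∀ i : Fin 9, ∃ x, blk x = some i := by decide +kernel

/-- The class of the frame of the coordinates. -/
def eF : Fin 256 := ⟨frameIdx % 256, Nat.mod_lt _ (by norm_num)⟩

/-- Two lists of length nine inverse to each other. -/
def inv9 (l li : List ℕ) : Bool :=
  decide (∀ i : Fin 9, l.getD i.val 0 < 9 ∧ li.getD (l.getD i.val 0) 0 = i.val) &&
    decide (∀ i : Fin 9, li.getD i.val 0 < 9 ∧ l.getD (li.getD i.val 0) 0 = i.val)

/-- The permutation of a list of length nine. -/
def perm9 (l li : List ℕ) : Equiv.Perm (Fin 9) :=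
  if h : inv9 l li = true then
    { toFun := fun i => ⟨l.getD i.val 0, by
        simp only [inv9, Bool.and_eq_true, decide_eq_true_eq] at h; exact (h.1 i).1⟩
      invFun := fun i => ⟨li.getD i.val 0, by
        simp only [inv9, Bool.and_eq_true, decide_eq_true_eq] at h; exact (h.2 i).1⟩
      left_inv := fun i => Fin.ext (by
        simp only [inv9, Bool.and_eq_true, decide_eq_true_eq] at h; exact (h.1 i).2)
      right_inv := fun i => Fin.ext (by
        simp only [inv9, Bool.and_eq_true, decide_eq_true_eq] at h; exact (h.2 i).2) }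
  else 1

/-! ### The generators -/

/-- The action of a permutation on functions. -/
def permF (π : Equiv.Perm GolayPt) (u : GolayPt → ℤ) : GolayPt → ℤ := fun i => u (π.symm i)

/-- The action of a sign change on functions. -/
def sgnF (k : ℕ) (u : GolayPt → ℤ) : GolayPt → ℤ := fun i =>
  if (codeWord k).testBit (idx i).val then -u i else u i

/-- The action of the frame element on functions. -/
def gamF (u : GolayPt → ℤ) : GolayPt → ℤ := fun i => dotInt u (rowsFrame gamRows i) / 8

/-- The code word of an index. -/
def wd (k : ℕ) : golayCode := ⟨dec (codeWord k), dec_codeWord_mem k⟩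

theorem sgnW_wd (k : ℕ) (u : leechLattice) :
    ((sgnW (wd k) • u : leechLattice) : GolayPt → ℤ) = sgnF k (u : GolayPt → ℤ) := by
  funext i
  rw [sgnW_apply]
  simp only [sgnF, wd, dec]
  by_cases h : (codeWord k).testBit (idx i).val <;> simp [h]

/-- The last test of the frame on one spanning vector. -/
def spanTest (s : GolayPt → ℤ) : Bool := leechTest fun i => dotInt s (rowsFrame gamRows i) / 8

theorem span_first : (spanVecs.take 13).all spanTest = true := by decide +kernel

theorem span_mid : ((spanVecs.drop 13).take 12).all spanTest = true := by decide +kernel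

theorem span_last : ((spanVecs.drop 13).drop 12).all spanTest = true := by decide +kernel

theorem frame_ok : frameTest gamRows = true := by
  have h : spanVecs.all spanTest = true := by
    rw [← List.take_append_drop 13 spanVecs, List.all_append, ← List.take_append_drop 12 (spanVecs.drop 13),
      List.all_append, span_first, span_mid, span_last]
    rfl
  simp only [frameTest, Bool.and_eq_true]
  refine ⟨⟨⟨⟨?_, ?_⟩, ?_⟩, ?_⟩, h⟩ <;> decide +kernel

theorem gam_comm_table : ∀ i j : GolayPt,
    dotInt (LeechEight.vecE (sigP j)) (rowsFrame gamRows i) / 8 =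
      dotInt (LeechEight.vecE j) (rowsFrame gamRows (sigP.symm i)) / 8 := by decide +kernel

theorem gam_mem : rowsAut frame_ok ∈ cent tau := by
  refine Subgroup.mem_centralizer_singleton_iff.mpr (ext_latE fun j => ?_)
  rw [mul_smul, mul_smul, tau, permW_latE]
  apply Subtype.ext
  funext i
  rw [permW_apply, coe_rowsAut, coe_rowsAut]
  exact gam_comm_table i j

theorem fix_table : ∀ k ∈ fixIdx, pmap Classes.thrFree (codeWord k) = codeWord k := by decide +kernel

theorem wd_fix {k : ℕ} (hk : k ∈ fixIdx) : CfsgLib.GolayModule.act (sigM : Equiv.Perm GolayPt) (wd k).1 = (wd k).1 := by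
  apply CfsgLib.Golay.enc_injective
  rw [CfsgLib.GolayModule.enc_act, show toList (sigM : Equiv.Perm GolayPt) = Classes.thrFree from toList_gens.1]
  simp only [wd, enc_dec (codeWord_lt k), fix_table k hk]

theorem signIdx_sub : ∀ k : Fin 4, signIdx.getD k.val 0 ∈ fixIdx := by decide +kernel

/-- The seven generators. -/
noncomputable def gen : Fin 7 → cent tau :=
  ![⟨permW gAM, permW_mem_cent comm_gens.1⟩, ⟨permW gBM, permW_mem_cent comm_gens.2⟩, ⟨rowsAut frame_ok, gam_mem⟩,
    ⟨sgnW (wd (signIdx.getD 0 0)), sgnW_mem_cent (wd_fix (signIdx_sub 0))⟩,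
    ⟨sgnW (wd (signIdx.getD 1 0)), sgnW_mem_cent (wd_fix (signIdx_sub 1))⟩,
    ⟨sgnW (wd (signIdx.getD 2 0)), sgnW_mem_cent (wd_fix (signIdx_sub 2))⟩,
    ⟨sgnW (wd (signIdx.getD 3 0)), sgnW_mem_cent (wd_fix (signIdx_sub 3))⟩]

/-- Their actions on functions. -/
def genF : Fin 7 → (GolayPt → ℤ) → GolayPt → ℤ :=
  ![permF gAP, permF gBP, gamF, sgnF (signIdx.getD 0 0), sgnF (signIdx.getD 1 0), sgnF (signIdx.getD 2 0),
    sgnF (signIdx.getD 3 0)]

/-- Their actions on the blocks. -/
def genP (k : Fin 7) : Equiv.Perm (Fin 9) := perm9 (genImg.getD k.val []) (genImgInv.getD k.val [])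

theorem gen_acts : ∀ (k : Fin 7) (u : leechLattice),
    (((gen k : Co0) • u : leechLattice) : GolayPt → ℤ) = genF k (u : GolayPt → ℤ) := by
  intro k u
  fin_cases k
  · funext i; exact permW_apply gAM u i
  · funext i; exact permW_apply gBM u i
  · exact coe_rowsAut frame_ok u
  · exact sgnW_wd _ u
  · exact sgnW_wd _ u
  · exact sgnW_wd _ u
  · exact sgnW_wd _ u

/-- The class with coordinates read from a table of inner products. -/
def stepM (m : List (List ℤ)) (x : Fin 256) : Fin 256 :=
  ⟨((List.finRange 8).map fun j =>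
    if ((List.finRange 8).map fun i => bitI x i * (m.getD i.val []).getD j.val 0).sum / 8 % 2 = 1
      then 2 ^ j.val else 0).sum % 256, Nat.mod_lt _ (by norm_num)⟩

/-- One step on the classes. -/
def step (k : Fin 7) (x : Fin 256) : Fin 256 := stepM (genMat.getD k.val []) x

theorem kap_smul (γ : Co0) (f : (GolayPt → ℤ) → GolayPt → ℤ) (m : List (List ℤ))
    (hf : ∀ u : leechLattice, ((γ • u : leechLattice) : GolayPt → ℤ) = f (u : GolayPt → ℤ))
    (hm : ∀ i j : Fin 8, dotInt (f (expd (basC i))) (dualV j) = (m.getD i.val []).getD j.val 0) (x : Fin 256) :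
    kapF ((γ • liftV x : leechLattice) : GolayPt → ℤ) = stepM m x := by
  let b : Fin 8 → leechLattice := fun i => ⟨expd (basC i), mem_of_leechTest (bas_mem i)⟩
  have hx : liftV x = ∑ i, bitI x i • b i := by
    apply Subtype.ext
    funext p
    simp only [liftV, b, expd, liftA_eq, AddSubgroup.val_finsetSum, Finset.sum_apply, AddSubgroup.coe_zsmul,
      Pi.smul_apply, smul_eq_mul]
  have hd : ∀ j, dotInt ((γ • liftV x : leechLattice) : GolayPt → ℤ) (dualV j) =
      ∑ i, bitI x i * (m.getD i.val []).getD j.val 0 := by
    intro j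
    simp only [← hm, ← hf]
    rw [hx, smul_sum', AddSubgroup.val_finsetSum]
    simp only [dotInt, Finset.sum_apply, Finset.mul_sum, Finset.sum_mul]
    rw [Finset.sum_comm]
    refine Finset.sum_congr rfl fun i _ => Finset.sum_congr rfl fun p _ => ?_
    rw [smul_zsmul', AddSubgroup.coe_zsmul, Pi.smul_apply, smul_eq_mul]
    rw [hf]
    show bitI x i * f (expd (basC i)) p * dualV j p = _
    ring
  refine Fin.ext ?_
  show List.sum _ % 256 = List.sum _ % 256
  congr 2
  refine List.map_congr_left fun j _ => ?_
  rw [hd, Fin.sum_univ_def]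

theorem gen_mat : ∀ (k : Fin 7) (i j : Fin 8),
    dotInt (genF k (expd (basC i))) (dualV j) = ((genMat.getD k.val []).getD i.val []).getD j.val 0 := by
  decide +kernel

theorem rho_gen (k : Fin 7) (x : Fin 256) : coord.rho (gen k) x = step k x :=
  kap_smul _ _ _ (gen_acts k) (gen_mat k) x

/-- The action of one generator on the blocks is as listed. -/
def blkRow (k : Fin 7) : Prop := ∀ x : Fin 256, blk (step k x) = (blk x).map (genP k)

theorem blk_row0 : blkRow 0 := by unfold blkRow; decide +kernel

theorem blk_row1 : blkRow 1 := by unfold blkRow; decide +kernel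

theorem blk_row2 : blkRow 2 := by unfold blkRow; decide +kernel

theorem blk_row3 : blkRow 3 := by unfold blkRow; decide +kernel

theorem blk_row4 : blkRow 4 := by unfold blkRow; decide +kernel

theorem blk_row5 : blkRow 5 := by unfold blkRow; decide +kernel

theorem blk_row6 : blkRow 6 := by unfold blkRow; decide +kernel

theorem blk_row : ∀ k : Fin 7, blkRow k := by
  intro k
  fin_cases k
  exacts [blk_row0, blk_row1, blk_row2, blk_row3, blk_row4, blk_row5, blk_row6]

theorem blk_step (k : Fin 7) (x : Fin 256) : blk (step k x) = (blk x).map (genP k) := blk_row k x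

theorem sign_genP : ∀ k : Fin 7, Equiv.Perm.sign (genP k) = 1 := by decide +kernel

theorem cov_gen (k : Fin 7) : coord.Cov blk (gen k) (genP k) := fun x => by rw [rho_gen, blk_step]

theorem gen_good (k : Fin 7) : gen k ∈ coord.good blk (alternatingGroup (Fin 9)) :=
  ⟨genP k, Equiv.Perm.mem_alternatingGroup.mpr (sign_genP k), cov_gen k⟩

theorem fixed_code : ((List.range 4096).all fun k =>
    !Nat.beq (pmap Classes.thrFree (codeWord k)) (codeWord k) || fixIdx.contains k) = true := by decide +kernel

theorem fixIdx_length : fixIdx.length = 16 := by decide +kernel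

theorem exists_fixIdx {c : golayCode} (h : CfsgLib.GolayModule.act (sigM : Equiv.Perm GolayPt) c.1 = c.1) :
    ∃ j : Fin 16, c = wd (fixIdx.getD j.val 0) := by
  have hc := isCode_iff.mp (mem_golayCode.mp c.2)
  set k := enc c.1 &&& 4095
  have hk : k < 4096 := lt_of_le_of_lt Nat.and_le_right (by norm_num)
  have hfix : pmap Classes.thrFree (codeWord k) = codeWord k := by
    rw [hc, ← toList_gens.1, show sigP = (sigM : Equiv.Perm GolayPt) from rfl, ← CfsgLib.GolayModule.enc_act, h]
  have hmem := List.all_eq_true.mp fixed_code k (List.mem_range.mpr hk)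
  rw [hfix, Nat.beq_refl, Bool.not_true, Bool.false_or, List.contains_iff_mem] at hmem
  obtain ⟨i, hi, hik⟩ := List.getElem_of_mem hmem
  refine ⟨⟨i, fixIdx_length ▸ hi⟩, Subtype.ext ?_⟩
  rw [List.getD_eq_getElem _ _ hi, hik]
  simp only [wd, hc, dec_enc]

/-- A sum of the four sign words, by index. -/
def spanSign (t : Fin 16) : ℕ :=
  ((List.finRange 4).filter fun i => t.val.testBit i.val).foldr (fun i a => signIdx.getD i.val 0 ^^^ a) 0

theorem fix_span : ∀ j : Fin 16, ∃ t : Fin 16, fixIdx.getD j.val 0 = spanSign t := by decide +kernel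

theorem wd_xor (a b : ℕ) : wd (a ^^^ b) = wd a + wd b :=
  Subtype.ext (by simp only [wd, codeWord, spanWord_xor, dec_xor, Submodule.coe_add])

theorem sgn_span (l : List (Fin 4)) :
    sgnW (wd (l.foldr (fun i a => signIdx.getD i.val 0 ^^^ a) 0)) ∈ (coord.good blk (alternatingGroup (Fin 9))).map (cent tau).subtype := by
  induction l with
  | nil =>
    have h : wd 0 = 0 := by simpa using wd_xor 0 0
    rw [List.foldr_nil, h, sgnW_zero']
    exact one_mem _
  | cons i l ih =>
    rw [List.foldr_cons, wd_xor, show ∀ c d : golayCode, sgnW (c + d) = sgnW c * sgnW d from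
      fun c d => map_mul sgnHom (Multiplicative.ofAdd c) (Multiplicative.ofAdd d)]
    refine mul_mem ?_ ih
    fin_cases i
    exacts [⟨_, gen_good 3, rfl⟩, ⟨_, gen_good 4, rfl⟩, ⟨_, gen_good 5, rfl⟩, ⟨_, gen_good 6, rfl⟩]

theorem sgn_good (c : golayCode) (h : CfsgLib.GolayModule.act (sigM : Equiv.Perm GolayPt) c.1 = c.1) :
    (⟨sgnW c, sgnW_mem_cent h⟩ : cent tau) ∈ coord.good blk (alternatingGroup (Fin 9)) := by
  obtain ⟨j, hj⟩ := exists_fixIdx h
  obtain ⟨t, ht⟩ := fix_span j
  rw [ht] at hj
  obtain ⟨g, hg, hgc⟩ := sgn_span ((List.finRange 4).filter fun i => t.val.testBit i.val)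
  have e : sgnW c = sgnW (wd (spanSign t)) := congrArg sgnW hj
  rwa [show (⟨sgnW c, sgnW_mem_cent h⟩ : cent tau) = g from Subtype.ext (e.trans hgc.symm)]

theorem perm_good (π : M24) (h : π * sigM = sigM * π) :
    (⟨permW π, permW_mem_cent h⟩ : cent tau) ∈ coord.good blk (alternatingGroup (Fin 9)) := by
  have key : ∀ π ∈ Subgroup.closure ({gAM, gBM} : Set M24), ∃ g ∈ coord.good blk (alternatingGroup (Fin 9)),
      (g : Co0) = permW π := by
    intro π hπ
    induction hπ using Subgroup.closure_induction with
    | mem x hx =>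
      rcases hx with rfl | rfl
      exacts [⟨_, gen_good 0, rfl⟩, ⟨_, gen_good 1, rfl⟩]
    | one => exact ⟨1, one_mem _, (map_one permHom).symm⟩
    | mul x y _ _ hx hy =>
      obtain ⟨g, hg, hgx⟩ := hx
      obtain ⟨g', hg', hgy⟩ := hy
      exact ⟨g * g', mul_mem hg hg', by rw [Subgroup.coe_mul, hgx, hgy, permW_mul']⟩
    | inv x _ hx =>
      obtain ⟨g, hg, hgx⟩ := hx
      exact ⟨g⁻¹, inv_mem hg, by rw [Subgroup.coe_inv, hgx]; exact (map_inv permHom x).symm⟩
  obtain ⟨g, hg, hgπ⟩ := key π (mem_closure h)
  rwa [show (⟨permW π, permW_mem_cent h⟩ : cent tau) = g from Subtype.ext hgπ.symm]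

/-! ### The orbit of the frame -/

/-- The parity of a sixteenth of the squared length, on functions. -/
def qF (u : GolayPt → ℤ) : ℤ := sqNorm u / 16 % 2

/-- The product of a word in the generators. -/
noncomputable def word (w : List ℕ) : cent tau := (w.map fun k => gen ⟨k % 7, Nat.mod_lt _ (by norm_num)⟩).prod

/-- The action of a word on the classes. -/
def wordStep (w : List ℕ) (x : Fin 256) : Fin 256 :=
  w.foldr (fun k y => step ⟨k % 7, Nat.mod_lt _ (by norm_num)⟩ y) x

theorem rho_word : ∀ (w : List ℕ) (x : Fin 256), coord.rho (word w) x = wordStep w x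
  | [], x => by simp [word, wordStep]
  | k :: w, x => by
    rw [word, List.map_cons, List.prod_cons, map_mul, Equiv.Perm.mul_apply]
    rw [← word, rho_word w x, rho_gen]
    rfl

theorem word_good : ∀ w : List ℕ, word w ∈ coord.good blk (alternatingGroup (Fin 9))
  | [] => one_mem _
  | k :: w => by
    rw [word, List.map_cons, List.prod_cons]
    exact mul_mem (gen_good _) (word_good w)

/-- A class by its upper three and lower five bits. -/
def packX (c : Fin 8) (y : Fin 32) : Fin 256 := ⟨32 * c.val + y.val, by omega⟩

theorem packX_split (x : Fin 256) : x = packX ⟨x.val / 32, by omega⟩ ⟨x.val % 32, by omega⟩ :=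
  Fin.ext (Nat.div_add_mod _ _).symm

/-- A class in the orbit of the frame by the table. -/
def sing (x : Fin 256) : Bool := !(orbWord.getD x.val []).isEmpty || decide (x = eF)

/-- The singular classes of one chunk are reached by the table. -/
def orbitRow (c : Fin 8) : Prop :=
  ∀ y : Fin 32, (sing (packX c y) = true ↔ qF (expd (liftA (packX c y))) = 0 ∧ packX c y ≠ 0) ∧
    (sing (packX c y) = true → wordStep (orbWord.getD (packX c y).val []) eF = packX c y)

theorem orbit_row0 : orbitRow 0 := by unfold orbitRow; decide +kernel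

theorem orbit_row1 : orbitRow 1 := by unfold orbitRow; decide +kernel

theorem orbit_row2 : orbitRow 2 := by unfold orbitRow; decide +kernel

theorem orbit_row3 : orbitRow 3 := by unfold orbitRow; decide +kernel

theorem orbit_row4 : orbitRow 4 := by unfold orbitRow; decide +kernel

theorem orbit_row5 : orbitRow 5 := by unfold orbitRow; decide +kernel

theorem orbit_row6 : orbitRow 6 := by unfold orbitRow; decide +kernel

theorem orbit_row7 : orbitRow 7 := by unfold orbitRow; decide +kernel

theorem orbit_row : ∀ k : Fin 8, orbitRow k := by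
  intro k
  fin_cases k
  exacts [orbit_row0, orbit_row1, orbit_row2, orbit_row3, orbit_row4, orbit_row5, orbit_row6, orbit_row7]

theorem sing_iff (x : Fin 256) : sing x = true ↔ qF (expd (liftA x)) = 0 ∧ x ≠ 0 := by
  rw [packX_split x]
  exact (orbit_row _ _).1

theorem orbit_table (x : Fin 256) (h : qF (expd (liftA x)) = 0) (h0 : x ≠ 0) :
    wordStep (orbWord.getD x.val []) eF = x := by
  have hs := (sing_iff x).mpr ⟨h, h0⟩
  rw [packX_split x] at hs ⊢
  exact (orbit_row _ _).2 hs

theorem qF_lift (x : Fin 256) : qv (coord.lift x) = qF (expd (liftA x)) := rfl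

theorem kap_zero : coord.kap 0 = 0 := by decide +kernel

theorem eF_ne : eF ≠ coord.kap 0 := by rw [kap_zero]; decide +kernel

theorem frame_table : ∀ p : GolayPt,
    leechTest (fun p => (expd (liftA eF) p - LeechEight.vecE none p) / 2) = true ∧
      (expd (liftA eF) p - LeechEight.vecE none p) % 2 = 0 := by decide +kernel

theorem eF_frame : Cong (coord.lift eF) (LeechEight.latE none) := by
  refine ⟨⟨_, mem_of_leechTest (frame_table none).1⟩, Subtype.ext (funext fun p => ?_)⟩
  show expd (liftA eF) p = LeechEight.vecE none p + (_ + _)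
  have := (frame_table p).2
  simp only
  omega

theorem good_top : coord.good blk (alternatingGroup (Fin 9)) = ⊤ :=
  good_eq_top coord blk (alternatingGroup (Fin 9)) eF eF_frame eF_ne perm_good sgn_good fun x hx hx0 =>
    ⟨word (orbWord.getD x.val []), word_good _, by
      rw [rho_word, orbit_table x (qF_lift x ▸ hx) (kap_zero ▸ hx0)]⟩

theorem orbit_count : (Finset.univ.filter fun x : Fin 256 => sing x = true).card = 135 := by
  decide +kernel

theorem card_cent : Nat.card (cent tau) ≤ 135 * (16 * 504) := by
  refine (card_cent_le coord eF eF_frame eF_ne).trans (Nat.mul_le_mul ?_ (Nat.mul_le_mul ?_ card_cen_le))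
  · rw [← orbit_count, ← Fintype.card_subtype, ← Nat.card_eq_fintype_card]
    exact Nat.card_le_card_of_injective
      (fun x => (⟨x.1, (sing_iff x.1).mpr ⟨qF_lift x.1 ▸ x.2.1, kap_zero ▸ x.2.2⟩⟩ : {x : Fin 256 // sing x = true}))
      fun a b h => Subtype.ext (congrArg (fun t => t.1) h)
  · choose f hf using fun c : {c : golayCode // CfsgLib.GolayModule.act (sigM : Equiv.Perm GolayPt) c.1 = c.1} =>
      exists_fixIdx c.2
    exact (Nat.card_le_card_of_injective f fun a b h => Subtype.ext (by rw [hf a, hf b, h])).trans
      (Nat.card_fin 16).le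

/-! ### The action on the blocks -/

/-- The homomorphism onto the alternating group of degree 9. -/
noncomputable def nineHom : cent tau →* alternatingGroup (Fin 9) :=
  coord.blockHom blk (alternatingGroup (Fin 9)) blk_surj good_top

/-- The permutation of a word. -/
def wordP (w : List ℕ) : Equiv.Perm (Fin 9) := (w.map fun k => genP ⟨k % 7, Nat.mod_lt _ (by norm_num)⟩).prod

theorem cov_word : ∀ w : List ℕ, coord.Cov blk (word w) (wordP w)
  | [] => Coord.Cov.one
  | k :: w => by
    rw [word, wordP, List.map_cons, List.prod_cons, List.map_cons, List.prod_cons]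
    exact (cov_gen _).mul (cov_word w)

/-- A transversal word: fixing the first points and moving the next one to a given place. -/
def trWord (k : Fin 7) (i : Fin 9) : List ℕ := (transWord.getD k.val []).getD (i.val - k.val) []

theorem trans_table : ∀ (k : Fin 7) (i : Fin 9), k.val ≤ i.val →
    (∀ j : Fin 9, j.val < k.val → wordP (trWord k i) j = j) ∧ wordP (trWord k i) ⟨k.val, by omega⟩ = i := by
  decide +kernel

theorem nineHom_surjective : Function.Surjective nineHom := by
  suffices h : ∀ m ≤ 7, ∀ p ∈ alternatingGroup (Fin 9), (∀ j : Fin 9, j.val < 7 - m → p j = j) →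
      ∃ γ, (nineHom γ : Equiv.Perm (Fin 9)) = p by
    rintro ⟨p, hp⟩
    obtain ⟨γ, hγ⟩ := h 7 le_rfl p hp fun j hj => absurd hj (by simp)
    exact ⟨γ, Subtype.ext hγ⟩
  intro m
  induction m with
  | zero =>
    intro _ p hp hfix
    refine ⟨1, ?_⟩
    have hp' := Equiv.Perm.mem_alternatingGroup.mp hp
    have h78 : p 7 = 7 ∨ p 7 = 8 := by
      by_contra h
      push Not at h
      have h7 : (p 7).val < 7 := by omega
      exact absurd (p.injective (hfix _ h7)) (fun e => by rw [e] at h7; exact absurd h7 (by decide))
    rw [map_one, OneMemClass.coe_one]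
    rcases h78 with h | h
    · refine (Equiv.ext fun j => ?_).symm
      rw [Equiv.Perm.one_apply]
      by_cases hj : j.val < 7
      · exact hfix j hj
      · rcases (by omega : j.val = 7 ∨ j.val = 8) with e | e
        · rwa [show j = 7 from Fin.ext e]
        · rw [show j = 8 from Fin.ext e]
          by_contra hne
          have h8 : (p 8).val < 7 := by
            have : p 8 ≠ 7 := fun e' => absurd (p.injective (e'.trans h.symm)) (by decide)
            omega
          have := p.injective (hfix _ h8)
          rw [this] at h8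
          exact absurd h8 (by decide)
    · exfalso
      have h8 : p 8 = 7 := by
        by_contra hne
        have h8 : (p 8).val < 7 := by
          have : p 8 ≠ 8 := fun e' => absurd (p.injective (e'.trans h.symm)) (by decide)
          omega
        have := p.injective (hfix _ h8)
        rw [this] at h8
        exact absurd h8 (by decide)
      have : p = Equiv.swap 7 8 := Equiv.ext fun j => by
        by_cases hj : j.val < 7
        · rw [hfix j hj, Equiv.swap_apply_of_ne_of_ne] <;> intro e <;> rw [e] at hj <;> exact absurd hj (by decide)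
        · rcases (by omega : j.val = 7 ∨ j.val = 8) with e | e
          · rw [show j = 7 from Fin.ext e, h, Equiv.swap_apply_left]
          · rw [show j = 8 from Fin.ext e, h8, Equiv.swap_apply_right]
      rw [this, Equiv.Perm.sign_swap (by decide)] at hp'
      exact absurd hp' (by decide)
  | succ m ih =>
    intro hm p hp hfix
    set k : Fin 7 := ⟨7 - (m + 1), by omega⟩ with hk
    set i := p ⟨k.val, by omega⟩ with hi
    have hki : k.val ≤ i.val := by
      by_contra hlt
      push Not at hlt
      have h1 : p i = i := hfix i hlt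
      have h2 : i = ⟨k.val, by omega⟩ := p.injective h1
      rw [h2] at hlt
      exact lt_irrefl _ hlt
    obtain ⟨t1, t2⟩ := trans_table k i hki
    have hw : wordP (trWord k i) ∈ alternatingGroup (Fin 9) := by
      rw [← coord.blockHom_eq blk (alternatingGroup (Fin 9)) blk_surj good_top (cov_word (trWord k i))]
      exact SetLike.coe_mem _
    obtain ⟨γ, hγ⟩ := ih (by omega) ((wordP (trWord k i))⁻¹ * p) (mul_mem (inv_mem hw) hp) fun j hj => by
      rw [Equiv.Perm.mul_apply, Equiv.Perm.inv_eq_iff_eq]
      by_cases hjk : j.val < k.val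
      · rw [hfix j hjk, t1 j hjk]
      · have hkv : k.val = 7 - (m + 1) := rfl
        rw [show j = ⟨k.val, by omega⟩ from Fin.ext (by simp only; omega), t2]
    refine ⟨word (trWord k i) * γ, ?_⟩
    rw [map_mul, Subgroup.coe_mul, hγ]
    have := coord.blockHom_eq blk (alternatingGroup (Fin 9)) blk_surj good_top (cov_word (trWord k i))
    show (coord.blockHom blk _ blk_surj good_top (word (trWord k i)) : Equiv.Perm (Fin 9)) * _ = p
    rw [this, mul_inv_cancel_left]

theorem card_ker_le : Nat.card nineHom.ker ≤ 6 := by
  have h := Subgroup.card_mul_index nineHom.ker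
  rw [Subgroup.index_ker, MonoidHom.range_eq_top.mpr nineHom_surjective, Subgroup.card_top,
    nat_card_alternatingGroup, Nat.card_fin, show Nat.factorial 9 / 2 = 181440 from by decide] at h
  have := card_cent
  omega

theorem nineHom_eq_one {γ : cent tau} (h : coord.rho γ = 1) : nineHom γ = 1 :=
  coord.blockHom_eq_one blk (alternatingGroup (Fin 9)) blk_surj good_top h

end CfsgLib.MonsterLocal21.Thompson
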