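import Mathlib
import Cfsg.Agent.Lib.MonsterType.LocalQuot
import Cfsg.Agent.Lib.MonsterLocal21.FixedClass

/-! From the centraliser of an odd element in the lattice automorphism group to the centraliser of an element of
odd prime order commuting with `z`, modulo that element. -/

set_option autoImplicit false

namespace CfsgLib.MonsterLocal21

open Cfsg CfsgLib.MonsterType CfsgLib.LargeExtra CfsgLib.MonsterType.Local

theorem cong_add {a b c d : leechLattice} (h : Cong a b) (h' : Cong c d) : Cong (a + c) (b + d) := by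
  obtain ⟨u, rfl⟩ := h
  obtain ⟨w, rfl⟩ := h'
  exact ⟨u + w, by abel⟩

/-- A class fixed by an automorphism of odd order contains a fixed vector. -/
theorem exists_fixed_rep {γ : Co0} {p : ℕ} (hp : Odd p) (hγ : γ ^ p = 1) {v : leechLattice} (h : Cong (γ • v) v) :
    ∃ v', γ • v' = v' ∧ Cong v v' := by
  have hi : ∀ i : ℕ, Cong ((γ ^ i) • v) v := by
    intro i
    induction i with
    | zero => rw [pow_zero, one_smul]; exact Cong.refl' _
    | succ i ih => rw [pow_succ', mul_smul]; exact (ih.smul' γ).trans' h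
  refine ⟨∑ i ∈ Finset.range p, (γ ^ i) • v, ?_, ?_⟩
  · rw [smul_sum']
    have e1 := Finset.sum_range_succ' (fun i => (γ ^ i) • v) p
    have e2 := Finset.sum_range_succ (fun i => (γ ^ i) • v) p
    rw [e2, hγ, pow_zero] at e1
    rw [add_right_cancel e1]
    exact Finset.sum_congr rfl fun i _ => by rw [pow_succ', mul_smul]
  · have hsum : ∀ m : ℕ, Cong (∑ i ∈ Finset.range m, (γ ^ i) • v) (m • v) := by
      intro m
      induction m with
      | zero => simpa using Cong.refl' (0 : leechLattice)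
      | succ m ih => rw [Finset.sum_range_succ, succ_nsmul]; exact cong_add ih (hi m)
    obtain ⟨m, rfl⟩ := hp
    refine ((hsum _).trans' ⟨m • v, ?_⟩).symm'
    rw [add_nsmul, two_mul, add_nsmul, one_nsmul]
    abel

theorem neg_smul_cong {γ : Co0} (h : γ ∈ Subgroup.center Co0) (v : leechLattice) : Cong (γ • v) v := by
  rcases center_cases h with rfl | rfl
  · rw [one_smul]; exact Cong.refl' _
  · have : sgnW ⟨1, one_mem_golay⟩ • v = -v := by
      apply Subtype.ext; funext i; rw [sgnW_apply]; simp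
    rw [this]; exact Cong.neg' v

variable {G : Type*} [Group G] [Finite G] {z : G} {Q : Subgroup (cz z)} [Q.Normal]
  {e : cz z ⧸ Q ≃* Spor.Co1} {ψ : leechLattice → Q ⧸ Subgroup.center Q}

/-- The centraliser of `y` modulo `⟨y⟩` from the lattice data of the image of `y`. -/
theorem setting_of_lattice (hS : IsExtraspecialCentralizerSetting z Q 12) (hψ : IsLeechModTwoIso Q e ψ)
    {p : ℕ} [hp : Fact p.Prime] (hp2 : p ≠ 2) {y : G} (hy : orderOf y = p) (hyz : y * z = z * y)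
    {γ₀ : Co0} (hγp : γ₀ ^ p = 1)
    (hγy : e (QuotientGroup.mk (⟨y, Subgroup.mem_centralizer_singleton_iff.mpr hyz⟩ : cz z)) = QuotientGroup.mk γ₀)
    {n k : ℕ} (C : Coord γ₀ n) (hn : n = 2 ^ (2 * k)) (hk : 1 ≤ k)
    {M : Type*} [Group M] [Finite M] (φ : cent γ₀ →* M) (hφs : Function.Surjective φ)
    (hker : Nat.card φ.ker ≤ 2 * p) (hfaith : ∀ γ, C.rho γ = 1 → φ γ = 1) (hM : pCore 2 M = ⊥)
    {x : Q} (hxc : IsConj z (gval x)) (hxz : gval x ≠ z) (hxy : gval x * y = y * gval x)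
    [hn' : ((Subgroup.zpowers y).subgroupOf (Subgroup.centralizer (Subgroup.zpowers y : Set G))).Normal] :
    ∃ (zb : ↥(Subgroup.centralizer (Subgroup.zpowers y : Set G)) ⧸
        (Subgroup.zpowers y).subgroupOf (Subgroup.centralizer (Subgroup.zpowers y : Set G)))
      (R : Subgroup (cz zb)) (_ : R.Normal),
      IsExtraspecialCentralizerSetting zb R k ∧ Nonempty (cz zb ⧸ R ≃* M) := by
  classical
  have : Finite Co0 := CfsgLib.Golay.co0_finite
  obtain ⟨hA, -, hnorm⟩ := setting_extraAt hS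
  have hpodd : Odd p := hp.out.odd_of_ne_two hp2
  have hy1 : y ≠ 1 := fun h => hp.out.ne_one (by rw [← hy, h, orderOf_one])
  have hyc : y ∈ cz z := Subgroup.mem_centralizer_singleton_iff.mpr hyz
  have hQp : IsPGroup 2 (qm Q) := hS.2.2.1.1.1.map _
  have hQy : ∀ {a : G}, a ∈ qm Q → a ∈ Subgroup.zpowers y → a = 1 := fun ha hb =>
    eq_one_of_two_odd hQp hp2 hy ha hb
  set c₀ : Spor.Co1 := QuotientGroup.mk γ₀ with hc₀
  have hc₀1 : c₀ ≠ 1 := by
    intro h
    rw [h, MulEquiv.map_eq_one_iff, QuotientGroup.eq_one_iff] at hγy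
    exact hy1 (hQy (coe_mem_qm.mpr hγy) (Subgroup.mem_zpowers y))
  have hordc : orderOf c₀ = p :=
    orderOf_eq_prime (by rw [hc₀, ← QuotientGroup.mk_pow, hγp, QuotientGroup.mk_one]) hc₀1
  -- commuting modulo the centre is commuting
  have hcomm : ∀ γ : Co0, (QuotientGroup.mk γ : Spor.Co1) * c₀ = c₀ * QuotientGroup.mk γ → γ ∈ cent γ₀ := by
    intro γ h
    refine Subgroup.mem_centralizer_singleton_iff.mpr ?_
    have hz : (γ₀ * γ)⁻¹ * (γ * γ₀) ∈ Subgroup.center Co0 := by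
      refine QuotientGroup.eq.mp ?_
      rw [QuotientGroup.mk_mul, QuotientGroup.mk_mul, ← hc₀, h]
    rcases center_cases hz with e1 | e1
    · exact (inv_mul_eq_one.mp e1).symm
    · exfalso
      set a := sgnW ⟨1, one_mem_golay⟩ with ha
      have hac : ∀ d : Co0, d * a = a * d := fun d => Subgroup.mem_center_iff.mp neg_mem_center d
      have e2 : γ * γ₀ * γ⁻¹ = a * γ₀ := by
        rw [inv_mul_eq_iff_eq_mul] at e1
        rw [e1, mul_assoc, mul_assoc, ← mul_assoc γ a, hac γ, mul_assoc a, mul_inv_cancel, mul_one, hac γ₀]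
      have h3 : (γ * γ₀ * γ⁻¹) ^ p = 1 := by rw [conj_pow, hγp, mul_one, mul_inv_cancel]
      rw [e2, (show Commute a γ₀ from (hac γ₀).symm).mul_pow, hγp, mul_one] at h3
      obtain ⟨m, hm⟩ := hpodd
      have hneg : ∀ v : leechLattice, a • v = -v := fun v => by
        apply Subtype.ext; funext i; rw [ha, sgnW_apply]; simp
      have haa : a * a = 1 := ext_latE fun j => by rw [mul_smul, one_smul, hneg, hneg, neg_neg]
      rw [hm, pow_succ, pow_mul, pow_two, haa, one_pow, one_mul] at h3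
      have := congrArg (fun d : Co0 => ((d • LeechEight.latE none : leechLattice) : GolayPt → ℤ) none) h3
      simp [ha, sgnW_apply, latE_apply] at this
  -- the kernel
  have hrho0 : ∀ γ : cent γ₀, (QuotientGroup.mk (γ : Co0) : Spor.Co1) ∈ Subgroup.zpowers c₀ → C.rho γ = 1 := by
    intro γ hγ
    refine C.rho_eq_one fun v hv => ?_
    obtain ⟨i, hi⟩ := Subgroup.mem_zpowers_iff.mp hγ
    rw [hc₀, ← QuotientGroup.mk_zpow, QuotientGroup.eq] at hi
    have e1 : (γ : Co0) = γ₀ ^ i * ((γ₀ ^ i)⁻¹ * γ) := (mul_inv_cancel_left _ _).symm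
    rw [e1, mul_smul]
    have hfix : γ₀ ^ i • v = v := by
      obtain ⟨j, rfl⟩ : ∃ j : ℤ, i = j := ⟨i, rfl⟩
      exact MulAction.mem_stabilizer_iff.mp (zpow_mem (MulAction.mem_stabilizer_iff.mpr hv) i)
    exact ((neg_smul_cong hi v).smul' _).trans' (by rw [hfix]; exact Cong.refl' _)
  set Z : Subgroup (cent γ₀) := ((Subgroup.zpowers c₀).comap (QuotientGroup.mk' _)).subgroupOf (cent γ₀) with hZ
  have hZk : Z ≤ φ.ker := fun γ hγ => hfaith γ (hrho0 γ hγ)
  have hZc : Nat.card Z = 2 * p := by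
    rw [hZ, Nat.card_congr (Subgroup.subgroupOfEquivOfLe (fun γ hγ => hcomm γ ?_)).toEquiv]
    · have := CfsgLib.PCore.card_comap_mk' (Subgroup.center Co0) (Subgroup.zpowers c₀)
      rw [Nat.card_zpowers, hordc, card_center_Co0] at this
      rw [this]
    · obtain ⟨i, hi⟩ := Subgroup.mem_zpowers_iff.mp (show (QuotientGroup.mk γ : Spor.Co1) ∈ _ from hγ)
      rw [← hi]
      exact ((Commute.refl c₀).zpow_left i).eq
  have hkZ : φ.ker = Z := (Subgroup.eq_of_le_of_card_ge hZk (hker.trans hZc.ge)).symm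
  have hmk : ∀ γ δ : cent γ₀, (QuotientGroup.mk (γ : Co0) : Spor.Co1) = QuotientGroup.mk (δ : Co0) → φ γ = φ δ := by
    intro γ δ h
    rw [← inv_mul_eq_one, ← map_inv, ← map_mul, ← MonoidHom.mem_ker, hkZ]
    show (QuotientGroup.mk ((γ : Co0)⁻¹ * δ) : Spor.Co1) ∈ Subgroup.zpowers c₀
    rw [QuotientGroup.mk_mul, QuotientGroup.mk_inv, h, inv_mul_cancel]
    exact one_mem _
  -- the homomorphism
  have hex : ∀ c : czb z y, ∃ γ : cent γ₀,
      e (QuotientGroup.mk (⟨c, c.2.1⟩ : cz z)) = QuotientGroup.mk (γ : Co0) := by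
    intro c
    obtain ⟨γ, hγ⟩ := QuotientGroup.mk_surjective (e (QuotientGroup.mk (⟨c, c.2.1⟩ : cz z)))
    refine ⟨⟨γ, hcomm γ ?_⟩, hγ.symm⟩
    show (QuotientGroup.mk γ : Spor.Co1) * c₀ = c₀ * QuotientGroup.mk γ
    rw [hγ, ← hγy, ← map_mul, ← map_mul, ← QuotientGroup.mk_mul, ← QuotientGroup.mk_mul]
    exact congrArg e (congrArg QuotientGroup.mk (Subtype.ext (mem_czb.mp c.2).2))
  choose L hL using hex
  let ω : czb z y →* M := MonoidHom.mk' (fun c => φ (L c)) fun c d => by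
    rw [← map_mul]
    refine hmk _ _ ?_
    show (QuotientGroup.mk (L (c * d) : Co0) : Spor.Co1) = QuotientGroup.mk ((L c : Co0) * (L d : Co0))
    rw [QuotientGroup.mk_mul, ← hL c, ← hL d, ← hL (c * d), ← map_mul]
    rfl
  have hωv : ∀ (c : czb z y) (γ : cent γ₀), e (QuotientGroup.mk (⟨c, c.2.1⟩ : cz z)) = QuotientGroup.mk (γ : Co0) →
      ω c = φ γ := fun c γ h => hmk _ _ ((hL c).symm.trans h)
  have hω1 : ∀ c : czb z y, ω c = 1 ↔
      e (QuotientGroup.mk (⟨c, c.2.1⟩ : cz z)) ∈ Subgroup.zpowers c₀ := fun c => by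
    show φ (L c) = 1 ↔ _
    rw [← MonoidHom.mem_ker, hkZ, hL]
    rfl
  have hQc : ∀ {a : G} (ha : a ∈ qm Q) (hc : a ∈ cz z), (QuotientGroup.mk (⟨a, hc⟩ : cz z) : cz z ⧸ Q) = 1 :=
    fun ha hc => (QuotientGroup.eq_one_iff _).mpr (coe_mem_qm.mp ha)
  -- classes of fixed vectors
  have hlift : ∀ v : leechLattice, γ₀ • v = v → ∃ r : Q, ψ v = QuotientGroup.mk r ∧ gval r ∈ fixQ Q y := by
    intro v hv
    obtain ⟨r, hr⟩ := QuotientGroup.mk_surjective (ψ v)
    refine ⟨r, hr.symm, mem_fixQ.mpr ⟨gval_mem r, (commute_of_sign hy hpodd hA.sq_one hyz ?_).symm⟩⟩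
    have h1 := psi_smul hψ hγy hr.symm
    rw [hv, ← hr] at h1
    rcases (mk_center_iff hS _ _).mp h1.symm with e1 | e1
    · exact Or.inl e1
    · exact Or.inr e1
  have hclass : ∀ r : fixQ Q y, ∃ (r' : Q) (v : leechLattice),
      gval r' = (r : G) ∧ γ₀ • v = v ∧ ψ v = QuotientGroup.mk r' := by
    intro r
    obtain ⟨hrc, hrQ⟩ := mem_qm.mp (mem_fixQ.mp r.2).1
    set r' : Q := ⟨⟨r, hrc⟩, hrQ⟩
    obtain ⟨v, hv⟩ := hψ.2.1 (QuotientGroup.mk r')
    have hcong : Cong (γ₀ • v) v := by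
      rw [psi_cong hψ, psi_smul hψ hγy hv, hv, mk_center_iff hS]
      left
      show y * (r : G) * y⁻¹ = r
      rw [← (mem_fixQ.mp r.2).2, mul_inv_cancel_right]
    obtain ⟨v', hv', hcv⟩ := exists_fixed_rep hpodd hγp hcong
    exact ⟨r', v', rfl, hv', ((psi_cong hψ).mp hcv.symm').trans hv⟩
  choose R₁ hR₁ hR₂ using fun i => hlift (C.lift i) (C.lift_fix i)
  have hzfix : z ∈ fixQ Q y := mem_fixQ.mpr ⟨hA.z_mem, hyz.symm⟩
  have hcard : Nat.card (fixQ Q y) = 2 ^ (2 * k + 1) := by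
    let f : Fin n × Bool → fixQ Q y := fun ib =>
      if ib.2 then ⟨z, hzfix⟩ * ⟨gval (R₁ ib.1), hR₂ ib.1⟩ else ⟨gval (R₁ ib.1), hR₂ ib.1⟩
    have hf : ∀ ib, ((f ib : fixQ Q y) : G) = gval (R₁ ib.1) ∨ ((f ib : fixQ Q y) : G) = z * gval (R₁ ib.1) := by
      rintro ⟨i, _ | _⟩
      exacts [Or.inl rfl, Or.inr rfl]
    have hinj : Function.Injective f := by
      rintro ⟨i, b⟩ ⟨j, b'⟩ h
      have h' := congrArg (fun t : fixQ Q y => (t : G)) h
      obtain rfl : i = j := by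
        rw [← C.kap_lift i, ← C.kap_lift j]
        refine C.kap_congr ((psi_cong hψ).mpr ?_)
        rw [hR₁, hR₁, mk_center_iff hS]
        cases b <;> cases b'
        · exact Or.inl h'
        · exact Or.inr h'
        · right
          have h2 : z * gval (R₁ i) = gval (R₁ j) := h'
          rw [← h2, ← mul_assoc, hA.sq_one, one_mul]
        · exact Or.inl (mul_left_cancel h')
      cases b <;> cases b'
      · rfl
      · exact absurd (mul_eq_right.mp (show gval (R₁ i) = z * gval (R₁ i) from h').symm) hA.ne_one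
      · exact absurd (mul_eq_right.mp (show z * gval (R₁ i) = gval (R₁ i) from h')) hA.ne_one
      · rfl
    have hsur : Function.Surjective f := by
      intro r
      obtain ⟨r', v, hr, hvf, hv⟩ := hclass r
      have h1 := (psi_cong hψ).mp (C.cong_lift hvf)
      rw [hv, hR₁, mk_center_iff hS, hr] at h1
      rcases h1 with e1 | e1
      · exact ⟨(C.kap v, false), Subtype.ext e1.symm⟩
      · exact ⟨(C.kap v, true), Subtype.ext e1.symm⟩
    rw [← Nat.card_congr (Equiv.ofBijective f ⟨hinj, hsur⟩), Nat.card_prod, Nat.card_fin,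
      Nat.card_eq_fintype_card, Fintype.card_bool, hn, pow_succ]
  have hnm : Subgroup.zpowers y ≤ Subgroup.normalizer (qm Q : Set G) := Subgroup.zpowers_le.mpr (hnorm hyc)
  have hodd : Odd (Nat.card (Subgroup.zpowers y)) := by rw [Nat.card_zpowers, hy]; exact hpodd
  have hcen : ∀ a ∈ fixQ Q y, (∀ b ∈ fixQ Q y, b * a = a * b) → a = 1 ∨ a = z := fun a ha h =>
    inf_centralizer_center hA hnm hodd ha h
  have hna : ∃ a ∈ fixQ Q y, ∃ c ∈ fixQ Q y, a * c ≠ c * a := by
    by_contra hne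
    push Not at hne
    have hsub : ∀ a : fixQ Q y, a = 1 ∨ a = ⟨z, hzfix⟩ := fun a =>
      (hcen a a.2 fun b hb => hne b hb a a.2).imp Subtype.ext Subtype.ext
    have : Nat.card (fixQ Q y) ≤ 2 := by
      refine (Nat.card_le_card_of_surjective (fun b : Bool => if b then (⟨z, hzfix⟩ : fixQ Q y) else 1) fun a => ?_).trans
        (by simp)
      rcases hsub a with h | h
      exacts [⟨false, h.symm⟩, ⟨true, h.symm⟩]
    rw [hcard] at this
    have h8 : 2 ^ 2 ≤ 2 ^ (2 * k + 1) := Nat.pow_le_pow_right (by norm_num) (by omega)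
    omega
  have hωs : Function.Surjective ω := by
    intro m
    obtain ⟨γ, rfl⟩ := hφs m
    obtain ⟨c, hc⟩ := exists_lift_Co0 e (γ : Co0)
    have hcy : (c : G) * y * (c : G)⁻¹ * y⁻¹ ∈ qm Q := by
      refine coe_mem_qm (c := c * ⟨y, hyc⟩ * c⁻¹ * ⟨y, hyc⟩⁻¹).mpr ((QuotientGroup.eq_one_iff _).mp (e.injective ?_))
      rw [map_one, QuotientGroup.mk_mul, QuotientGroup.mk_mul, QuotientGroup.mk_mul, QuotientGroup.mk_inv,
        QuotientGroup.mk_inv, map_mul, map_mul, map_mul, map_inv, map_inv, hc, hγy, ← QuotientGroup.mk_mul,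
        Subgroup.mem_centralizer_singleton_iff.mp γ.2, QuotientGroup.mk_mul, mul_inv_cancel_right, mul_inv_cancel]
    obtain ⟨q, hq, hqc⟩ := exists_mul_commute hp2 hQp hy
      (fun a ha => (Subgroup.mem_normalizer_iff.mp (hnorm hyc) a).mp ha) hcy
    have hqz : q * (c : G) ∈ cz z := mul_mem (qm_le hq) c.2
    refine ⟨⟨q * c, mem_czb.mpr ⟨Subgroup.mem_centralizer_singleton_iff.mp hqz, hqc⟩⟩, hωv _ _ ?_⟩
    rw [← hc, show (⟨q * (c : G), _⟩ : cz z) = ⟨q, qm_le hq⟩ * c from rfl, QuotientGroup.mk_mul, hQc hq, one_mul]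
  have hωQ : ∀ c : czb z y, (c : G) ∈ fixQ Q y → ω c = 1 := by
    intro c hc
    rw [hω1, hQc (mem_fixQ.mp hc).1, map_one]
    exact one_mem _
  have hωb : ∀ c : czb z y, (c : G) ∈ Subgroup.zpowers y → ω c = 1 := by
    intro c hc
    rw [hω1]
    obtain ⟨i, hi⟩ := Subgroup.mem_zpowers_iff.mp hc
    refine ⟨i, ?_⟩
    show c₀ ^ i = _
    rw [← hγy, ← map_zpow, ← QuotientGroup.mk_zpow]
    exact congrArg e (congrArg QuotientGroup.mk (Subtype.ext (by simpa using hi)))
  have hωk : ∀ c : czb z y, ω c = 1 → ∃ q ∈ fixQ Q y, q⁻¹ * (c : G) ∈ Subgroup.zpowers y := by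
    intro c hc
    rw [hω1] at hc
    obtain ⟨i, hi⟩ := Subgroup.mem_zpowers_iff.mp hc
    rw [← hγy, ← map_zpow] at hi
    have h1 := QuotientGroup.eq.mp (e.injective hi)
    have h2 : (y ^ i)⁻¹ * (c : G) ∈ qm Q := by
      have := coe_mem_qm.mpr h1
      simpa using this
    have hyi : Commute (y ^ i) (c : G) := (show Commute y (c : G) from (mem_czb.mp c.2).2.symm).zpow_left i
    refine ⟨(c : G) * (y ^ i)⁻¹, mem_fixQ.mpr ⟨?_, ?_⟩, ?_⟩
    · rw [← hyi.inv_left.eq]; exact h2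
    · exact ((show Commute (c : G) y from (mem_czb.mp c.2).2).mul_left
        ((Commute.refl y).zpow_left i).inv_left).eq
    · rw [mul_inv_rev, inv_inv, inv_mul_cancel_right]
      exact zpow_mem (Subgroup.mem_zpowers y) i
  have hωf : ∀ c : czb z y, (∀ q ∈ fixQ Q y, (c : G) * q = q * (c : G)) → ω c = 1 := by
    intro c hc
    show φ (L c) = 1
    refine hfaith _ (C.rho_eq_one fun v hv => ?_)
    obtain ⟨r, hr, hrf⟩ := hlift v hv
    rw [psi_cong hψ, psi_smul hψ (hL c) hr, hr, mk_center_iff hS]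
    left
    show (c : G) * gval r * (c : G)⁻¹ = gval r
    rw [hc _ hrf, mul_inv_cancel_right]
  obtain ⟨zb, R, hR, hset, hiso, -⟩ := local_setting (k := k) (by norm_num) hS hp2 hy hyz hcen hna hcard
    ⟨gval x, mem_fixQ.mpr ⟨gval_mem x, hxy⟩, hxc, hxz⟩ ω hωs hωQ hωb hωk hωf hM (hn := hn')
  exact ⟨zb, R, hR, hset, hiso⟩

end CfsgLib.MonsterLocal21
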