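import Mathlib
import Cfsg.Agent.Lib.MonsterLocal21.FixedClass

/-! The centraliser of a lattice automorphism acting on a family of sets of fixed classes, and the orbit of the
frame when some singular fixed classes contain short vectors. -/

set_option autoImplicit false

namespace CfsgLib.MonsterLocal21

open Cfsg CfsgLib.MonsterType

/-- The class of a coordinate vector contains no vector of squared length 32. -/
theorem not_cong_short {u : leechLattice} (hu : sqNorm (u : GolayPt → ℤ) = 32) (j : GolayPt) :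
    ¬ Cong u (LeechEight.latE j) := by
  rintro ⟨w, hw⟩
  have h64 : sqNorm (LeechEight.latE j : GolayPt → ℤ) = 64 := by
    have := sqNorm_image_latE 1 j; rwa [one_smul] at this
  have e1 : sqNorm ((w + LeechEight.latE j : leechLattice) : GolayPt → ℤ) + sqNorm (w : GolayPt → ℤ) = 48 := by
    rw [hw] at hu
    simp only [sqNorm, AddSubgroup.coe_add, Pi.add_apply] at hu h64 ⊢
    have : ∀ a b : ℤ, 2 * ((b + a) ^ 2 + b ^ 2) = a ^ 2 + (a + (b + b)) ^ 2 := fun a b => by ring
    have e : 2 * ((∑ i, ((w : GolayPt → ℤ) i + (LeechEight.latE j : GolayPt → ℤ) i) ^ 2) +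
        ∑ i, (w : GolayPt → ℤ) i ^ 2) = (∑ i, (LeechEight.latE j : GolayPt → ℤ) i ^ 2) +
        ∑ i, ((LeechEight.latE j : GolayPt → ℤ) i + ((w : GolayPt → ℤ) i + (w : GolayPt → ℤ) i)) ^ 2 := by
      rw [← Finset.sum_add_distrib, Finset.mul_sum, ← Finset.sum_add_distrib]
      exact Finset.sum_congr rfl fun i _ => this _ _
    omega
  by_cases h0 : w = 0
  · subst h0
    rw [hw, add_zero, add_zero] at hu
    omega
  · have h1 := min_norm w.2 (coe_ne_zero h0)
    by_cases h2 : w + LeechEight.latE j = 0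
    · have h3 : u = -LeechEight.latE j := by rw [hw, eq_neg_of_add_eq_zero_left h2]; abel
      rw [h3] at hu
      simp only [sqNorm, AddSubgroup.coe_neg, Pi.neg_apply, neg_sq] at hu h64
      omega
    · have h4 := min_norm (w + LeechEight.latE j).2 (coe_ne_zero h2)
      omega

namespace Coord

variable {γ₀ : Co0} {n : ℕ} (C : Coord γ₀ n) {α : Type*} (mem : α → Fin n → Bool) (T : Subgroup (Equiv.Perm α))

/-- `γ` moves the sets of the family by `p`. -/
def CovF (γ : cent γ₀) (p : Equiv.Perm α) : Prop := ∀ a x, mem (p a) (C.rho γ x) = mem a x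

variable {C mem} in
theorem CovF.one : C.CovF mem 1 1 := fun a x => by rw [map_one, Equiv.Perm.one_apply, Equiv.Perm.one_apply]

variable {C mem} in
theorem CovF.mul {γ δ : cent γ₀} {p q : Equiv.Perm α} (hγ : C.CovF mem γ p) (hδ : C.CovF mem δ q) :
    C.CovF mem (γ * δ) (p * q) := fun a x => by
  rw [map_mul, Equiv.Perm.mul_apply, Equiv.Perm.mul_apply, hγ, hδ]

variable {C mem} in
theorem CovF.inv {γ : cent γ₀} {p : Equiv.Perm α} (hγ : C.CovF mem γ p) : C.CovF mem γ⁻¹ p⁻¹ := fun a x => by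
  have h := hγ (p⁻¹ a) ((C.rho γ)⁻¹ x)
  rw [show p (p⁻¹ a) = a from p.apply_symm_apply a,
    show C.rho γ ((C.rho γ)⁻¹ x) = x from (C.rho γ).apply_symm_apply x] at h
  rw [map_inv, h]

/-- The elements permuting the family within `T`. -/
def goodF : Subgroup (cent γ₀) where
  carrier := {γ | ∃ p ∈ T, C.CovF mem γ p}
  one_mem' := ⟨1, one_mem _, CovF.one⟩
  mul_mem' := fun ⟨p, hp, hγ⟩ ⟨q, hq, hδ⟩ => ⟨p * q, mul_mem hp hq, hγ.mul hδ⟩
  inv_mem' := fun ⟨p, hp, hγ⟩ => ⟨p⁻¹, inv_mem hp, hγ.inv⟩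

variable {C mem} in
theorem CovF.unique (hsep : ∀ a b, (∀ x, mem a x = mem b x) → a = b) {γ : cent γ₀} {p q : Equiv.Perm α}
    (hp : C.CovF mem γ p) (hq : C.CovF mem γ q) : p = q := Equiv.ext fun a => hsep _ _ fun x => by
  obtain ⟨y, rfl⟩ := (C.rho γ).surjective x
  rw [hp, hq]

/-- The action on the family. -/
noncomputable def familyHom (hsep : ∀ a b, (∀ x, mem a x = mem b x) → a = b) (hg : C.goodF mem T = ⊤) :
    cent γ₀ →* T :=
  MonoidHom.mk' (fun γ => ⟨(show γ ∈ C.goodF mem T by rw [hg]; trivial).choose,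
      (show γ ∈ C.goodF mem T by rw [hg]; trivial).choose_spec.1⟩) fun γ δ =>
    Subtype.ext (CovF.unique hsep (show γ * δ ∈ C.goodF mem T by rw [hg]; trivial).choose_spec.2
      ((show γ ∈ C.goodF mem T by rw [hg]; trivial).choose_spec.2.mul
        (show δ ∈ C.goodF mem T by rw [hg]; trivial).choose_spec.2))

theorem familyHom_eq (hsep : ∀ a b, (∀ x, mem a x = mem b x) → a = b) (hg : C.goodF mem T = ⊤) {γ : cent γ₀}
    {p : Equiv.Perm α} (hp : C.CovF mem γ p) : (C.familyHom mem T hsep hg γ : Equiv.Perm α) = p :=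
  CovF.unique hsep (show γ ∈ C.goodF mem T by rw [hg]; trivial).choose_spec.2 hp

theorem familyHom_eq_one (hsep : ∀ a b, (∀ x, mem a x = mem b x) → a = b) (hg : C.goodF mem T = ⊤) {γ : cent γ₀}
    (h : C.rho γ = 1) : C.familyHom mem T hsep hg γ = 1 :=
  Subtype.ext (C.familyHom_eq mem T hsep hg fun a x => by
    rw [h, OneMemClass.coe_one, Equiv.Perm.one_apply, Equiv.Perm.one_apply])

end Coord

/-! ### The orbit of the frame -/

variable {σ : M24} {n : ℕ} (C : Coord (permW σ) n) (e : Fin n)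

/-- A class that may be a frame: singular, non-zero, without short vectors. -/
def FrameLike (x : Fin n) : Prop :=
  qv (C.lift x) = 0 ∧ x ≠ C.kap 0 ∧ ∀ u : leechLattice, sqNorm (u : GolayPt → ℤ) = 32 → ¬ Cong u (C.lift x)

theorem frameLike_rho (he : Cong (C.lift e) (LeechEight.latE none)) (he0 : e ≠ C.kap 0) (γ : cent (permW σ)) :
    FrameLike C (C.rho γ e) := by
  obtain ⟨h1, h2⟩ := rho_frame_mem C e he he0 γ
  refine ⟨h1, h2, fun u hu hc => ?_⟩
  have h3 : Cong u ((γ : Co0) • LeechEight.latE none) :=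
    hc.trans' ((C.cong_of_rho_eq rfl).symm'.trans' (he.smul' _))
  have h4 := h3.smul' (γ : Co0)⁻¹
  rw [inv_smul_smul] at h4
  exact not_cong_short (by rw [← hu]; exact ((γ : Co0)⁻¹).2.2 u) none h4

theorem eq_top_of_frameLike (K : Subgroup (cent (permW σ))) (he : Cong (C.lift e) (LeechEight.latE none))
    (he0 : e ≠ C.kap 0) (hperm : ∀ (π : M24) (h : π * σ = σ * π), ⟨permW π, permW_mem_cent h⟩ ∈ K)
    (hsgn : ∀ (c : golayCode) (h : CfsgLib.GolayModule.act (σ : Equiv.Perm GolayPt) c.1 = c.1),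
      ⟨sgnW c, sgnW_mem_cent h⟩ ∈ K)
    (horb : ∀ x, FrameLike C x → ∃ δ ∈ K, C.rho δ e = x) : K = ⊤ := by
  refine (Subgroup.eq_top_iff' _).mpr fun γ => ?_
  obtain ⟨δ, hδ, hδx⟩ := horb _ (frameLike_rho C e he he0 γ)
  have hfix : C.rho (δ⁻¹ * γ) e = e := by
    rw [map_mul, map_inv, Equiv.Perm.mul_apply, Equiv.Perm.inv_eq_iff_eq]
    exact hδx.symm
  obtain ⟨⟨⟨c, hc⟩, ⟨π, hπ⟩⟩, hcπ⟩ := exists_mono C e he hfix
  have : δ⁻¹ * γ = (⟨sgnW c, sgnW_mem_cent hc⟩ : cent (permW σ)) * ⟨permW π, permW_mem_cent hπ⟩ :=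
    Subtype.ext hcπ
  rw [show γ = δ * (δ⁻¹ * γ) by group, this]
  exact mul_mem hδ (mul_mem (hsgn c hc) (hperm π hπ))

theorem card_cent_le_frameLike (he : Cong (C.lift e) (LeechEight.latE none)) (he0 : e ≠ C.kap 0) :
    Nat.card (cent (permW σ)) ≤
      Nat.card {x : Fin n // FrameLike C x} *
        (Nat.card {c : golayCode // CfsgLib.GolayModule.act (σ : Equiv.Perm GolayPt) c.1 = c.1} *
          Nat.card {π : M24 // π * σ = σ * π}) := by
  classical
  have := CfsgLib.Golay.co0_finite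
  let _ : MulAction (cent (permW σ)) (Fin n) := MulAction.compHom (Fin n) C.rho
  rw [← Nat.card_congr (MulAction.orbitProdStabilizerEquivGroup (cent (permW σ)) e), Nat.card_prod]
  refine Nat.mul_le_mul ?_ ?_
  · refine Nat.card_le_card_of_injective (fun x => (⟨x.1, ?_⟩ : {x : Fin n // FrameLike C x}))
      fun a b h => Subtype.ext (congrArg (fun t => t.1) h)
    obtain ⟨γ, hγ⟩ := x.2
    rw [← hγ]
    exact frameLike_rho C e he he0 γ
  · rw [← Nat.card_prod]
    choose f hf using fun γ : MulAction.stabilizer (cent (permW σ)) e => exists_mono C e he γ.2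
    refine Nat.card_le_card_of_injective f fun a b h => Subtype.ext (Subtype.ext ?_)
    rw [hf a, hf b, h]

end CfsgLib.MonsterLocal21
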