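import Mathlib

/-! Tables for the centraliser in the lattice automorphism group of an element of order 5 with four fixed points
of the monomial subgroup: a basis of the fixed lattice, a non-monomial element, the two rulings of five sets of
classes. -/

set_option autoImplicit false

namespace CfsgLib.MonsterLocal21.Harada

def sigL : List ℕ :=
  [0, 18, 6, 3, 2, 21, 1, 5, 16, 12, 7, 19, 8, 9, 17, 15, 13, 11, 4, 22, 10, 20, 14, 23]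

def sigInv : List ℕ :=
  [0, 6, 4, 3, 18, 7, 2, 10, 12, 13, 20, 17, 9, 16, 22, 15, 8, 14, 1, 11, 21, 5, 19, 23]

def genA : List ℕ :=
  [3, 8, 9, 0, 13, 22, 12, 19, 4, 1, 11, 5, 18, 6, 10, 23, 2, 7, 16, 21, 17, 14, 20, 15]

def genAInv : List ℕ :=
  [3, 9, 16, 0, 8, 11, 13, 17, 1, 2, 14, 10, 6, 4, 21, 23, 18, 20, 12, 7, 22, 19, 5, 15]

def genB : List ℕ :=
  [15, 10, 21, 3, 5, 14, 20, 22, 13, 8, 19, 1, 16, 12, 2, 23, 9, 6, 7, 18, 11, 17, 4, 0]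

def genBInv : List ℕ :=
  [23, 11, 14, 3, 22, 4, 17, 18, 9, 16, 1, 20, 13, 8, 5, 0, 12, 21, 19, 10, 6, 2, 7, 15]

def cenProg : List (ℕ × ℕ) :=
  [(1, 1), (1, 2), (3, 2), (3, 3), (5, 3), (5, 4), (7, 4), (7, 5), (8, 5), (10, 5), (10, 6), (12, 6), (12, 7), (14, 7), (14, 8), (15, 8), (17, 8), (17, 9), (19, 9), (19, 10), (20, 10), (21, 10), (23, 10), (23, 11), (25, 11), (25, 12), (26, 12), (28, 12), (28, 13), (30, 13), (30, 14), (31, 14), (32, 14), (33, 13), (34, 12), (35, 12), (37, 12), (37, 13), (38, 13), (40, 13), (40, 14), (42, 14), (42, 15), (43, 15), (44, 15), (45, 14), (47, 10), (47, 11), (48, 11), (50, 11), (50, 11), (51, 11), (52, 11), (53, 10), (54, 5), (55, 5), (56, 5)]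

def cenStages : List (List ℕ × List ℕ × List ℕ) :=
  [([1, 18, 4, 2, 6], [], [0, 1, 2, 3, 4, 5, 6, 7, 8, 9, 10, 11, 12, 13, 14, 15, 16, 17, 18, 19, 20, 21, 22, 23]),
  ([5, 21, 20, 10, 7], [], [0, 1, 2, 3, 4, 5, 6, 7, 8, 9, 10, 11, 12, 13, 14, 15, 16, 17, 18, 19, 20, 21, 22, 23]),
  ([8, 16, 13, 9, 12], [1384564, 2425238, 3154402, 78514, 1315526, 2372388, 3216208, 3421328, 2168036, 1127686, 267634, 3474978], [0, 1, 2, 3, 4, 5, 6, 7, 8, 9, 10, 11, 12, 13, 14, 15, 16, 17, 18, 19, 20, 21, 22, 23]),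
  ([11, 19, 22, 14, 17], [421910, 2826278, 2969648, 3698756, 4063314, 1265762, 5709954, 5329044, 8126628, 6889680, 4485344, 4325622], [0, 1, 2, 3, 4, 5, 6, 7, 8, 9, 10, 11, 12, 13, 14, 15, 16, 17, 18, 19, 20, 21, 22, 23]),
  ([0], [5902343, 6053905, 7417889, 6447171, 6557781, 4800613, 864389, 737427, 2494627, 2121909, 3489985, 1577201], [0, 1, 2, 3, 4, 5, 6, 7, 8, 9, 10, 11, 12, 13, 14, 15, 16, 17, 18, 19, 20, 21, 22, 23]),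
  ([3], [7221256, 3416079, 3297305, 6832158, 2031657, 4526126, 4415544, 806987, 5652556, 5255258, 663645, 2162811], [0, 1, 2, 3, 4, 5, 6, 7, 8, 9, 10, 11, 12, 13, 14, 15, 16, 17, 18, 19, 20, 21, 22, 23]),
  ([15], [4845570, 1302533, 2605066, 1413139, 5210132, 2207772, 3719203, 6475812, 843820, 6594610, 692282, 5275709], [0, 1, 2, 3, 4, 5, 6, 7, 8, 9, 10, 11, 12, 13, 14, 15, 16, 17, 18, 19, 20, 21, 22, 23]),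
  ([23], [13062145, 9347075, 13938692, 10305542, 11100169, 14716939, 12222476, 10170384, 13811730, 8966165, 12656663, 16056344], [0, 1, 2, 3, 4, 5, 6, 7, 8, 9, 10, 11, 12, 13, 14, 15, 16, 17, 18, 19, 20, 21, 22, 23])]

def cycOf : List ℕ :=
  [0, 1, 1, 2, 1, 3, 1, 3, 4, 4, 3, 5, 4, 4, 5, 6, 4, 5, 1, 5, 3, 3, 5, 7]

def cycRep : List ℕ :=
  [0, 1, 3, 5, 8, 11, 15, 23]

def basA : List (List ℤ) :=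
  [[1, 1, 1, 1, 1, 1, 1, 5],
  [0, 2, 0, 0, 2, 2, 2, 0],
  [0, 0, 2, 0, 2, 2, 0, 2],
  [0, 0, 0, 2, 0, 2, 2, 2],
  [0, 0, 0, 0, 4, 0, 0, 4],
  [0, 0, 0, 0, 0, 4, 0, 4],
  [0, 0, 0, 0, 0, 0, 4, 4],
  [0, 0, 0, 0, 0, 0, 0, 8]]

def dualRows : List (List ℤ) :=
  [[0, 0, 0, 0, 0, 0, 0, 0, 0, 0, 0, 0, 0, 0, 0, 0, 0, 0, 0, 0, 0, 0, 0, 8],
  [0, 0, 0, 0, 0, 0, 0, 0, 0, 0, 0, 4, 0, 0, 4, 0, 0, 4, 0, 4, 0, 0, 4, 12],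
  [0, 0, 0, 0, 0, 0, 0, 0, 0, 0, 0, 4, 0, 0, 4, 4, 0, 4, 0, 4, 0, 0, 4, 8],
  [0, 0, 0, 0, 0, 0, 0, 0, 4, 4, 0, 4, 4, 4, 4, 0, 4, 4, 0, 4, 0, 0, 4, 8],
  [0, 0, 0, 0, 0, 2, 0, 2, 0, 0, 2, 2, 0, 0, 2, 6, 0, 2, 0, 2, 2, 2, 2, 14],
  [0, 2, 2, 2, 2, 2, 2, 2, 4, 4, 2, 6, 4, 4, 6, 4, 4, 6, 2, 6, 2, 2, 6, 4],
  [0, 0, 0, 2, 0, 0, 0, 0, 6, 6, 0, 2, 6, 6, 2, 0, 6, 2, 0, 2, 0, 0, 2, 14],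
  [1, 3, 3, 1, 3, 1, 3, 1, 7, 7, 1, 3, 7, 7, 3, 7, 7, 3, 3, 3, 1, 1, 3, 13]]

def gamRows : List (List ℤ) :=
  [[6, 0, 0, -2, 0, -2, 0, -2, 0, 0, -2, 0, 0, 0, 0, 0, 0, 0, 0, 0, -2, -2, 0, -2],
  [0, 2, 2, 0, 2, 0, 2, 0, -2, -2, 0, 2, 2, -2, -2, -2, 2, -2, -2, 2, 0, 0, -2, 0],
  [0, 2, 2, 0, 2, 0, -2, 0, -2, -2, 0, -2, 2, 2, 2, -2, -2, 2, 2, -2, 0, 0, -2, 0],
  [-2, 0, 0, -2, 0, -2, 0, -2, 0, 0, -2, 0, 0, 0, 0, 0, 0, 0, 0, 0, -2, -2, 0, 6],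
  [0, 2, -2, 0, 2, 0, 2, 0, -2, 2, 0, -2, -2, -2, 2, -2, 2, -2, 2, -2, 0, 0, 2, 0],
  [-2, 0, 0, -2, 0, -2, 0, -2, 0, 0, -2, 0, 0, 0, 0, 0, 0, 0, 0, 0, -2, 6, 0, -2],
  [0, -2, 2, 0, 2, 0, 2, 0, 2, 2, 0, 2, -2, -2, -2, -2, -2, 2, 2, -2, 0, 0, -2, 0],
  [-2, 0, 0, -2, 0, 6, 0, -2, 0, 0, -2, 0, 0, 0, 0, 0, 0, 0, 0, 0, -2, -2, 0, -2],
  [0, -2, 2, 0, -2, 0, -2, 0, -2, 2, 0, 2, 2, -2, 2, -2, -2, -2, 2, 2, 0, 0, 2, 0],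
  [0, -2, -2, 0, -2, 0, 2, 0, -2, -2, 0, 2, -2, 2, 2, -2, 2, 2, 2, 2, 0, 0, -2, 0],
  [-2, 0, 0, -2, 0, -2, 0, 6, 0, 0, -2, 0, 0, 0, 0, 0, 0, 0, 0, 0, -2, -2, 0, -2],
  [0, -2, -2, 0, 2, 0, -2, 0, 2, -2, 0, 2, 2, 2, -2, -2, 2, -2, 2, -2, 0, 0, 2, 0],
  [0, 2, -2, 0, 2, 0, -2, 0, -2, 2, 0, 2, -2, 2, -2, -2, -2, 2, -2, 2, 0, 0, 2, 0],
  [0, 2, 2, 0, -2, 0, -2, 0, 2, -2, 0, 2, -2, -2, 2, -2, 2, 2, -2, -2, 0, 0, 2, 0],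
  [0, 2, -2, 0, -2, 0, 2, 0, 2, 2, 0, 2, 2, 2, 2, -2, -2, -2, -2, -2, 0, 0, -2, 0],
  [0, -2, -2, 0, -2, 0, -2, 0, -2, -2, 0, -2, -2, -2, -2, -2, -2, -2, -2, -2, 0, 0, -2, 0],
  [0, -2, -2, 0, 2, 0, 2, 0, 2, -2, 0, -2, 2, -2, 2, -2, -2, 2, -2, 2, 0, 0, 2, 0],
  [0, 2, -2, 0, -2, 0, -2, 0, 2, 2, 0, -2, 2, -2, -2, -2, 2, 2, 2, 2, 0, 0, -2, 0],
  [0, 2, 2, 0, -2, 0, 2, 0, 2, -2, 0, -2, -2, 2, -2, -2, -2, -2, 2, 2, 0, 0, 2, 0],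
  [0, -2, 2, 0, 2, 0, -2, 0, 2, 2, 0, -2, -2, 2, 2, -2, 2, -2, -2, 2, 0, 0, -2, 0],
  [-2, 0, 0, -2, 0, -2, 0, -2, 0, 0, 6, 0, 0, 0, 0, 0, 0, 0, 0, 0, -2, -2, 0, -2],
  [-2, 0, 0, -2, 0, -2, 0, -2, 0, 0, -2, 0, 0, 0, 0, 0, 0, 0, 0, 0, 6, -2, 0, -2],
  [0, -2, 2, 0, -2, 0, 2, 0, -2, 2, 0, -2, 2, 2, -2, -2, 2, 2, -2, -2, 0, 0, 2, 0],
  [-2, 0, 0, 6, 0, -2, 0, -2, 0, 0, -2, 0, 0, 0, 0, 0, 0, 0, 0, 0, -2, -2, 0, -2]]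

def famTab : List ℕ :=
  [552409307209916609392727171246105332094586119561235582071963851759329284, 28977176148616185546176247902798640009474671812214574120230345692800968950784, 1809251502179459952118486551133404049337826250254911570237409189264059531264, 14162383505272598522767018643382370865936061350222083264462206986432282624, 452313280047725455278064687761751819167660645162604717604605019276967936000, 442143232299066718511692499815973401241545510888618581478415448313693184, 2261564512515798615334613273769686282098637231763723084485804706927770337284, 28963040617219451791296763459622043295927114112290973281156568419787352449024, 28469703693467798625847377102275791184566469581793434591064004803723264, 28379980984610527556444614239776526960011899066706949260451466011947827200]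

def frameIdx : ℕ :=
  128

def fixIdx : List ℕ :=
  [0, 94, 769, 863, 1193, 1271, 1960, 2038, 2057, 2135, 2824, 2902, 3232, 3326, 4001, 4095]

def signIdx : List ℕ :=
  [94, 769, 1193, 2057]

def genSw : List ℕ :=
  [0, 0, 0, 1, 1, 1, 1]

def genL : List (List ℕ) :=
  [[3, 2, 1, 0, 4],
  [3, 1, 0, 2, 4],
  [4, 1, 3, 2, 0],
  [2, 1, 3, 0, 4],
  [0, 3, 1, 2, 4],
  [3, 0, 2, 1, 4],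
  [1, 2, 0, 3, 4]]

def genLInv : List (List ℕ) :=
  [[3, 2, 1, 0, 4],
  [2, 1, 3, 0, 4],
  [4, 1, 3, 2, 0],
  [3, 1, 0, 2, 4],
  [0, 2, 3, 1, 4],
  [1, 3, 2, 0, 4],
  [2, 0, 1, 3, 4]]

def genR : List (List ℕ) :=
  [[2, 3, 0, 1, 4],
  [1, 3, 2, 0, 4],
  [2, 4, 0, 3, 1],
  [3, 1, 0, 2, 4],
  [0, 2, 3, 1, 4],
  [1, 3, 2, 0, 4],
  [2, 0, 1, 3, 4]]

def genRInv : List (List ℕ) :=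
  [[2, 3, 0, 1, 4],
  [3, 0, 2, 1, 4],
  [2, 4, 0, 3, 1],
  [2, 1, 3, 0, 4],
  [0, 3, 1, 2, 4],
  [3, 0, 2, 1, 4],
  [1, 2, 0, 3, 4]]

def genMat : List (List (List ℤ)) :=
  [[[8, 32, 48, 48, 64, 96, 56, 120], [16, 24, 16, 56, 48, 88, 88, 136], [0, 0, 8, 0, 32, 48, 0, 56], [16, 64, 64, 56, 80, 96, 48, 80], [0, 0, 16, 0, 24, 56, 0, 88], [0, 0, 16, 0, 64, 56, 0, 48], [32, 48, 48, 32, 80, 32, 56, 80], [0, 0, 32, 0, 48, 32, 0, 56]],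
  [[8, 32, 32, 48, 40, 80, 56, 96], [16, 24, 16, 56, 48, 88, 88, 136], [0, 0, 0, 40, 0, 64, 64, 104], [16, 64, 56, 56, 48, 88, 48, 88], [0, 0, 0, 80, 0, 80, 120, 144], [0, 0, 0, 0, 0, 40, 0, 64], [32, 48, 32, 32, 56, 16, 56, 56], [0, 0, 0, 0, 0, 0, 0, 8]],
  [[-16, -24, -32, -16, -72, -40, -24, -64], [0, 0, -32, 0, -48, -32, 0, -56], [8, 32, 8, 48, -16, 16, 56, 8], [-24, -56, -56, -24, -80, -56, -24, -64], [-8, 48, 32, 32, -24, 32, -8, -56], [-8, -32, -48, 32, -64, -8, 72, 24], [-8, -32, -32, -48, -40, -72, -48, -88], [-16, -24, -16, -16, -48, -16, -16, -32]],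
  [[-40, -40, -24, 0, -56, 24, -32, -32], [0, 40, 32, 80, 8, 72, 80, 56], [-16, 16, 24, 64, -8, 88, 48, 72], [-16, 16, 16, 24, 0, 64, -8, 0], [-32, -48, -32, 48, -56, 64, 64, 88], [-32, 32, 48, 48, -16, 104, -16, 8], [-32, -48, -48, -32, -80, -32, -56, -80], [-64, -96, -64, -64, -112, -32, -112, -104]],
  [[-40, -40, -24, -40, -56, 8, -88, -72], [0, 40, 32, 0, 8, 32, -40, -24], [-16, 16, 24, -16, -8, 16, -64, -64], [-16, 16, 16, 24, 0, 64, -8, 0], [-32, -48, -32, -112, -56, -96, -176, -192], [-32, 32, 48, 48, -16, 104, -16, 8], [-32, -48, -48, -32, -80, -32, -56, -80], [-64, -96, -64, -64, -112, -32, -112, -104]],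
  [[-40, -40, -16, 0, -64, 32, -32, 0], [0, 40, 48, 80, 32, 128, 80, 144], [-16, 16, 24, 64, -8, 88, 48, 72], [-16, 16, 32, 24, -16, 40, -8, 8], [-32, -48, -32, 48, -56, 64, 64, 88], [-32, 32, 48, 48, -16, 104, -16, 8], [-32, -48, -16, -32, -32, 0, -56, -24], [-64, -96, -64, -64, -112, -32, -112, -104]],
  [[40, 40, 16, 40, 64, 24, 88, 96], [0, -40, -48, 0, -32, -8, 40, 56], [16, -16, -24, 16, 8, -16, 64, 64], [16, -16, -32, -24, 16, -40, 8, -8], [32, 48, 32, 112, 56, 96, 176, 192], [32, -32, -48, -48, 16, -104, 16, -8], [32, 48, 16, 32, 32, 0, 56, 24], [64, 96, 64, 64, 112, 32, 112, 104]]]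

def orbWord : List (List ℕ) :=
  [[],
  [],
  [2],
  [],
  [],
  [],
  [],
  [],
  [],
  [],
  [5, 0, 2],
  [],
  [],
  [1, 1, 2, 1, 0, 2],
  [],
  [6, 2, 1, 0, 2],
  [],
  [6, 3, 2, 0, 2],
  [],
  [],
  [],
  [],
  [],
  [],
  [2, 3, 0, 1, 0, 2],
  [1, 1, 2, 0, 2],
  [],
  [4, 2, 1, 0, 2],
  [2, 3, 2, 0, 2],
  [],
  [],
  [],
  [2, 0, 2, 4, 2, 0, 2],
  [2, 4, 2, 0, 2],
  [],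
  [],
  [],
  [],
  [],
  [],
  [],
  [],
  [],
  [],
  [],
  [],
  [5, 0, 1, 0, 2],
  [],
  [],
  [],
  [],
  [],
  [],
  [],
  [1, 0, 2],
  [],
  [2, 3, 2, 0, 1, 0, 2],
  [],
  [],
  [],
  [2, 3, 0, 2],
  [],
  [],
  [],
  [],
  [],
  [],
  [],
  [1, 2, 3, 0, 2],
  [],
  [6, 1, 0, 2],
  [5, 2, 1, 0, 2],
  [],
  [],
  [],
  [],
  [6, 2, 3, 0, 2],
  [2, 1, 2, 1, 0, 2],
  [],
  [],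
  [],
  [],
  [],
  [],
  [6, 2, 4, 1, 0, 2],
  [],
  [],
  [4, 1, 2, 1, 0, 2],
  [2, 6, 2, 1, 0, 2],
  [],
  [],
  [],
  [],
  [0, 2, 0, 2],
  [],
  [3, 2, 0, 1, 0, 2],
  [],
  [],
  [],
  [],
  [2, 1, 2, 0, 2],
  [],
  [],
  [],
  [],
  [1, 2, 1, 0, 2],
  [],
  [],
  [2, 4, 0, 2],
  [],
  [],
  [],
  [],
  [2, 3, 2, 1, 0, 2],
  [],
  [],
  [3, 2, 4, 1, 0, 2],
  [2, 1, 0, 2],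
  [4, 1, 0, 2],
  [],
  [2, 6, 0, 1, 0, 2],
  [6, 3, 2, 1, 0, 2],
  [],
  [3, 2, 0, 2],
  [],
  [],
  [],
  [],
  [],
  [],
  [],
  [],
  [],
  [],
  [5, 1, 0, 2],
  [],
  [],
  [],
  [],
  [5, 1, 2, 1, 0, 2],
  [],
  [],
  [],
  [],
  [],
  [],
  [],
  [4, 2, 0, 2],
  [],
  [1, 2, 0, 2],
  [],
  [4, 2, 0, 1, 0, 2],
  [1, 2, 6, 2, 0, 2],
  [],
  [3, 0, 2],
  [],
  [6, 2, 4, 0, 2],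
  [],
  [],
  [3, 1, 2, 1, 0, 2],
  [2, 6, 1, 2, 1, 0, 2],
  [],
  [],
  [6, 2, 0, 1, 0, 2],
  [],
  [0, 1, 0, 2, 0, 2],
  [],
  [6, 2, 0, 2],
  [],
  [2, 0, 1, 0, 2],
  [],
  [],
  [],
  [],
  [],
  [],
  [],
  [],
  [3, 2],
  [],
  [],
  [],
  [],
  [],
  [2, 0, 2, 0, 2],
  [],
  [],
  [],
  [4, 2, 4, 0, 2],
  [2, 0, 2],
  [3, 0, 1, 0, 2],
  [],
  [],
  [],
  [],
  [],
  [2, 4, 1, 0, 2],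
  [],
  [],
  [],
  [],
  [],
  [],
  [5, 2, 0, 1, 0, 2],
  [3, 2, 3, 0, 2],
  [],
  [],
  [],
  [],
  [],
  [4, 2],
  [],
  [2, 6, 2, 0, 2],
  [],
  [],
  [],
  [1, 2, 4, 1, 0, 2],
  [],
  [],
  [],
  [],
  [],
  [],
  [],
  [],
  [0, 2, 4, 2, 0, 2],
  [6, 2],
  [6, 1, 2, 1, 0, 2],
  [6, 2, 6, 1, 0, 2],
  [1, 0, 2, 0, 2],
  [],
  [],
  [],
  [],
  [0, 2],
  [],
  [4, 2, 3, 0, 2],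
  [],
  [6, 0, 1, 0, 2],
  [5, 2, 0, 2],
  [],
  [],
  [],
  [3, 2, 1, 0, 2],
  [2, 6, 1, 0, 2],
  [],
  [],
  [],
  [3, 2, 0, 2, 0, 2],
  [],
  [4, 0, 2],
  [],
  [],
  [],
  [0, 1, 0, 2],
  []]

def shortWit : List (List ℤ) :=
  [[],
  [],
  [],
  [],
  [],
  [-1, -1, -1, 1, -1, -1, -1, -1, 1, 1, -1, 1, 1, 1, 1, -1, 1, 1, -1, 1, -1, -1, 1, -3],
  [0, -2, -2, 2, -2, 0, -2, 0, 0, 0, 0, 0, 0, 0, 0, -2, 0, 0, -2, 0, 0, 0, 0, 2],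
  [],
  [],
  [-1, -1, -1, -1, -1, 1, -1, 1, -1, -1, 1, 1, -1, -1, 1, 1, -1, 1, -1, 1, 1, 1, 1, -3],
  [],
  [],
  [],
  [],
  [],
  [],
  [4, 0, 0, 0, 0, 0, 0, 0, 0, 0, 0, 0, 0, 0, 0, 4, 0, 0, 0, 0, 0, 0, 0, 0],
  [],
  [],
  [],
  [],
  [],
  [],
  [],
  [],
  [],
  [2, 0, 0, -2, 0, 0, 0, 0, 0, 0, 0, 2, 0, 0, 2, -2, 0, 2, 0, 2, 0, 0, 2, 0],
  [],
  [],
  [1, 1, 1, 3, 1, -1, 1, -1, -1, -1, -1, 1, -1, -1, 1, -1, -1, 1, 1, 1, -1, -1, 1, 1],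
  [],
  [],
  [],
  [],
  [],
  [],
  [],
  [],
  [],
  [],
  [],
  [],
  [],
  [],
  [],
  [],
  [],
  [3, 1, 1, 1, 1, 1, 1, 1, -1, -1, 1, 1, -1, -1, 1, -1, -1, 1, 1, 1, 1, 1, 1, -1],
  [0, 0, 0, 4, 0, 0, 0, 0, 0, 0, 0, 0, 0, 0, 0, 0, 0, 0, 0, 0, 0, 0, 0, -4],
  [],
  [-2, 0, 0, 2, 0, -2, 0, -2, 0, 0, -2, 0, 0, 0, 0, 0, 0, 0, 0, 0, -2, -2, 0, 2],
  [],
  [],
  [-1, -1, -1, -3, -1, -1, -1, -1, 1, 1, -1, 1, 1, 1, 1, -1, 1, 1, -1, 1, -1, -1, 1, 1],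
  [],
  [],
  [],
  [],
  [],
  [-3, -1, -1, 1, -1, -1, -1, -1, -1, -1, -1, 1, -1, -1, 1, 1, -1, 1, -1, 1, -1, -1, 1, -1],
  [],
  [],
  [-2, 0, 0, 0, 0, 0, 0, 0, -2, -2, 0, 0, -2, -2, 0, 2, -2, 0, 0, 0, 0, 0, 0, 2],
  [],
  [0, 0, 0, 0, 0, 0, 0, 0, 0, 0, 0, 0, 0, 0, 0, 4, 0, 0, 0, 0, 0, 0, 0, 4],
  [1, 1, 1, 1, 1, 1, 1, 1, 1, 1, 1, 1, 1, 1, 1, -3, 1, 1, 1, 1, 1, 1, 1, 1],
  [],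
  [],
  [],
  [-1, -1, -1, 1, -1, -1, -1, -1, 1, 1, -1, 1, 1, 1, 1, 3, 1, 1, -1, 1, -1, -1, 1, 1],
  [],
  [],
  [],
  [],
  [],
  [],
  [],
  [],
  [],
  [],
  [4, 0, 0, 0, 0, 0, 0, 0, 0, 0, 0, 0, 0, 0, 0, 0, 0, 0, 0, 0, 0, 0, 0, -4],
  [],
  [2, 0, 0, -2, 0, -2, 0, -2, 0, 0, -2, 0, 0, 0, 0, 0, 0, 0, 0, 0, -2, -2, 0, 2],
  [],
  [],
  [],
  [],
  [],
  [],
  [],
  [],
  [1, -1, -1, -3, -1, -1, -1, -1, -1, -1, -1, 1, -1, -1, 1, 1, -1, 1, -1, 1, -1, -1, 1, -1],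
  [],
  [],
  [],
  [],
  [4, 0, 0, -4, 0, 0, 0, 0, 0, 0, 0, 0, 0, 0, 0, 0, 0, 0, 0, 0, 0, 0, 0, 0],
  [],
  [-2, 0, 0, -2, 0, 2, 0, 2, 0, 0, 2, 0, 0, 0, 0, 0, 0, 0, 0, 0, 2, 2, 0, 2],
  [],
  [],
  [],
  [],
  [-3, -1, -1, -1, -1, 1, -1, 1, 1, 1, 1, 1, 1, 1, 1, -1, 1, 1, -1, 1, 1, 1, 1, -1],
  [],
  [],
  [2, 0, 0, 2, 0, 0, 0, 0, 0, 0, 0, 2, 0, 0, 2, 2, 0, 2, 0, 2, 0, 0, 2, 0],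
  [],
  [],
  [],
  [-2, 0, 0, 0, 0, 0, 0, 0, 2, 2, 0, 0, 2, 2, 0, -2, 2, 0, 0, 0, 0, 0, 0, 2],
  [],
  [0, 0, 0, 4, 0, 0, 0, 0, 0, 0, 0, 0, 0, 0, 0, 4, 0, 0, 0, 0, 0, 0, 0, 0],
  [],
  [],
  [],
  [],
  [],
  [],
  [1, -1, -1, -1, -1, 1, -1, 1, 1, 1, 1, 1, 1, 1, 1, 3, 1, 1, -1, 1, 1, 1, 1, -1],
  [],
  [],
  [-2, 0, 0, 2, 0, 0, 0, 0, 0, 0, 0, 2, 0, 0, 2, -2, 0, 2, 0, 2, 0, 0, 2, 0],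
  [],
  [],
  [],
  [2, 0, 0, 0, 0, 0, 0, 0, 2, 2, 0, 0, 2, 2, 0, 2, 2, 0, 0, 0, 0, 0, 0, 2],
  [-1, 1, 1, 1, 1, 1, 1, 1, -1, -1, 1, 1, -1, -1, 1, -1, -1, 1, 1, 1, 1, 1, 1, 3],
  [],
  [1, 1, 1, 1, 1, 1, 1, 1, 1, 1, 1, 1, 1, 1, 1, 1, 1, 1, 1, 1, 1, 1, 1, -3],
  [2, 0, 0, 2, 0, 2, 0, 2, 0, 0, 2, 0, 0, 0, 0, 0, 0, 0, 0, 0, 2, 2, 0, 2],
  [-1, 1, 1, -1, 1, -1, 1, -1, 1, 1, -1, 1, 1, 1, 1, 1, 1, 1, 1, 1, -1, -1, 1, 3],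
  [],
  [],
  [],
  [1, -1, -1, 3, -1, 1, -1, 1, 1, 1, 1, 1, 1, 1, 1, -1, 1, 1, -1, 1, 1, 1, 1, -1],
  [],
  [],
  [-2, 0, 0, -2, 0, 0, 0, 0, 0, 0, 0, 2, 0, 0, 2, 2, 0, 2, 0, 2, 0, 0, 2, 0],
  [],
  [],
  [],
  [],
  [],
  [4, 0, 0, 0, 0, 0, 0, 0, 0, 0, 0, 0, 0, 0, 0, -4, 0, 0, 0, 0, 0, 0, 0, 0],
  [],
  [],
  [],
  [],
  [],
  [],
  [],
  [],
  [],
  [],
  [],
  [],
  [],
  [],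
  [],
  [],
  [],
  [],
  [],
  [],
  [],
  [],
  [],
  [],
  [],
  [],
  [1, -1, -1, 1, -1, -1, -1, -1, -1, -1, -1, 1, -1, -1, 1, -3, -1, 1, -1, 1, -1, -1, 1, -1],
  [],
  [1, 1, 1, -1, 1, -1, 1, -1, -1, -1, -1, 1, -1, -1, 1, -1, -1, 1, 1, 1, -1, -1, 1, -3],
  [2, 0, 0, 0, 0, 0, 0, 0, -2, -2, 0, 0, -2, -2, 0, -2, -2, 0, 0, 0, 0, 0, 0, 2],
  [],
  [0, 0, 0, 4, 0, 0, 0, 0, 0, 0, 0, 0, 0, 0, 0, 0, 0, 0, 0, 0, 0, 0, 0, 4],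
  [1, 1, 1, -3, 1, 1, 1, 1, 1, 1, 1, 1, 1, 1, 1, 1, 1, 1, 1, 1, 1, 1, 1, 1],
  [],
  [-1, 1, 1, 3, 1, -1, 1, -1, 1, 1, -1, 1, 1, 1, 1, 1, 1, 1, 1, 1, -1, -1, 1, -1],
  [],
  [],
  [0, 2, 2, 2, 2, 0, 2, 0, 0, 0, 0, 0, 0, 0, 0, 2, 0, 0, 2, 0, 0, 0, 0, 2],
  [1, -1, -1, -1, -1, 1, -1, 1, 1, 1, 1, 1, 1, 1, 1, -1, 1, 1, -1, 1, 1, 1, 1, 3],
  [],
  [-1, -1, -1, 3, -1, 1, -1, 1, -1, -1, 1, 1, -1, -1, 1, 1, -1, 1, -1, 1, 1, 1, 1, 1],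
  [],
  [],
  [],
  [],
  [],
  [-1, 1, 1, 1, 1, 1, 1, 1, -1, -1, 1, 1, -1, -1, 1, 3, -1, 1, 1, 1, 1, 1, 1, -1],
  [0, 0, 0, 0, 0, 0, 0, 0, 0, 0, 0, 0, 0, 0, 0, 4, 0, 0, 0, 0, 0, 0, 0, -4],
  [],
  [],
  [-1, 1, 1, -1, 1, -1, 1, -1, 1, 1, -1, 1, 1, 1, 1, -3, 1, 1, 1, 1, -1, -1, 1, -1],
  [],
  [],
  [0, 2, 2, -2, 2, 0, 2, 0, 0, 0, 0, 0, 0, 0, 0, -2, 0, 0, 2, 0, 0, 0, 0, 2],
  [],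
  [],
  [-1, -1, -1, -1, -1, 1, -1, 1, -1, -1, 1, 1, -1, -1, 1, -3, -1, 1, -1, 1, 1, 1, 1, 1],
  [],
  [],
  [],
  [],
  [],
  [-1, 1, 1, -3, 1, 1, 1, 1, -1, -1, 1, 1, -1, -1, 1, -1, -1, 1, 1, 1, 1, 1, 1, -1],
  [4, 0, 0, 0, 0, 0, 0, 0, 0, 0, 0, 0, 0, 0, 0, 0, 0, 0, 0, 0, 0, 0, 0, 4],
  [-3, 1, 1, 1, 1, 1, 1, 1, 1, 1, 1, 1, 1, 1, 1, 1, 1, 1, 1, 1, 1, 1, 1, 1],
  [],
  [3, 1, 1, -1, 1, -1, 1, -1, 1, 1, -1, 1, 1, 1, 1, 1, 1, 1, 1, 1, -1, -1, 1, -1],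
  [],
  [3, -1, -1, 1, -1, -1, -1, -1, 1, 1, -1, 1, 1, 1, 1, -1, 1, 1, -1, 1, -1, -1, 1, 1],
  [],
  [],
  [],
  [3, -1, -1, -1, -1, 1, -1, 1, -1, -1, 1, 1, -1, -1, 1, 1, -1, 1, -1, 1, 1, 1, 1, 1],
  [],
  [],
  [],
  [],
  [],
  [],
  [4, 0, 0, 4, 0, 0, 0, 0, 0, 0, 0, 0, 0, 0, 0, 0, 0, 0, 0, 0, 0, 0, 0, 0],
  [],
  [],
  [],
  [],
  [],
  [],
  [],
  [],
  [],
  [],
  [1, -1, -1, 1, -1, -1, -1, -1, -1, -1, -1, 1, -1, -1, 1, 1, -1, 1, -1, 1, -1, -1, 1, 3],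
  [],
  [1, 1, 1, -1, 1, -1, 1, -1, -1, -1, -1, 1, -1, -1, 1, 3, -1, 1, 1, 1, -1, -1, 1, 1],
  [],
  [],
  [0, 0, 0, 4, 0, 0, 0, 0, 0, 0, 0, 0, 0, 0, 0, -4, 0, 0, 0, 0, 0, 0, 0, 0],
  [],
  [],
  [],
  [],
  [],
  [0, -2, -2, -2, -2, 0, -2, 0, 0, 0, 0, 0, 0, 0, 0, 2, 0, 0, -2, 0, 0, 0, 0, 2],
  [],
  [],
  [],
  [],
  [],
  [],
  [-3, 1, 1, -1, 1, -1, 1, -1, -1, -1, -1, 1, -1, -1, 1, -1, -1, 1, 1, 1, -1, -1, 1, 1],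
  [],
  []]

def leftWord : List (List ℕ) :=
  [[],
  [],
  [],
  [],
  [],
  [],
  [],
  [4, 3, 2, 0, 2, 1, 2, 1],
  [3, 2, 6, 1, 2, 1, 0, 2, 1],
  [6, 3, 2, 0, 2, 1, 2, 1, 0],
  [],
  [2, 6, 1, 2, 1, 0, 2, 3],
  [],
  [4, 2, 1, 2, 0, 2, 3],
  [6, 2, 4, 1, 0, 2, 1, 0],
  [],
  [3, 2, 0, 2, 6, 2, 1],
  [5, 3, 0],
  [],
  [6, 2, 3, 1, 2, 4, 3, 1],
  [],
  [2, 4, 0, 2, 3, 0],
  [1, 2, 6, 3, 1, 0, 2, 0],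
  [1, 2, 1, 2, 4, 3, 2, 1],
  [],
  [],
  [],
  [2, 0, 2, 4, 2, 1, 2, 6],
  [2, 3, 0, 1, 0, 2, 3, 1],
  [0, 2, 4, 2, 4, 0, 2, 1],
  [],
  [],
  [],
  [],
  [],
  [5, 2, 3, 0, 2],
  [],
  [],
  [4, 3, 1, 0, 1, 1],
  [6, 0, 2, 3, 0, 2, 0],
  [2, 6, 1, 2, 3, 1, 0, 2, 0],
  [],
  [5, 0, 2, 4, 1, 0, 2, 1],
  [],
  [1, 2, 4, 1, 2, 3],
  [5, 0, 2, 3, 1, 2, 1],
  [],
  [4, 1, 2, 3, 1, 2],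
  [5, 3, 2, 0, 2, 0, 2],
  [],
  [],
  [3, 2, 1, 2, 0, 2, 6, 0],
  [],
  [2, 3, 1, 0, 2, 0, 2, 4, 0],
  [2, 6, 1, 0, 2, 3, 1],
  [],
  [],
  [],
  [0, 2, 4, 1, 2, 4, 1],
  [2, 4, 1, 2, 4, 1, 0],
  [],
  [],
  [],
  [],
  [],
  [1, 2, 6, 1, 0, 2, 3],
  [2, 0, 2, 4, 2, 1, 2, 4, 0],
  [],
  [],
  [3, 1, 1, 2, 3, 0, 2, 1],
  [6, 2, 6, 2, 1, 0, 2, 0],
  [6, 1, 0, 2, 3, 1, 2],
  [],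
  [6, 2, 1, 2, 4, 2],
  [],
  [],
  [6, 3, 1, 1, 0, 1],
  [4, 0, 2, 3, 0, 2],
  [],
  [3, 2, 3, 0, 2, 0],
  [4, 2, 4, 1, 0, 2, 1],
  [],
  [2, 3, 1, 0, 2, 0, 2, 6],
  [],
  [2, 1, 2, 6, 3, 1, 2, 0],
  [6, 1, 2, 3, 1, 0, 2, 0, 2],
  [2, 4, 2, 4, 0, 2, 1, 0],
  [],
  [],
  [2, 0, 2, 6, 0, 2, 3],
  [],
  [],
  [],
  [],
  [],
  [5, 0, 1, 2, 3, 1, 2],
  [0, 2, 0, 2, 0, 2],
  [4, 2, 3, 1, 2, 1],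
  [],
  [],
  [],
  [2, 6, 2, 1, 2, 4],
  [2, 4, 1, 2, 3, 1],
  [2, 0, 2, 0, 2, 0],
  [],
  [1, 0, 2, 4, 1, 2, 4],
  [],
  [4, 1, 2, 4, 1, 0, 2],
  [3, 2, 6, 3, 0, 2, 3],
  [],
  [6, 2, 3, 1, 2, 1, 0],
  [6, 1, 0, 2, 4, 1, 0, 2],
  [],
  [6, 2, 1, 2, 6, 0, 2],
  [],
  [4, 2, 6, 2, 1, 0, 2],
  [0, 2, 4, 0, 2, 3],
  [2, 6, 1, 0, 2, 4, 1, 0],
  [],
  [],
  [],
  [],
  [],
  [],
  []]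

def rightWord : List (List ℕ) :=
  [[],
  [],
  [],
  [],
  [],
  [],
  [],
  [4, 2, 6, 2, 1, 2],
  [2, 6, 1, 2, 3, 1, 0, 2, 1],
  [1, 0, 2, 3, 1, 2, 6],
  [],
  [2, 0, 2, 4, 2, 0, 2, 3, 1],
  [],
  [5, 0, 2, 4, 1, 2, 1, 0],
  [3, 0, 2, 4, 0, 2],
  [],
  [4, 2, 0, 2, 0, 2, 3, 0],
  [4, 3, 1, 1, 0, 1],
  [],
  [3, 2, 0, 2, 0, 2, 4, 0],
  [],
  [5, 2, 0, 2, 0, 2, 3],
  [1, 2, 6, 3, 1, 2, 0],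
  [0, 2, 3, 0, 2, 4],
  [],
  [],
  [],
  [6, 2, 0, 2, 4, 2, 1, 2],
  [2, 1, 2, 1, 2, 1],
  [3, 2, 1, 2, 3, 1, 2],
  [],
  [],
  [],
  [],
  [],
  [2, 6, 2, 1, 0, 2, 4],
  [],
  [],
  [6, 3, 0],
  [1, 2, 4, 3, 1, 0, 2, 0],
  [6, 2, 3, 1, 0, 2, 0, 2],
  [],
  [2, 3, 0, 2, 4, 0],
  [],
  [2, 3, 2, 1, 2, 3, 1],
  [1, 2, 6, 2, 0, 2, 4, 2],
  [],
  [6, 2, 4, 1, 2, 1],
  [0, 2, 1, 2, 1, 2, 1, 0],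
  [],
  [],
  [6, 2, 4, 0, 2, 4, 3],
  [],
  [3, 2, 6, 1, 2, 1, 0, 2],
  [2, 1, 2, 6, 2, 0, 2, 4],
  [],
  [],
  [],
  [1, 2, 4, 1, 0, 2, 4],
  [2, 6, 2, 3, 1, 0, 2, 0],
  [],
  [],
  [],
  [],
  [],
  [4, 1, 0, 2, 4, 1, 2],
  [2, 3, 1, 0, 2, 0, 2, 6, 1],
  [],
  [],
  [6, 2, 1, 0, 2, 4, 2],
  [2, 4, 1, 0, 2, 4, 1],
  [2, 3, 1, 2, 6, 1, 0],
  [],
  [2, 6, 0, 2, 3, 0, 2, 1],
  [],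
  [],
  [5, 3, 1, 0, 1, 1],
  [2, 4, 2, 3, 0, 2, 1],
  [],
  [1, 2, 1, 2, 1, 2],
  [3, 2, 4, 1, 2, 1, 0],
  [],
  [6, 1, 2, 3, 1, 0, 2, 1, 2],
  [],
  [2, 6, 3, 0, 2],
  [3, 2, 0, 2, 4, 2, 1, 2, 0],
  [3, 1, 2, 4, 1, 2],
  [],
  [],
  [3, 2, 6, 1, 0, 2, 1, 0],
  [],
  [],
  [],
  [],
  [],
  [4, 2, 4, 0, 2, 6, 3],
  [2, 4, 3, 2, 1, 2, 0],
  [6, 2, 0, 2, 6, 0, 2, 0],
  [],
  [],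
  [],
  [3, 2, 0, 2, 3, 2],
  [5, 2, 0, 2, 0, 2, 6, 0],
  [1, 2, 3, 1, 2, 4],
  [],
  [4, 3, 2, 3, 1, 2, 3, 1, 0],
  [],
  [6, 2, 6, 1, 0, 2, 1],
  [4, 2, 0, 2, 6, 1, 2, 1],
  [],
  [3, 1, 2, 6, 1, 0, 2],
  [2, 4, 1, 0, 2, 6, 1, 0],
  [],
  [2, 3, 1, 2, 4, 1],
  [],
  [6, 2, 1, 2, 3, 1, 2, 0],
  [6, 2, 0, 2, 0, 2, 4],
  [4, 2, 4, 0, 2, 0],
  [],
  [],
  [],
  [],
  [],
  [],
  []]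

def swWord : List ℕ :=
  [2, 4, 2, 1, 2, 1, 0, 2, 0]

end CfsgLib.MonsterLocal21.Harada
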