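import Mathlib
import Cfsg.Agent.Lib.Golay.Orbits
import Cfsg.Agent.Lib.Schur.GolaySearch
import Cfsg.Agent.Lib.MonsterLocal21.HaradaData
import Cfsg.Agent.Lib.MonsterLocal21.ThompsonCentral

/-! The centraliser in the group of the code of an element of order 5: two generators, 60 elements. -/

set_option autoImplicit false
set_option Elab.async false

namespace CfsgLib.MonsterLocal21.Harada

open Cfsg CfsgLib.Golay CfsgLib.Schur.GolaySearch
open Thompson (invOK imgFun permOf)

/-- The element of order 5. -/
def sigP : Equiv.Perm GolayPt := permOf sigL sigInv (by decide +kernel)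

/-- The first generator of its centraliser. -/
def gAP : Equiv.Perm GolayPt := permOf genA genAInv (by decide +kernel)

/-- The second generator of its centraliser. -/
def gBP : Equiv.Perm GolayPt := permOf genB genBInv (by decide +kernel)

theorem toList_gens : toList sigP = sigL ∧ toList gAP = genA ∧ toList gBP = genB := by
  decide +kernel

theorem mem_M24_gens : sigP ∈ M24 ∧ gAP ∈ M24 ∧ gBP ∈ M24 := by
  obtain ⟨h1, h2, h3⟩ := toList_gens
  refine ⟨?_, ?_, ?_⟩ <;> rw [mem_M24_iff_isPres]
  · rw [h1]; decide +kernel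
  · rw [h2]; decide +kernel
  · rw [h3]; decide +kernel

/-- The element of order 5 in `M24`. -/
def sigM : M24 := ⟨sigP, mem_M24_gens.1⟩

/-- The first generator in `M24`. -/
def gAM : M24 := ⟨gAP, mem_M24_gens.2.1⟩

/-- The second generator in `M24`. -/
def gBM : M24 := ⟨gBP, mem_M24_gens.2.2⟩

theorem comm_gens : gAM * sigM = sigM * gAM ∧ gBM * sigM = sigM * gBM :=
  ⟨Subtype.ext (by decide +kernel), Subtype.ext (by decide +kernel)⟩

theorem sigM_order : orderOf sigM = 5 := by
  have : Fact (Nat.Prime 5) := ⟨by norm_num⟩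
  refine orderOf_eq_prime (Subtype.ext ?_) fun h => ?_
  · show sigP ^ 5 = 1
    decide +kernel
  · have h' : sigP (some 1) = some 1 := congrArg (fun t : M24 => (t : Equiv.Perm GolayPt) (some 1)) h
    revert h'
    decide +kernel

/-- The stages, with the image of the first point prescribed. -/
def idStages : List Stage := ([1, 18, 4, 2, 6], [], [1]) :: cenStages.tail

/-- The searched list: the candidates for elements fixing the first point. -/
def cenFound : List (List ℕ) := searchImg sigL 0 idStages (List.replicate 24 0)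

/-- The list of the program. -/
def cenPerms : List (List ℕ) := runProg cenProg [genB, genA, List.range 24]

theorem stages_ok : stagesOK sigL 0 idStages = true := by decide +kernel

theorem cand_tail : ∀ s ∈ cenStages.tail, ∀ y : Fin 24, y.val ∈ s.2.2 := by decide +kernel

theorem found_ok : ((cenFound.all fun l => cenPerms.contains l) && Nat.ble cenFound.length 3) = true := by
  decide +kernel

theorem lev_ok : ∀ y : Fin 24, sigL.getD y.val 0 ≠ y.val →
    (cenPerms.any fun l => Nat.beq (l.getD 1 0) y.val) = true := by decide +kernel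

theorem card_moved : (Finset.univ.filter fun p : GolayPt => sigP p ≠ p).card = 20 := by decide +kernel

theorem sig_one : sigP (pt 1) ≠ pt 1 := by decide +kernel

theorem toList_mem_found {π : M24} (h : π * sigM = sigM * π) (h1 : (π : Equiv.Perm GolayPt) (pt 1) = pt 1) :
    toList (π : Equiv.Perm GolayPt) ∈ cenFound := by
  refine mem_searchImg_start π.2 (t := sigP) ?_ toList_gens.1 toList_gens.1 stages_ok fun s hs c hc => ?_
  · exact mul_inv_eq_iff_eq_mul.mpr (congrArg Subtype.val h)
  · rw [idStages, List.mem_cons] at hs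
    rcases hs with rfl | hs
    · simp only [List.head?_cons, Option.some.injEq] at hc
      subst hc
      have := toList_getD (π : Equiv.Perm GolayPt) (pt 1)
      rw [h1, idx_pt] at this
      simp only [List.mem_singleton]
      exact this
    · exact cand_tail s hs ⟨_, Thompson.toList_lt _ c⟩

/-- The closure of the two generators, as permutations. -/
def genGroup : Subgroup (Equiv.Perm GolayPt) := (Subgroup.closure ({gAM, gBM} : Set M24)).map M24.subtype

theorem inSub_perms : ∀ l ∈ cenPerms, InSub genGroup l :=
  inSub_runProg cenProg [genB, genA, List.range 24] (fun l hl => by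
    simp only [List.mem_cons, List.not_mem_nil, or_false] at hl
    rcases hl with rfl | rfl | rfl
    · exact ⟨gBP, ⟨gBM, Subgroup.subset_closure (Or.inr rfl), rfl⟩, toList_gens.2.2⟩
    · exact ⟨gAP, ⟨gAM, Subgroup.subset_closure (Or.inl rfl), rfl⟩, toList_gens.2.1⟩
    · exact ⟨1, one_mem _, toList_one⟩)

theorem comm_closure {π : M24} (h : π ∈ Subgroup.closure ({gAM, gBM} : Set M24)) : π * sigM = sigM * π := by
  induction h using Subgroup.closure_induction with
  | mem x hx =>
    rcases hx with rfl | rfl
    exacts [comm_gens.1, comm_gens.2]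
  | one => simp
  | mul x y _ _ hx hy => rw [mul_assoc, hy, ← mul_assoc, hx, mul_assoc]
  | inv x _ hx => exact (show Commute x sigM from hx).inv_left.eq

theorem exists_first {p : GolayPt} (hp : sigP p ≠ p) :
    ∃ ρ ∈ Subgroup.closure ({gAM, gBM} : Set M24), (ρ : Equiv.Perm GolayPt) (pt 1) = p := by
  have hp' : sigL.getD (idx p).val 0 ≠ (idx p).val := fun e => hp (idx_injective (Fin.ext (by
    rw [← toList_getD, toList_gens.1]; exact e)))
  obtain ⟨l, hl, hl'⟩ := List.any_eq_true.mp (lev_ok (idx p) hp')
  obtain ⟨_, ⟨ρ, hρ, rfl⟩, rfl⟩ := inSub_perms l hl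
  refine ⟨ρ, hρ, idx_injective (Fin.ext ?_)⟩
  rw [← toList_getD, idx_pt]
  exact Nat.eq_of_beq_eq_true hl'

theorem exists_split {π : M24} (h : π * sigM = sigM * π) :
    ∃ (p : GolayPt) (hp : sigP p ≠ p) (τ : M24), τ * sigM = sigM * τ ∧ (τ : Equiv.Perm GolayPt) (pt 1) = pt 1 ∧
      π = (exists_first hp).choose * τ := by
  have hp : sigP ((π : Equiv.Perm GolayPt) (pt 1)) ≠ (π : Equiv.Perm GolayPt) (pt 1) := fun e => sig_one <| by
    have := congrArg (fun t : M24 => (t : Equiv.Perm GolayPt) (pt 1)) h
    exact (π : Equiv.Perm GolayPt).injective (this.trans e)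
  refine ⟨_, hp, (exists_first hp).choose⁻¹ * π, ?_, ?_, (mul_inv_cancel_left _ _).symm⟩
  · exact ((show Commute _ sigM from comm_closure (exists_first hp).choose_spec.1).inv_left.mul_left h).eq
  · rw [Subgroup.coe_mul, Subgroup.coe_inv, Equiv.Perm.mul_apply, Equiv.Perm.inv_eq_iff_eq]
    exact (exists_first hp).choose_spec.2.symm

/-- The centraliser is generated by the two elements. -/
theorem mem_closure {π : M24} (h : π * sigM = sigM * π) : π ∈ Subgroup.closure ({gAM, gBM} : Set M24) := by
  obtain ⟨p, hp, τ, hτ, hτ1, rfl⟩ := exists_split h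
  refine mul_mem (exists_first hp).choose_spec.1 ?_
  have hf := found_ok
  rw [Bool.and_eq_true] at hf
  have hm := List.all_eq_true.mp hf.1 _ (toList_mem_found hτ hτ1)
  rw [List.contains_iff_mem] at hm
  obtain ⟨_, ⟨ρ, hρ, rfl⟩, hl⟩ := inSub_perms _ hm
  rwa [← Subtype.ext (toList_injective hl) (a1 := ρ) (a2 := τ)]

theorem card_cen_le : Nat.card {π : M24 // π * sigM = sigM * π} ≤ 60 := by
  choose p hp τ hτ hτ1 heq using fun π : {π : M24 // π * sigM = sigM * π} => exists_split π.2
  refine (Nat.card_le_card_of_injective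
    (β := (Finset.univ.filter fun p : GolayPt => sigP p ≠ p : Finset GolayPt) × cenFound.toFinset)
    (fun π => (⟨p π, Finset.mem_filter.mpr ⟨Finset.mem_univ _, hp π⟩⟩,
      ⟨toList (τ π : Equiv.Perm GolayPt), List.mem_toFinset.mpr (toList_mem_found (hτ π) (hτ1 π))⟩))
    fun a b h => Subtype.ext ?_).trans ?_
  · simp only [Prod.mk.injEq, Subtype.mk.injEq] at h
    rw [heq a, heq b, Subtype.ext (toList_injective h.2)]
    congr 2
    rw [h.1]
  · rw [Nat.card_prod, Nat.card_eq_fintype_card, Fintype.card_coe, card_moved, Nat.card_eq_fintype_card,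
      Fintype.card_coe]
    have hf := found_ok
    rw [Bool.and_eq_true, Nat.ble_eq] at hf
    exact Nat.mul_le_mul_left 20 ((List.toFinset_card_le _).trans hf.2)

end CfsgLib.MonsterLocal21.Harada
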