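import Mathlib
import Cfsg.Agent.Lib.MonsterLocal21.FixedFamily
import Cfsg.Agent.Lib.MonsterLocal21.HaradaFixed

/-! The centraliser in the lattice automorphism group of the element of order 5 with four fixed points of the
monomial subgroup acts as the wreath product of the alternating group of degree 5 by a group of order 2 on two
rulings of five sets of fixed classes, with kernel of order 10. -/

set_option autoImplicit false
set_option Elab.async false

namespace CfsgLib.MonsterLocal21.Harada

open Cfsg CfsgLib.Golay CfsgLib.MonsterType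

/-- The ten labels. -/
abbrev Lab : Type := Fin 5 ⊕ Fin 5

/-- Membership in the family. -/
def mem (a : Lab) (x : Fin 256) : Bool :=
  (famTab.getD (Sum.elim (fun i : Fin 5 => i.val) (fun i : Fin 5 => 5 + i.val) a) 0).testBit x.val

theorem mem_sep : ∀ a b : Lab, (∀ x, mem a x = mem b x) → a = b := by decide +kernel

/-- The class of the frame of the coordinates. -/
def eF : Fin 256 := ⟨frameIdx % 256, Nat.mod_lt _ (by norm_num)⟩

/-- Two lists of length five inverse to each other. -/
def inv5 (l li : List ℕ) : Bool :=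
  decide (∀ i : Fin 5, l.getD i.val 0 < 5 ∧ li.getD (l.getD i.val 0) 0 = i.val) &&
    decide (∀ i : Fin 5, li.getD i.val 0 < 5 ∧ l.getD (li.getD i.val 0) 0 = i.val)

/-- The permutation of a list of length five. -/
def perm5 (l li : List ℕ) : Equiv.Perm (Fin 5) :=
  if h : inv5 l li = true then
    { toFun := fun i => ⟨l.getD i.val 0, by
        simp only [inv5, Bool.and_eq_true, decide_eq_true_eq] at h; exact (h.1 i).1⟩
      invFun := fun i => ⟨li.getD i.val 0, by
        simp only [inv5, Bool.and_eq_true, decide_eq_true_eq] at h; exact (h.2 i).1⟩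
      left_inv := fun i => Fin.ext (by
        simp only [inv5, Bool.and_eq_true, decide_eq_true_eq] at h; exact (h.1 i).2)
      right_inv := fun i => Fin.ext (by
        simp only [inv5, Bool.and_eq_true, decide_eq_true_eq] at h; exact (h.2 i).2) }
  else 1

/-- A pair of permutations and possibly the exchange. -/
def wr (sw : ℕ) (σ τ : Equiv.Perm (Fin 5)) : Equiv.Perm Lab :=
  if sw = 1 then Equiv.Perm.sumCongr σ τ * Equiv.sumComm (Fin 5) (Fin 5) else Equiv.Perm.sumCongr σ τ

theorem sumCongr_mem {σ τ : Equiv.Perm (Fin 5)} (hσ : Equiv.Perm.sign σ = 1) (hτ : Equiv.Perm.sign τ = 1) :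
    Equiv.Perm.sumCongr σ τ ∈ alternatingFiveWreathTwo :=
  Subgroup.subset_closure (Or.inl ⟨⟨σ, Equiv.Perm.mem_alternatingGroup.mpr hσ⟩,
    ⟨τ, Equiv.Perm.mem_alternatingGroup.mpr hτ⟩, rfl⟩)

theorem sumComm_mem : (Equiv.sumComm (Fin 5) (Fin 5) : Equiv.Perm Lab) ∈ alternatingFiveWreathTwo :=
  Subgroup.subset_closure (Or.inr rfl)

theorem wr_mem {sw : ℕ} {σ τ : Equiv.Perm (Fin 5)} (hσ : Equiv.Perm.sign σ = 1) (hτ : Equiv.Perm.sign τ = 1) :
    wr sw σ τ ∈ alternatingFiveWreathTwo := by
  unfold wr
  split_ifs
  exacts [mul_mem (sumCongr_mem hσ hτ) sumComm_mem, sumCongr_mem hσ hτ]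

/-! ### The generators -/

/-- The action of a permutation on functions. -/
def permF (π : Equiv.Perm GolayPt) (u : GolayPt → ℤ) : GolayPt → ℤ := fun i => u (π.symm i)

/-- The action of a sign change on functions. -/
def sgnF (k : ℕ) (u : GolayPt → ℤ) : GolayPt → ℤ := fun i =>
  if (codeWord k).testBit (idx i).val then -u i else u i

/-- The action of the frame element on functions. -/
def gamF (u : GolayPt → ℤ) : GolayPt → ℤ := fun i => dotInt u (rowsFrame gamRows i) / 8

/-- The code word of an index. -/
def wd (k : ℕ) : golayCode := ⟨dec (codeWord k), dec_codeWord_mem k⟩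

theorem sgnW_wd (k : ℕ) (u : leechLattice) :
    ((sgnW (wd k) • u : leechLattice) : GolayPt → ℤ) = sgnF k (u : GolayPt → ℤ) := by
  funext i
  rw [sgnW_apply]
  simp only [sgnF, wd, dec]
  by_cases h : (codeWord k).testBit (idx i).val <;> simp [h]

/-- The last test of the frame on one spanning vector. -/
def spanTest (s : GolayPt → ℤ) : Bool := leechTest fun i => dotInt s (rowsFrame gamRows i) / 8

theorem span_first : (spanVecs.take 13).all spanTest = true := by decide +kernel

theorem span_mid : ((spanVecs.drop 13).take 12).all spanTest = true := by decide +kernel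

theorem span_last : ((spanVecs.drop 13).drop 12).all spanTest = true := by decide +kernel

theorem frame_ok : frameTest gamRows = true := by
  have h : spanVecs.all spanTest = true := by
    rw [← List.take_append_drop 13 spanVecs, List.all_append, ← List.take_append_drop 12 (spanVecs.drop 13),
      List.all_append, span_first, span_mid, span_last]
    rfl
  simp only [frameTest, Bool.and_eq_true]
  refine ⟨⟨⟨⟨?_, ?_⟩, ?_⟩, ?_⟩, h⟩ <;> decide +kernel

theorem gam_comm_table : ∀ i j : GolayPt,
    dotInt (LeechEight.vecE (sigP j)) (rowsFrame gamRows i) / 8 =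
      dotInt (LeechEight.vecE j) (rowsFrame gamRows (sigP.symm i)) / 8 := by decide +kernel

theorem gam_mem : rowsAut frame_ok ∈ cent tau := by
  refine Subgroup.mem_centralizer_singleton_iff.mpr (ext_latE fun j => ?_)
  rw [mul_smul, mul_smul, tau, permW_latE]
  apply Subtype.ext
  funext i
  rw [permW_apply, coe_rowsAut, coe_rowsAut]
  exact gam_comm_table i j

theorem fix_table : ∀ k ∈ fixIdx, pmap sigL (codeWord k) = codeWord k := by decide +kernel

theorem wd_fix {k : ℕ} (hk : k ∈ fixIdx) : CfsgLib.GolayModule.act (sigM : Equiv.Perm GolayPt) (wd k).1 = (wd k).1 := by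
  apply CfsgLib.Golay.enc_injective
  rw [CfsgLib.GolayModule.enc_act, show toList (sigM : Equiv.Perm GolayPt) = sigL from toList_gens.1]
  simp only [wd, enc_dec (codeWord_lt k), fix_table k hk]

theorem signIdx_sub : ∀ k : Fin 4, signIdx.getD k.val 0 ∈ fixIdx := by decide +kernel

/-- The seven generators. -/
noncomputable def gen : Fin 7 → cent tau :=
  ![⟨permW gAM, permW_mem_cent comm_gens.1⟩, ⟨permW gBM, permW_mem_cent comm_gens.2⟩, ⟨rowsAut frame_ok, gam_mem⟩,
    ⟨sgnW (wd (signIdx.getD 0 0)), sgnW_mem_cent (wd_fix (signIdx_sub 0))⟩,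
    ⟨sgnW (wd (signIdx.getD 1 0)), sgnW_mem_cent (wd_fix (signIdx_sub 1))⟩,
    ⟨sgnW (wd (signIdx.getD 2 0)), sgnW_mem_cent (wd_fix (signIdx_sub 2))⟩,
    ⟨sgnW (wd (signIdx.getD 3 0)), sgnW_mem_cent (wd_fix (signIdx_sub 3))⟩]

/-- Their actions on functions. -/
def genF : Fin 7 → (GolayPt → ℤ) → GolayPt → ℤ :=
  ![permF gAP, permF gBP, gamF, sgnF (signIdx.getD 0 0), sgnF (signIdx.getD 1 0), sgnF (signIdx.getD 2 0),
    sgnF (signIdx.getD 3 0)]

/-- The left parts of their actions on the family. -/
def genPL (k : Fin 7) : Equiv.Perm (Fin 5) := perm5 (genL.getD k.val []) (genLInv.getD k.val [])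

/-- The right parts of their actions on the family. -/
def genPR (k : Fin 7) : Equiv.Perm (Fin 5) := perm5 (genR.getD k.val []) (genRInv.getD k.val [])

/-- Their actions on the family. -/
def genP (k : Fin 7) : Equiv.Perm Lab := wr (genSw.getD k.val 0) (genPL k) (genPR k)

theorem gen_acts : ∀ (k : Fin 7) (u : leechLattice),
    (((gen k : Co0) • u : leechLattice) : GolayPt → ℤ) = genF k (u : GolayPt → ℤ) := by
  intro k u
  fin_cases k
  · funext i; exact permW_apply gAM u i
  · funext i; exact permW_apply gBM u i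
  · exact coe_rowsAut frame_ok u
  · exact sgnW_wd _ u
  · exact sgnW_wd _ u
  · exact sgnW_wd _ u
  · exact sgnW_wd _ u

/-- The class with coordinates read from a table of inner products. -/
def stepM (m : List (List ℤ)) (x : Fin 256) : Fin 256 :=
  ⟨((List.finRange 8).map fun j =>
    if ((List.finRange 8).map fun i => bitI x i * (m.getD i.val []).getD j.val 0).sum / 8 % 2 = 1
      then 2 ^ j.val else 0).sum % 256, Nat.mod_lt _ (by norm_num)⟩

/-- One step on the classes. -/
def step (k : Fin 7) (x : Fin 256) : Fin 256 := stepM (genMat.getD k.val []) x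

theorem kap_smul (γ : Co0) (f : (GolayPt → ℤ) → GolayPt → ℤ) (m : List (List ℤ))
    (hf : ∀ u : leechLattice, ((γ • u : leechLattice) : GolayPt → ℤ) = f (u : GolayPt → ℤ))
    (hm : ∀ i j : Fin 8, dotInt (f (expd (basC i))) (dualV j) = (m.getD i.val []).getD j.val 0) (x : Fin 256) :
    kapF ((γ • liftV x : leechLattice) : GolayPt → ℤ) = stepM m x := by
  let b : Fin 8 → leechLattice := fun i => ⟨expd (basC i), mem_of_leechTest (bas_mem i)⟩
  have hx : liftV x = ∑ i, bitI x i • b i := by
    apply Subtype.ext
    funext p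
    simp only [liftV, b, expd, liftA_eq, AddSubgroup.val_finsetSum, Finset.sum_apply, AddSubgroup.coe_zsmul,
      Pi.smul_apply, smul_eq_mul]
  have hd : ∀ j, dotInt ((γ • liftV x : leechLattice) : GolayPt → ℤ) (dualV j) =
      ∑ i, bitI x i * (m.getD i.val []).getD j.val 0 := by
    intro j
    simp only [← hm, ← hf]
    rw [hx, smul_sum', AddSubgroup.val_finsetSum]
    simp only [dotInt, Finset.sum_apply, Finset.mul_sum, Finset.sum_mul]
    rw [Finset.sum_comm]
    refine Finset.sum_congr rfl fun i _ => Finset.sum_congr rfl fun p _ => ?_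
    rw [smul_zsmul', AddSubgroup.coe_zsmul, Pi.smul_apply, smul_eq_mul]
    rw [hf]
    show bitI x i * f (expd (basC i)) p * dualV j p = _
    ring
  refine Fin.ext ?_
  show List.sum _ % 256 = List.sum _ % 256
  congr 2
  refine List.map_congr_left fun j _ => ?_
  rw [hd, Fin.sum_univ_def]

theorem gen_mat : ∀ (k : Fin 7) (i j : Fin 8),
    dotInt (genF k (expd (basC i))) (dualV j) = ((genMat.getD k.val []).getD i.val []).getD j.val 0 := by
  decide +kernel

theorem rho_gen (k : Fin 7) (x : Fin 256) : coord.rho (gen k) x = step k x :=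
  kap_smul _ _ _ (gen_acts k) (gen_mat k) x

/-- The action of one generator on the family is as listed. -/
def memRow (k : Fin 7) : Prop := ∀ (x : Fin 256) (a : Lab), mem (genP k a) (step k x) = mem a x

theorem mem_row0 : memRow 0 := by unfold memRow; decide +kernel

theorem mem_row1 : memRow 1 := by unfold memRow; decide +kernel

theorem mem_row2 : memRow 2 := by unfold memRow; decide +kernel

theorem mem_row3 : memRow 3 := by unfold memRow; decide +kernel

theorem mem_row4 : memRow 4 := by unfold memRow; decide +kernel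

theorem mem_row5 : memRow 5 := by unfold memRow; decide +kernel

theorem mem_row6 : memRow 6 := by unfold memRow; decide +kernel

theorem mem_row : ∀ k : Fin 7, memRow k := by
  intro k
  fin_cases k
  exacts [mem_row0, mem_row1, mem_row2, mem_row3, mem_row4, mem_row5, mem_row6]

theorem mem_step (k : Fin 7) (a : Lab) (x : Fin 256) : mem (genP k a) (step k x) = mem a x := mem_row k x a

theorem sign_genP : ∀ k : Fin 7, Equiv.Perm.sign (genPL k) = 1 ∧ Equiv.Perm.sign (genPR k) = 1 := by decide +kernel

theorem cov_gen (k : Fin 7) : coord.CovF mem (gen k) (genP k) := fun a x => by rw [rho_gen, mem_step]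

theorem gen_good (k : Fin 7) : gen k ∈ coord.goodF mem alternatingFiveWreathTwo :=
  ⟨genP k, wr_mem (sign_genP k).1 (sign_genP k).2, cov_gen k⟩

theorem fixed_code : ((List.range 4096).all fun k =>
    !Nat.beq (pmap sigL (codeWord k)) (codeWord k) || fixIdx.contains k) = true := by decide +kernel

theorem fixIdx_length : fixIdx.length = 16 := by decide +kernel

theorem exists_fixIdx {c : golayCode} (h : CfsgLib.GolayModule.act (sigM : Equiv.Perm GolayPt) c.1 = c.1) :
    ∃ j : Fin 16, c = wd (fixIdx.getD j.val 0) := by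
  have hc := isCode_iff.mp (mem_golayCode.mp c.2)
  set k := enc c.1 &&& 4095
  have hk : k < 4096 := lt_of_le_of_lt Nat.and_le_right (by norm_num)
  have hfix : pmap sigL (codeWord k) = codeWord k := by
    rw [hc, ← toList_gens.1, show sigP = (sigM : Equiv.Perm GolayPt) from rfl, ← CfsgLib.GolayModule.enc_act, h]
  have hmem := List.all_eq_true.mp fixed_code k (List.mem_range.mpr hk)
  rw [hfix, Nat.beq_refl, Bool.not_true, Bool.false_or, List.contains_iff_mem] at hmem
  obtain ⟨i, hi, hik⟩ := List.getElem_of_mem hmem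
  refine ⟨⟨i, fixIdx_length ▸ hi⟩, Subtype.ext ?_⟩
  rw [List.getD_eq_getElem _ _ hi, hik]
  simp only [wd, hc, dec_enc]

/-- A sum of the four sign words, by index. -/
def spanSign (t : Fin 16) : ℕ :=
  ((List.finRange 4).filter fun i => t.val.testBit i.val).foldr (fun i a => signIdx.getD i.val 0 ^^^ a) 0

theorem fix_span : ∀ j : Fin 16, ∃ t : Fin 16, fixIdx.getD j.val 0 = spanSign t := by decide +kernel

theorem wd_xor (a b : ℕ) : wd (a ^^^ b) = wd a + wd b :=
  Subtype.ext (by simp only [wd, codeWord, spanWord_xor, dec_xor, Submodule.coe_add])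

theorem sgn_span (l : List (Fin 4)) :
    sgnW (wd (l.foldr (fun i a => signIdx.getD i.val 0 ^^^ a) 0)) ∈ (coord.goodF mem alternatingFiveWreathTwo).map (cent tau).subtype := by
  induction l with
  | nil =>
    have h : wd 0 = 0 := by simpa using wd_xor 0 0
    rw [List.foldr_nil, h, sgnW_zero']
    exact one_mem _
  | cons i l ih =>
    rw [List.foldr_cons, wd_xor, show ∀ c d : golayCode, sgnW (c + d) = sgnW c * sgnW d from
      fun c d => map_mul sgnHom (Multiplicative.ofAdd c) (Multiplicative.ofAdd d)]
    refine mul_mem ?_ ih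
    fin_cases i
    exacts [⟨_, gen_good 3, rfl⟩, ⟨_, gen_good 4, rfl⟩, ⟨_, gen_good 5, rfl⟩, ⟨_, gen_good 6, rfl⟩]

theorem sgn_good (c : golayCode) (h : CfsgLib.GolayModule.act (sigM : Equiv.Perm GolayPt) c.1 = c.1) :
    (⟨sgnW c, sgnW_mem_cent h⟩ : cent tau) ∈ coord.goodF mem alternatingFiveWreathTwo := by
  obtain ⟨j, hj⟩ := exists_fixIdx h
  obtain ⟨t, ht⟩ := fix_span j
  rw [ht] at hj
  obtain ⟨g, hg, hgc⟩ := sgn_span ((List.finRange 4).filter fun i => t.val.testBit i.val)
  have e : sgnW c = sgnW (wd (spanSign t)) := congrArg sgnW hj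
  rwa [show (⟨sgnW c, sgnW_mem_cent h⟩ : cent tau) = g from Subtype.ext (e.trans hgc.symm)]

theorem perm_good (π : M24) (h : π * sigM = sigM * π) :
    (⟨permW π, permW_mem_cent h⟩ : cent tau) ∈ coord.goodF mem alternatingFiveWreathTwo := by
  have key : ∀ π ∈ Subgroup.closure ({gAM, gBM} : Set M24), ∃ g ∈ coord.goodF mem alternatingFiveWreathTwo,
      (g : Co0) = permW π := by
    intro π hπ
    induction hπ using Subgroup.closure_induction with
    | mem x hx =>
      rcases hx with rfl | rfl
      exacts [⟨_, gen_good 0, rfl⟩, ⟨_, gen_good 1, rfl⟩]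
    | one => exact ⟨1, one_mem _, (map_one permHom).symm⟩
    | mul x y _ _ hx hy =>
      obtain ⟨g, hg, hgx⟩ := hx
      obtain ⟨g', hg', hgy⟩ := hy
      exact ⟨g * g', mul_mem hg hg', by rw [Subgroup.coe_mul, hgx, hgy, permW_mul']⟩
    | inv x _ hx =>
      obtain ⟨g, hg, hgx⟩ := hx
      exact ⟨g⁻¹, inv_mem hg, by rw [Subgroup.coe_inv, hgx]; exact (map_inv permHom x).symm⟩
  obtain ⟨g, hg, hgπ⟩ := key π (mem_closure h)
  rwa [show (⟨permW π, permW_mem_cent h⟩ : cent tau) = g from Subtype.ext hgπ.symm]

/-! ### The orbit of the frame -/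

/-- The parity of a sixteenth of the squared length, on functions. -/
def qF (u : GolayPt → ℤ) : ℤ := sqNorm u / 16 % 2

/-- The product of a word in the generators. -/
noncomputable def word (w : List ℕ) : cent tau := (w.map fun k => gen ⟨k % 7, Nat.mod_lt _ (by norm_num)⟩).prod

/-- The action of a word on the classes. -/
def wordStep (w : List ℕ) (x : Fin 256) : Fin 256 :=
  w.foldr (fun k y => step ⟨k % 7, Nat.mod_lt _ (by norm_num)⟩ y) x

theorem rho_word : ∀ (w : List ℕ) (x : Fin 256), coord.rho (word w) x = wordStep w x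
  | [], x => by simp [word, wordStep]
  | k :: w, x => by
    rw [word, List.map_cons, List.prod_cons, map_mul, Equiv.Perm.mul_apply]
    rw [← word, rho_word w x, rho_gen]
    rfl

theorem word_good : ∀ w : List ℕ, word w ∈ coord.goodF mem alternatingFiveWreathTwo
  | [] => one_mem _
  | k :: w => by
    rw [word, List.map_cons, List.prod_cons]
    exact mul_mem (gen_good _) (word_good w)

/-- A vector with squared length 32 in a singular class outside the orbit. -/
def witV (x : Fin 256) : GolayPt → ℤ := rowVec (shortWit.getD x.val [])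

/-- A class by its upper three and lower five bits. -/
def packX (c : Fin 8) (y : Fin 32) : Fin 256 := ⟨32 * c.val + y.val, by omega⟩

theorem packX_split (x : Fin 256) : x = packX ⟨x.val / 32, by omega⟩ ⟨x.val % 32, by omega⟩ :=
  Fin.ext (Nat.div_add_mod _ _).symm

/-- The singular classes of one chunk are in the orbit or have a short vector. -/
def orbitRow (c : Fin 8) : Prop :=
  ∀ y : Fin 32, qF (expd (liftA (packX c y))) = 0 → packX c y ≠ 0 →
    wordStep (orbWord.getD (packX c y).val []) eF = packX c y ∨
      (leechTest (witV (packX c y)) = true ∧ sqNorm (witV (packX c y)) = 32 ∧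
        leechTest (fun p => (witV (packX c y) p - expd (liftA (packX c y)) p) / 2) = true ∧
        ∀ p, (witV (packX c y) p - expd (liftA (packX c y)) p) % 2 = 0)

theorem orbit_row0 : orbitRow 0 := by unfold orbitRow; decide +kernel

theorem orbit_row1 : orbitRow 1 := by unfold orbitRow; decide +kernel

theorem orbit_row2 : orbitRow 2 := by unfold orbitRow; decide +kernel

theorem orbit_row3 : orbitRow 3 := by unfold orbitRow; decide +kernel

theorem orbit_row4 : orbitRow 4 := by unfold orbitRow; decide +kernel

theorem orbit_row5 : orbitRow 5 := by unfold orbitRow; decide +kernel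

theorem orbit_row6 : orbitRow 6 := by unfold orbitRow; decide +kernel

theorem orbit_row7 : orbitRow 7 := by unfold orbitRow; decide +kernel

theorem orbit_row : ∀ k : Fin 8, orbitRow k := by
  intro k
  fin_cases k
  exacts [orbit_row0, orbit_row1, orbit_row2, orbit_row3, orbit_row4, orbit_row5, orbit_row6, orbit_row7]

theorem orbit_table (x : Fin 256) (h : qF (expd (liftA x)) = 0) (h0 : x ≠ 0) :
    wordStep (orbWord.getD x.val []) eF = x ∨
      (leechTest (witV x) = true ∧ sqNorm (witV x) = 32 ∧
        leechTest (fun p => (witV x p - expd (liftA x) p) / 2) = true ∧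
        ∀ p, (witV x p - expd (liftA x) p) % 2 = 0) := by
  rw [packX_split x] at h h0 ⊢
  exact orbit_row _ _ h h0

theorem qF_lift (x : Fin 256) : qv (coord.lift x) = qF (expd (liftA x)) := rfl

theorem kap_zero : coord.kap 0 = 0 := by decide +kernel

theorem eF_ne : eF ≠ coord.kap 0 := by rw [kap_zero]; decide +kernel

theorem frame_table : ∀ p : GolayPt,
    leechTest (fun p => (expd (liftA eF) p - LeechEight.vecE none p) / 2) = true ∧
      (expd (liftA eF) p - LeechEight.vecE none p) % 2 = 0 := by decide +kernel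

theorem eF_frame : Cong (coord.lift eF) (LeechEight.latE none) := by
  refine ⟨⟨_, mem_of_leechTest (frame_table none).1⟩, Subtype.ext (funext fun p => ?_)⟩
  show expd (liftA eF) p = LeechEight.vecE none p + (_ + _)
  have := (frame_table p).2
  simp only
  omega

theorem orbit_of_frameLike {x : Fin 256} (h : FrameLike coord x) :
    coord.rho (word (orbWord.getD x.val [])) eF = x := by
  obtain ⟨h1, h2, h3⟩ := h
  rcases orbit_table x (qF_lift x ▸ h1) (kap_zero ▸ h2) with e1 | ⟨w1, w2, w3, w4⟩
  · rw [rho_word, e1]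
  · exfalso
    refine h3 ⟨witV x, mem_of_leechTest w1⟩ w2 ⟨⟨_, mem_of_leechTest w3⟩, Subtype.ext (funext fun p => ?_)⟩
    show witV x p = expd (liftA x) p + (_ + _)
    have := w4 p
    simp only
    omega

theorem good_top : coord.goodF mem alternatingFiveWreathTwo = ⊤ :=
  eq_top_of_frameLike coord eF (coord.goodF mem alternatingFiveWreathTwo) eF_frame eF_ne perm_good sgn_good
    fun x hx => ⟨word (orbWord.getD x.val []), word_good _, orbit_of_frameLike hx⟩

/-- A class in the orbit of the frame by the table. -/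
def inOrbit (x : Fin 256) : Bool := decide (wordStep (orbWord.getD x.val []) eF = x)

theorem orbit_count : (Finset.univ.filter fun x : Fin 256 => inOrbit x = true).card = 75 := by
  decide +kernel

theorem card_cent : Nat.card (cent tau) ≤ 75 * (16 * 60) := by
  refine (card_cent_le_frameLike coord eF eF_frame eF_ne).trans (Nat.mul_le_mul ?_ (Nat.mul_le_mul ?_ card_cen_le))
  · classical
    rw [← orbit_count, ← Fintype.card_subtype, ← Nat.card_eq_fintype_card]
    exact Nat.card_le_card_of_injective
      (fun x => (⟨x.1, decide_eq_true (by rw [← rho_word]; exact orbit_of_frameLike x.2)⟩ :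
        {x : Fin 256 // inOrbit x = true}))
      fun a b h => Subtype.ext (congrArg (fun t => t.1) h)
  · choose f hf using fun c : {c : golayCode // CfsgLib.GolayModule.act (sigM : Equiv.Perm GolayPt) c.1 = c.1} =>
      exists_fixIdx c.2
    exact (Nat.card_le_card_of_injective f fun a b h => Subtype.ext (by rw [hf a, hf b, h])).trans
      (Nat.card_fin 16).le

/-! ### The action on the family -/

/-- The homomorphism onto the wreath product. -/
noncomputable def wreathHom : cent tau →* alternatingFiveWreathTwo :=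
  coord.familyHom mem alternatingFiveWreathTwo mem_sep good_top

/-- The permutation of a word. -/
def wordP (w : List ℕ) : Equiv.Perm Lab := (w.map fun k => genP ⟨k % 7, Nat.mod_lt _ (by norm_num)⟩).prod

theorem cov_word : ∀ w : List ℕ, coord.CovF mem (word w) (wordP w)
  | [] => Coord.CovF.one
  | k :: w => by
    rw [word, wordP, List.map_cons, List.prod_cons, List.map_cons, List.prod_cons]
    exact (cov_gen _).mul (cov_word w)

/-- The index of an even permutation of five letters. -/
def code5 (σ : Equiv.Perm (Fin 5)) : ℕ := (σ 0).val + 5 * (σ 1).val + 25 * (σ 2).val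

theorem left_table : ∀ σ : Equiv.Perm (Fin 5), Equiv.Perm.sign σ = 1 → ∀ a : Lab,
    wordP (leftWord.getD (code5 σ) []) a = Equiv.Perm.sumCongr σ (1 : Equiv.Perm (Fin 5)) a := by decide +kernel

theorem right_table : ∀ σ : Equiv.Perm (Fin 5), Equiv.Perm.sign σ = 1 → ∀ a : Lab,
    wordP (rightWord.getD (code5 σ) []) a = Equiv.Perm.sumCongr (1 : Equiv.Perm (Fin 5)) σ a := by decide +kernel

theorem sw_table : ∀ a : Lab, wordP swWord a = Equiv.sumComm (Fin 5) (Fin 5) a := by decide +kernel

theorem wordP_mem (w : List ℕ) : wordP w ∈ wreathHom.range.map alternatingFiveWreathTwo.subtype :=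
  ⟨wreathHom (word w), ⟨_, rfl⟩, coord.familyHom_eq mem alternatingFiveWreathTwo mem_sep good_top (cov_word w)⟩

theorem wreathHom_surjective : Function.Surjective wreathHom := by
  rintro ⟨p, hp⟩
  have key : alternatingFiveWreathTwo ≤ wreathHom.range.map alternatingFiveWreathTwo.subtype := by
    refine (Subgroup.closure_le _).mpr ?_
    rintro g (⟨σ, τ, rfl⟩ | rfl)
    · rw [show Equiv.Perm.sumCongr (σ : Equiv.Perm (Fin 5)) (τ : Equiv.Perm (Fin 5)) =
          Equiv.Perm.sumCongr (σ : Equiv.Perm (Fin 5)) 1 * Equiv.Perm.sumCongr 1 (τ : Equiv.Perm (Fin 5)) by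
        rw [Equiv.Perm.sumCongr_mul, mul_one, one_mul]]
      refine mul_mem ?_ ?_
      · rw [← Equiv.ext (left_table _ (Equiv.Perm.mem_alternatingGroup.mp σ.2))]
        exact wordP_mem _
      · rw [← Equiv.ext (right_table _ (Equiv.Perm.mem_alternatingGroup.mp τ.2))]
        exact wordP_mem _
    · rw [SetLike.mem_coe, ← Equiv.ext sw_table]
      exact wordP_mem _
  obtain ⟨q, ⟨γ, rfl⟩, hq⟩ := key hp
  exact ⟨γ, Subtype.ext hq⟩

theorem card_wreath_ge : 7200 ≤ Nat.card alternatingFiveWreathTwo := by
  classical
  let f : (alternatingGroup (Fin 5) × alternatingGroup (Fin 5)) × Bool → alternatingFiveWreathTwo := fun x =>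
    ⟨Equiv.Perm.sumCongr (x.1.1 : Equiv.Perm (Fin 5)) (x.1.2 : Equiv.Perm (Fin 5)) *
      if x.2 then Equiv.sumComm (Fin 5) (Fin 5) else 1, by
      refine mul_mem (sumCongr_mem (Equiv.Perm.mem_alternatingGroup.mp x.1.1.2)
        (Equiv.Perm.mem_alternatingGroup.mp x.1.2.2)) ?_
      split_ifs
      exacts [sumComm_mem, one_mem _]⟩
  have hf : Function.Injective f := by
    rintro ⟨⟨σ, τ⟩, b⟩ ⟨⟨σ', τ'⟩, b'⟩ h
    have h' := congrArg (fun t : alternatingFiveWreathTwo => (t : Equiv.Perm Lab)) h
    have hb : b = b' := by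
      have h1 := Equiv.ext_iff.mp h' (Sum.inl 0)
      cases b <;> cases b' <;> simp [f] at h1 ⊢
    subst hb
    have h2 := mul_right_cancel h'
    have e1 : σ = σ' := Subtype.ext (Equiv.ext fun i => by
      simpa using Equiv.ext_iff.mp h2 (Sum.inl i))
    have e2 : τ = τ' := Subtype.ext (Equiv.ext fun i => by
      simpa using Equiv.ext_iff.mp h2 (Sum.inr i))
    rw [e1, e2]
  refine le_trans (le_of_eq ?_) (Nat.card_le_card_of_injective f hf)
  rw [Nat.card_prod, Nat.card_prod, nat_card_alternatingGroup, Nat.card_fin,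
    Nat.card_eq_fintype_card (α := Bool), Fintype.card_bool, show Nat.factorial 5 / 2 = 60 from by decide]

theorem card_ker_le : Nat.card wreathHom.ker ≤ 10 := by
  have h := Subgroup.card_mul_index wreathHom.ker
  rw [Subgroup.index_ker, MonoidHom.range_eq_top.mpr wreathHom_surjective, Subgroup.card_top] at h
  have := card_cent
  have := card_wreath_ge
  nlinarith

theorem wreathHom_eq_one {γ : cent tau} (h : coord.rho γ = 1) : wreathHom γ = 1 :=
  coord.familyHom_eq_one mem alternatingFiveWreathTwo mem_sep good_top h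

end CfsgLib.MonsterLocal21.Harada
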