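import Mathlib
import Cfsg.Agent.Lib.Coprime.Action
import Cfsg.Agent.Lib.MonsterType.Orbit
import Cfsg.Agent.Lib.MonsterType.LocalLift
import Cfsg.Agent.Lib.MonsterLocal21.FixedClass

/-! An element of odd prime order commuting with `z` and a conjugate of `z` in `Q`, seen as a permutation of the
frame after a change of identification; the odd part of the joint centralizer. -/

set_option autoImplicit false

namespace CfsgLib.MonsterLocal21

open Cfsg CfsgLib.MonsterType CfsgLib.LargeExtra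

/-- The permutation part of a power of a monomial automorphism. -/
theorem mono_pow (c : golayCode) (σ : M24) : ∀ n : ℕ, ∃ d : golayCode,
    (sgnW c * permW σ) ^ n = sgnW d * permW (σ ^ n)
  | 0 => ⟨0, by rw [pow_zero, pow_zero, sgnW_zero', one_mul]; exact (map_one permHom).symm⟩
  | n + 1 => by
    obtain ⟨d, hd⟩ := mono_pow c σ n
    exact ⟨_, by rw [pow_succ, hd, mono_mul, ← pow_succ]⟩

theorem permHom_injective : Function.Injective permHom := fun a b h => by
  refine mono_unique (c := 0) (d := 0) ?_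
  rw [sgnW_zero', one_mul, one_mul]
  exact h

theorem sgnW_addP (c d : golayCode) : sgnW (c + d) = sgnW c * sgnW d :=
  map_mul sgnHom (Multiplicative.ofAdd c) (Multiplicative.ofAdd d)

/-- Monomial automorphisms equal modulo the centre have equal permutation parts. -/
theorem mono_unique_center {c d : golayCode} {σ τ : M24}
    (h : (QuotientGroup.mk (sgnW c * permW σ) : Spor.Co1) = QuotientGroup.mk (sgnW d * permW τ)) : σ = τ := by
  rcases center_cases (QuotientGroup.eq.mp h) with e1 | e1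
  · exact mono_unique (inv_mul_eq_one.mp e1)
  · rw [inv_mul_eq_iff_eq_mul, Subgroup.mem_center_iff.mp neg_mem_center, ← mul_assoc, ← sgnW_addP] at e1
    exact (mono_unique e1).symm

variable {G : Type*} [Group G] [Finite G] {z : G} {Q : Subgroup (cz z)} [Q.Normal]
  {e : cz z ⧸ Q ≃* Spor.Co1} {ψ : leechLattice → Q ⧸ Subgroup.center Q}

/-- The identification taking a given conjugate of `z` in `Q` to the frame of the coordinates. -/
theorem exists_frame_form (hS : IsExtraspecialCentralizerSetting z Q 12) (hψ : IsLeechModTwoIso Q e ψ) {x : Q}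
    (hxc : IsConj z (gval x)) (hxz : gval x ≠ z) :
    ∃ (e' : cz z ⧸ Q ≃* Spor.Co1) (ψ' : leechLattice → Q ⧸ Subgroup.center Q),
      IsLeechModTwoIso Q e' ψ' ∧ ψ' (LeechEight.latE none) = QuotientGroup.mk x := by
  obtain ⟨v, hv, hx⟩ := exists_norm64 orbitFacts hS hψ hxc hxz
  obtain ⟨γ₁, hγ₁⟩ := orbitFacts.t64 (LeechEight.latE none) v (by simpa using sqNorm_image_latE 1 none) hv
  exact ⟨_, _, iso_twist hψ γ₁, ((psi_cong hψ).mp hγ₁).trans hx⟩

/-- The normal form of an element of odd prime order commuting with `z` and `x`. -/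
theorem exists_perm_form_prime (hS : IsExtraspecialCentralizerSetting z Q 12) (hψ : IsLeechModTwoIso Q e ψ)
    {x : Q} (hx : ψ (LeechEight.latE none) = QuotientGroup.mk x) {p : ℕ} [hp : Fact p.Prime] (hp2 : p ≠ 2)
    {y : G} (hy : orderOf y = p) (hyz : y * z = z * y) (hyx : y * gval x = gval x * y) :
    ∃ (e' : cz z ⧸ Q ≃* Spor.Co1) (ψ' : leechLattice → Q ⧸ Subgroup.center Q) (σ : M24),
      IsLeechModTwoIso Q e' ψ' ∧ ψ' (LeechEight.latE none) = QuotientGroup.mk x ∧ orderOf σ = p ∧
      e' (QuotientGroup.mk (⟨y, Subgroup.mem_centralizer_singleton_iff.mpr hyz⟩ : cz z)) =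
        QuotientGroup.mk (permW σ) := by
  have : Finite Co0 := CfsgLib.Golay.co0_finite
  have : Fact (Nat.Prime 2) := ⟨Nat.prime_two⟩
  have hpodd : Odd p := hp.out.odd_of_ne_two hp2
  set yc : cz z := ⟨y, Subgroup.mem_centralizer_singleton_iff.mpr hyz⟩ with hyc
  set N := sgnW ⟨1, one_mem_golay⟩ with hN
  have hN2 : N * N = 1 := ext_latE fun j => by
    have hneg : ∀ v : leechLattice, N • v = -v := fun v => by
      apply Subtype.ext; funext i; rw [hN, sgnW_apply]; simp
    rw [mul_smul, one_smul, hneg, hneg, neg_neg]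
  have hy1 : y ≠ 1 := fun h => hp.out.ne_one (by rw [← hy, h, orderOf_one])
  have hyp : yc ^ p = 1 := Subtype.ext (show y ^ p = 1 by rw [← hy]; exact pow_orderOf_eq_one y)
  obtain ⟨γ, hγ⟩ := QuotientGroup.mk_surjective (e (QuotientGroup.mk yc))
  have h3 : γ ^ p ∈ Subgroup.center Co0 := (QuotientGroup.eq_one_iff _).mp (by
    rw [QuotientGroup.mk_pow, hγ, ← map_pow, ← QuotientGroup.mk_pow, hyp, QuotientGroup.mk_one, map_one])
  obtain ⟨δ, hδ, hδp⟩ : ∃ δ : Co0, (QuotientGroup.mk δ : Spor.Co1) = e (QuotientGroup.mk yc) ∧ δ ^ p = 1 := by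
    rcases center_cases h3 with e1 | e1
    · exact ⟨γ, hγ, e1⟩
    · refine ⟨N * γ, ?_, ?_⟩
      · rw [QuotientGroup.mk_mul, (QuotientGroup.eq_one_iff _).mpr neg_mem_center, one_mul, hγ]
      · obtain ⟨m, hm⟩ := hpodd
        rw [(show Commute N γ from (Subgroup.mem_center_iff.mp neg_mem_center γ).symm).mul_pow, e1,
          show N ^ p = N by rw [hm, pow_succ, pow_mul, pow_two, hN2, one_pow, one_mul], hN2]
  have hcong : Cong (δ • LeechEight.latE none) (LeechEight.latE none) := by
    rw [psi_cong hψ, psi_smul hψ hδ.symm hx, hx, mk_center_iff hS]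
    left
    show y * gval x * y⁻¹ = gval x
    rw [hyx, mul_inv_cancel_right]
  obtain ⟨c, σ, rfl⟩ := cong_latE_iff.mp hcong
  obtain ⟨d, hd⟩ := mono_pow c σ p
  rw [hδp, ← show sgnW (0 : golayCode) * permW (1 : M24) = 1 by rw [sgnW_zero', one_mul]; exact map_one permHom] at hd
  have hσp : σ ^ p = 1 := (mono_unique hd).symm
  have hσ1 : σ ≠ 1 := by
    intro h
    rw [h, show permW (1 : M24) = 1 from map_one permHom, mul_one] at hδ hδp
    have h2 : sgnW c * sgnW c = 1 := by
      rw [← show sgnHom (Multiplicative.ofAdd c) = sgnW c from rfl, ← map_mul,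
        show Multiplicative.ofAdd c * Multiplicative.ofAdd c = 1 from congrArg Multiplicative.ofAdd
          (show c + c = 0 from Subtype.ext (funext fun i => CharTwo.add_self_eq_zero _)), map_one]
    obtain ⟨m, hm⟩ := hpodd
    rw [hm, pow_succ, pow_mul, pow_two, h2, one_pow, one_mul] at hδp
    rw [hδp, QuotientGroup.mk_one, eq_comm, MulEquiv.map_eq_one_iff, QuotientGroup.eq_one_iff] at hδ
    exact hy1 (Local.eq_one_of_two_odd (hS.2.2.1.1.1.map _) hp2 hy (coe_mem_qm.mpr hδ) (Subgroup.mem_zpowers y))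
  have hσo : orderOf σ = p := orderOf_eq_prime hσp hσ1
  -- kill the sign
  set A := Subgroup.zpowers (permW σ) with hA
  set K := (sgnHom.range : Subgroup Co0) with hK
  have hAK : A ≤ Subgroup.normalizer (K : Set Co0) := by
    rw [hA, Subgroup.zpowers_le]
    refine CfsgLib.Coprime.mem_normalizer_of_forall_conj ?_
    rintro _ ⟨d', rfl⟩
    exact ⟨Multiplicative.ofAdd _, (perm_sgn σ d'.toAdd).symm⟩
  have hKp : IsPGroup 2 K := IsPGroup.iff_card.mpr ⟨12, card_sgn_range⟩
  have : Group.IsNilpotent K := hKp.isNilpotent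
  have hcardA : Nat.card A = p := by
    rw [hA, Nat.card_zpowers, ← permHom_apply, orderOf_injective permHom permHom_injective, hσo]
  have hδ1 : sgnW c * permW σ ≠ 1 := by
    intro h
    rw [← show sgnW (0 : golayCode) * permW (1 : M24) = 1 by rw [sgnW_zero', one_mul]; exact map_one permHom] at h
    exact hσ1 (mono_unique h)
  have hco : p.Coprime (2 ^ 12) := Nat.Coprime.pow_right _ ((Nat.coprime_primes hp.out Nat.prime_two).mpr hp2)
  obtain ⟨a, ⟨a', rfl⟩, hle⟩ := CfsgLib.Coprime.exists_conj_le_of_coprime A K hAK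
    (by rw [hcardA, hK, card_sgn_range]; exact hco) (Subgroup.zpowers (sgnW c * permW σ))
    (by
      rw [Subgroup.zpowers_le]
      exact mul_mem (Subgroup.mem_sup_right ⟨Multiplicative.ofAdd c, rfl⟩)
        (Subgroup.mem_sup_left (Subgroup.mem_zpowers _)))
    (by rw [Nat.card_zpowers, orderOf_eq_prime hδp hδ1, hK, card_sgn_range]; exact hco)
    (Or.inr inferInstance)
  have hmem : sgnHom a' * (sgnW c * permW σ) * (sgnHom a')⁻¹ ∈ A :=
    hle (Subgroup.smul_mem_pointwise_smul _ _ _ (Subgroup.mem_zpowers (sgnW c * permW σ)))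
  obtain ⟨i, hi⟩ := Subgroup.mem_zpowers_iff.mp hmem
  have hform : ∃ f : golayCode, sgnHom a' * (sgnW c * permW σ) * (sgnHom a')⁻¹ = sgnW f * permW σ := by
    refine ⟨(a'.toAdd + c) + ⟨_, act_code σ.2 (-a'.toAdd)⟩, ?_⟩
    rw [show (sgnHom a')⁻¹ = sgnW (-a'.toAdd) from (map_inv sgnHom a').symm,
      show sgnHom a' = sgnW a'.toAdd from rfl,
      show sgnW a'.toAdd * (sgnW c * permW σ) = sgnW (a'.toAdd + c) * permW σ by
        rw [← mul_assoc]; congr 1; exact (map_mul sgnHom a' (Multiplicative.ofAdd c)).symm,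
      ← mul_one (sgnW (-a'.toAdd)), ← show permW (1 : M24) = 1 from map_one permHom, mono_mul, mul_one]
  obtain ⟨f, hf⟩ := hform
  rw [hf, ← permHom_apply, ← map_zpow, permHom_apply, ← one_mul (permW (σ ^ i)), ← sgnW_zero', eq_comm] at hi
  have hσi := mono_unique hi
  rw [← hσi] at hi
  rw [sgnW_inj' (mul_right_cancel hi), sgnW_zero', one_mul] at hf
  set α : Co0 := (sgnHom a')⁻¹ with hα
  refine ⟨e.trans (MulAut.conj (QuotientGroup.mk α : Spor.Co1)⁻¹), fun w => ψ (α • w), σ, iso_twist hψ α, ?_, hσo, ?_⟩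
  · refine ((psi_cong hψ).mp (cong_latE_iff.mpr ⟨(a'⁻¹).toAdd, 1, ?_⟩)).trans hx
    rw [show permW (1 : M24) = 1 from map_one permHom, mul_one, hα, ← map_inv]
    rfl
  · show (MulAut.conj (QuotientGroup.mk α : Spor.Co1)⁻¹) (e (QuotientGroup.mk yc)) = _
    rw [MulAut.conj_apply, inv_inv, ← hδ, ← QuotientGroup.mk_inv, ← QuotientGroup.mk_mul,
      ← QuotientGroup.mk_mul, hα, inv_inv, hf]

omit [Finite G] in
theorem mem_joint {x a : G} : a ∈ Subgroup.centralizer ({z, x} : Set G) ↔ a * z = z * a ∧ a * x = x * a := by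
  rw [Subgroup.mem_centralizer_iff]
  simp only [Set.mem_insert_iff, Set.mem_singleton_iff, forall_eq_or_imp, forall_eq]
  exact ⟨fun h => ⟨h.1.symm, h.2.symm⟩, fun h => ⟨h.1.symm, h.2.symm⟩⟩

/-- The odd primes dividing the joint centralizer to a power come from the group of the code, and an element of
prime order of that group gives the prime. -/
theorem joint_prime_part (hS : IsExtraspecialCentralizerSetting z Q 12) (hψ : IsLeechModTwoIso Q e ψ) {x : Q}
    (hx : ψ (LeechEight.latE none) = QuotientGroup.mk x) (hxz : gval x ≠ z) (hx1 : gval x ≠ 1) {p : ℕ}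
    [hp : Fact p.Prime] (hp2 : p ≠ 2) {σ₀ : M24} (hσ₀ : orderOf σ₀ = p) (hpp : ¬ p ^ 2 ∣ Nat.card M24) :
    (Nat.card ↥(Subgroup.centralizer ({z, gval x} : Set G))).factorization p = 1 := by
  classical
  set L := Subgroup.centralizer ({z, gval x} : Set G) with hL
  have hcz : ∀ {a : G}, a ∈ L → a ∈ cz z := fun ha => Subgroup.mem_centralizer_singleton_iff.mpr (mem_joint.mp ha).1
  have hex : ∀ l : L, ∃ cπ : golayCode × M24,
      e (QuotientGroup.mk (⟨l, hcz l.2⟩ : cz z)) = QuotientGroup.mk (sgnW cπ.1 * permW cπ.2) := by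
    intro l
    obtain ⟨γ, hγ⟩ := QuotientGroup.mk_surjective (e (QuotientGroup.mk (⟨l, hcz l.2⟩ : cz z)))
    have hc : Cong (γ • LeechEight.latE none) (LeechEight.latE none) := by
      rw [psi_cong hψ, psi_smul hψ hγ.symm hx, hx, mk_center_iff hS]
      left
      show (l : G) * gval x * (l : G)⁻¹ = gval x
      rw [(mem_joint.mp l.2).2, mul_inv_cancel_right]
    obtain ⟨c, π, rfl⟩ := cong_latE_iff.mp hc
    exact ⟨(c, π), hγ.symm⟩
  choose F hF using hex
  have huniq : ∀ {c d : golayCode} {σ τ : M24},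
      (QuotientGroup.mk (sgnW c * permW σ) : Spor.Co1) = QuotientGroup.mk (sgnW d * permW τ) → σ = τ :=
    fun h => mono_unique_center h
  let κ : L →* M24 := MonoidHom.mk' (fun l => (F l).2) fun a b => by
    refine huniq (c := (F (a * b)).1) ?_ (d := (F a).1 + ⟨_, act_code (F a).2.2 (F b).1⟩)
    rw [← hF (a * b), ← mono_mul, QuotientGroup.mk_mul, ← hF a, ← hF b, ← map_mul]
    rfl
  have hker : IsPGroup 2 κ.ker := by
    rintro ⟨l, hl⟩
    have hl' : (F l).2 = 1 := hl
    have h2 : (⟨l, hcz l.2⟩ : cz z) * ⟨l, hcz l.2⟩ ∈ Q := by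
      refine (QuotientGroup.eq_one_iff _).mp (e.injective ?_)
      rw [map_one, QuotientGroup.mk_mul, map_mul, hF, hl', show permW (1 : M24) = 1 from map_one permHom,
        mul_one, ← QuotientGroup.mk_mul,
        show sgnW (F l).1 * sgnW (F l).1 = 1 by
          rw [← show sgnHom (Multiplicative.ofAdd (F l).1) = sgnW (F l).1 from rfl, ← map_mul,
            show Multiplicative.ofAdd (F l).1 * Multiplicative.ofAdd (F l).1 = 1 from congrArg Multiplicative.ofAdd
              (show (F l).1 + (F l).1 = 0 from Subtype.ext (funext fun i => CharTwo.add_self_eq_zero _)), map_one],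
        QuotientGroup.mk_one]
    obtain ⟨k, hk⟩ := hS.2.2.1.1.1 ⟨_, h2⟩
    refine ⟨k + 1, Subtype.ext (Subtype.ext ?_)⟩
    have hk' : ((l : G) * l) ^ 2 ^ k = 1 := congrArg (fun t : Q => gval t) hk
    show (l : G) ^ 2 ^ (k + 1) = 1
    rw [pow_succ', pow_mul, pow_two]
    exact hk'
  have hle : (Nat.card L).factorization p ≤ 1 := by
    by_contra h
    push Not at h
    have h2 := (Nat.Prime.pow_dvd_iff_le_factorization hp.out Nat.card_pos.ne').mpr (show 2 ≤ _ from h)
    have h1 := Subgroup.card_mul_index κ.ker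
    rw [Subgroup.index_ker] at h1
    obtain ⟨k, hk⟩ := IsPGroup.iff_card.mp hker
    rw [hk] at h1
    rw [← h1] at h2
    have hcop : Nat.Coprime (p ^ 2) (2 ^ k) :=
      Nat.Coprime.pow _ _ ((Nat.coprime_primes hp.out Nat.prime_two).mpr hp2)
    exact hpp ((hcop.dvd_of_dvd_mul_left h2).trans (Subgroup.card_subgroup_dvd_card κ.range))
  have hdvd : p ∣ Nat.card L := by
    obtain ⟨c0, hc0⟩ := exists_lift_Co0 e (permW σ₀)
    have hx0 : (QuotientGroup.mk c0 : cz z ⧸ Q) ∈ imgX Q (gval x) := by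
      have h0 := (mem_map_imgX_iff hS hψ hx hx1 hxz (permW σ₀)).mpr (cong_latE_iff.mpr ⟨0, σ₀, by
        rw [sgnW_zero', one_mul]⟩)
      rw [← hc0] at h0
      exact (Subgroup.mem_map_iff_mem e.injective).mp h0
    obtain ⟨d, hd, hde⟩ := hx0
    have hdL : (d : G) ∈ L := mem_joint.mpr ⟨Subgroup.mem_centralizer_singleton_iff.mp d.2,
      Subgroup.mem_centralizer_singleton_iff.mp hd.2⟩
    have hκ : κ ⟨d, hdL⟩ = σ₀ := by
      refine (huniq (c := 0) (d := (F ⟨d, hdL⟩).1) ?_).symm
      show (QuotientGroup.mk (sgnW 0 * permW σ₀) : Spor.Co1) =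
        QuotientGroup.mk (sgnW (F ⟨d, hdL⟩).1 * permW (F ⟨d, hdL⟩).2)
      rw [sgnW_zero', one_mul, ← hF, ← hc0]
      exact congrArg e hde.symm
    rw [← hσ₀, ← hκ]
    exact (orderOf_map_dvd κ _).trans (orderOf_dvd_natCard _)
  exact le_antisymm hle ((Nat.Prime.pow_dvd_iff_le_factorization hp.out Nat.card_pos.ne').mp (by rwa [pow_one]))

end CfsgLib.MonsterLocal21
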