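import Mathlib
import Cfsg.Agent.Lib.MonsterLocal21.Bridge
import Cfsg.Agent.Lib.MonsterLocal21.PermForm
import Cfsg.Agent.Lib.MonsterLocal21.HaradaLattice

/-! A Sylow 5-subgroup of the joint centralizer: its centralizer modulo it is of Harada–Norton type. -/

set_option autoImplicit false

namespace CfsgLib.MonsterLocal21.Harada

open Cfsg CfsgLib.MonsterType CfsgLib.LargeExtra

theorem center_five : ∀ σ : Equiv.Perm (Fin 5), Equiv.Perm.sign σ = 1 →
    (∀ τ : Equiv.Perm (Fin 5), Equiv.Perm.sign τ = 1 → σ * τ = τ * σ) → σ = 1 := by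
  intro σ hσ h
  have h1 := h (Equiv.swap 0 1 * Equiv.swap 1 2) (by decide +kernel)
  have h2 := h (Equiv.swap 2 3 * Equiv.swap 3 4) (by decide +kernel)
  clear h
  revert h1 h2 hσ
  revert σ
  decide +kernel

/-- Pairs of even permutations. -/
def pairHom : alternatingGroup (Fin 5) × alternatingGroup (Fin 5) →* alternatingFiveWreathTwo where
  toFun x := ⟨Equiv.Perm.sumCongr (x.1 : Equiv.Perm (Fin 5)) (x.2 : Equiv.Perm (Fin 5)),
    sumCongr_mem (Equiv.Perm.mem_alternatingGroup.mp x.1.2) (Equiv.Perm.mem_alternatingGroup.mp x.2.2)⟩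
  map_one' := Subtype.ext (by simp)
  map_mul' x y := Subtype.ext (by
    simp only [Prod.fst_mul, Prod.snd_mul, Subgroup.coe_mul, Equiv.Perm.sumCongr_mul])

theorem pairHom_injective : Function.Injective pairHom := by
  rintro ⟨a, b⟩ ⟨a', b'⟩ h
  have h' := congrArg (fun t : alternatingFiveWreathTwo => (t : Equiv.Perm Lab)) h
  refine Prod.ext (Subtype.ext (Equiv.ext fun i => ?_)) (Subtype.ext (Equiv.ext fun i => ?_))
  · simpa [pairHom] using Equiv.ext_iff.mp h' (Sum.inl i)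
  · simpa [pairHom] using Equiv.ext_iff.mp h' (Sum.inr i)

theorem comm_swap (σ τ : Equiv.Perm (Fin 5)) :
    (Equiv.sumComm (Fin 5) (Fin 5) : Equiv.Perm Lab) * Equiv.Perm.sumCongr σ τ =
      Equiv.Perm.sumCongr τ σ * Equiv.sumComm (Fin 5) (Fin 5) := Equiv.ext fun a => by
  cases a <;> rfl

theorem swap_sq : (Equiv.sumComm (Fin 5) (Fin 5) : Equiv.Perm Lab) * Equiv.sumComm (Fin 5) (Fin 5) = 1 :=
  Equiv.ext fun a => by cases a <;> rfl

theorem wreath_cases : ∀ g ∈ alternatingFiveWreathTwo, ∃ σ τ : alternatingGroup (Fin 5),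
    g = Equiv.Perm.sumCongr (σ : Equiv.Perm (Fin 5)) (τ : Equiv.Perm (Fin 5)) ∨
      g = Equiv.Perm.sumCongr (σ : Equiv.Perm (Fin 5)) (τ : Equiv.Perm (Fin 5)) *
        Equiv.sumComm (Fin 5) (Fin 5) := by
  intro g hg
  induction hg using Subgroup.closure_induction with
  | mem x hx =>
    rcases hx with ⟨σ, τ, rfl⟩ | rfl
    · exact ⟨σ, τ, Or.inl rfl⟩
    · exact ⟨1, 1, Or.inr (by simp)⟩
  | one => exact ⟨1, 1, Or.inl (by simp)⟩
  | mul x y _ _ hx hy =>
    obtain ⟨σ, τ, hx⟩ := hx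
    obtain ⟨σ', τ', hy⟩ := hy
    rcases hx with rfl | rfl <;> rcases hy with rfl | rfl
    · exact ⟨σ * σ', τ * τ', Or.inl (by rw [Equiv.Perm.sumCongr_mul]; rfl)⟩
    · exact ⟨σ * σ', τ * τ', Or.inr (by rw [← mul_assoc, Equiv.Perm.sumCongr_mul]; rfl)⟩
    · exact ⟨σ * τ', τ * σ', Or.inr (by rw [mul_assoc, comm_swap, ← mul_assoc, Equiv.Perm.sumCongr_mul]; rfl)⟩
    · refine ⟨σ * τ', τ * σ', Or.inl ?_⟩
      rw [mul_assoc, ← mul_assoc (Equiv.sumComm (Fin 5) (Fin 5) : Equiv.Perm Lab), comm_swap, mul_assoc _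
        (Equiv.sumComm (Fin 5) (Fin 5) : Equiv.Perm Lab), swap_sq, mul_one, Equiv.Perm.sumCongr_mul]
      rfl
  | inv x _ hx =>
    obtain ⟨σ, τ, hx⟩ := hx
    rcases hx with rfl | rfl
    · exact ⟨σ⁻¹, τ⁻¹, Or.inl (by rw [Equiv.Perm.sumCongr_inv]; rfl)⟩
    · refine ⟨τ⁻¹, σ⁻¹, Or.inr ?_⟩
      rw [mul_inv_rev, inv_eq_of_mul_eq_one_right swap_sq, Equiv.Perm.sumCongr_inv, comm_swap]
      rfl

theorem pCore_five : pCore 2 (alternatingGroup (Fin 5)) = ⊥ := by
  have : Fact (Nat.Prime 2) := ⟨Nat.prime_two⟩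
  refine (IsSimpleGroup.eq_bot_or_eq_top_of_normal _ (CfsgLib.LargeExtra.pCore_normal' 2 _)).resolve_right fun h => ?_
  obtain ⟨k, hk⟩ := IsPGroup.iff_card.mp (CfsgLib.LargeExtra.pCore_isPGroup' 2 (alternatingGroup (Fin 5)))
  rw [h, Subgroup.card_top, nat_card_alternatingGroup, Nat.card_fin,
    show Nat.factorial 5 / 2 = 60 from by decide] at hk
  have h3 : 3 ∣ 2 ^ k := hk ▸ (by norm_num)
  have := Nat.Prime.dvd_of_dvd_pow Nat.prime_three h3
  norm_num at this

theorem pCore_wreath : pCore 2 alternatingFiveWreathTwo = ⊥ := by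
  classical
  have : Fact (Nat.Prime 2) := ⟨Nat.prime_two⟩
  set N := pCore 2 alternatingFiveWreathTwo with hN
  have hNn : N.Normal := CfsgLib.LargeExtra.pCore_normal' 2 _
  have hNp : IsPGroup 2 N := CfsgLib.LargeExtra.pCore_isPGroup' 2 _
  have hbase : ∀ x, pairHom x ∈ N → x = 1 := by
    intro x hx
    have h1 : x ∈ pCore 2 (alternatingGroup (Fin 5) × alternatingGroup (Fin 5)) :=
      CfsgLib.PCore.le_pCore (N := N.comap pairHom) (hNn.comap pairHom)
        (CfsgLib.PCore.isPGroup_comap_of_injective hNp pairHom pairHom_injective) hx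
    have ha := CfsgLib.PCore.map_pCore_le (p := 2) (MonoidHom.fst (alternatingGroup (Fin 5)) (alternatingGroup (Fin 5)))
      (fun a => ⟨(a, 1), rfl⟩) (Subgroup.mem_map_of_mem _ h1)
    have hb := CfsgLib.PCore.map_pCore_le (p := 2) (MonoidHom.snd (alternatingGroup (Fin 5)) (alternatingGroup (Fin 5)))
      (fun a => ⟨(1, a), rfl⟩) (Subgroup.mem_map_of_mem _ h1)
    rw [pCore_five, Subgroup.mem_bot] at ha hb
    exact Prod.ext ha hb
  rw [Subgroup.eq_bot_iff_forall]
  rintro ⟨g, hg⟩ hgN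
  have hcomm : ∀ x, (⟨g, hg⟩ : alternatingFiveWreathTwo) * pairHom x = pairHom x * ⟨g, hg⟩ := by
    intro x
    set n : alternatingFiveWreathTwo := ⟨g, hg⟩
    have hin : n * pairHom x * n⁻¹ * (pairHom x)⁻¹ ∈ N := by
      have := mul_mem hgN (hNn.conj_mem n⁻¹ (inv_mem hgN) (pairHom x))
      simpa [mul_assoc] using this
    obtain ⟨σ, τ, hc⟩ := wreath_cases g hg
    obtain ⟨y, hy⟩ : ∃ y, n * pairHom x * n⁻¹ * (pairHom x)⁻¹ = pairHom y := by
      rcases hc with e | e
      · exact ⟨(σ, τ) * x * (σ, τ)⁻¹ * x⁻¹, by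
          rw [show n = pairHom (σ, τ) from Subtype.ext e]; simp only [map_mul, map_inv]⟩
      · refine ⟨(σ, τ) * (x.2, x.1) * (σ, τ)⁻¹ * x⁻¹, ?_⟩
        rw [show n = pairHom (σ, τ) * ⟨_, sumComm_mem⟩ from Subtype.ext e]
        simp only [map_mul, map_inv]
        have h2 : (⟨_, sumComm_mem⟩ : alternatingFiveWreathTwo) * pairHom x =
            pairHom (x.2, x.1) * ⟨_, sumComm_mem⟩ := Subtype.ext (comm_swap _ _)
        rw [mul_assoc (pairHom (σ, τ)), h2]
        group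
    have h1 := hbase y (hy ▸ hin)
    rw [h1, map_one, mul_inv_eq_one, mul_inv_eq_iff_eq_mul] at hy
    exact hy
  obtain ⟨σ, τ, e | e⟩ := wreath_cases g hg
  · have he : (⟨g, hg⟩ : alternatingFiveWreathTwo) = pairHom (σ, τ) := Subtype.ext e
    rw [he, ← map_one pairHom]
    refine congrArg pairHom (Prod.ext (Subtype.ext ?_) (Subtype.ext ?_))
    · refine center_five _ (Equiv.Perm.mem_alternatingGroup.mp σ.2) fun ρ hρ => ?_
      have h := hcomm (⟨ρ, Equiv.Perm.mem_alternatingGroup.mpr hρ⟩, 1)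
      rw [he, ← map_mul, ← map_mul] at h
      exact congrArg Subtype.val (congrArg Prod.fst (pairHom_injective h))
    · refine center_five _ (Equiv.Perm.mem_alternatingGroup.mp τ.2) fun ρ hρ => ?_
      have h := hcomm (1, ⟨ρ, Equiv.Perm.mem_alternatingGroup.mpr hρ⟩)
      rw [he, ← map_mul, ← map_mul] at h
      exact congrArg Subtype.val (congrArg Prod.snd (pairHom_injective h))
  · exfalso
    have h := congrArg (fun t : alternatingFiveWreathTwo => (t : Equiv.Perm Lab) (Sum.inl 0))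
      (hcomm (⟨Equiv.swap 0 1 * Equiv.swap 1 2, Equiv.Perm.mem_alternatingGroup.mpr (by decide +kernel)⟩, 1))
    simp [pairHom, e] at h
    exact absurd h (by decide +kernel)

theorem tau_five : tau ^ 5 = 1 := by
  have h : sigM ^ 5 = 1 := by rw [← sigM_order]; exact pow_orderOf_eq_one sigM
  have h2 := map_pow permHom sigM 5
  rw [h, map_one] at h2
  exact h2.symm

variable {G : Type*} [Group G] [Finite G] {z : G} {Q : Subgroup (cz z)} [Q.Normal]

/-- The main statement. -/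
theorem harada_type (hM : IsOfMonsterType z Q) (s : G)
    (hsQ : ∃ hsc : s ∈ cz z, (⟨s, hsc⟩ : cz z) ∈ Q) (hs : IsConj z s) (hs1 : s ≠ z) (B : Subgroup G)
    (hB : B ≤ Subgroup.centralizer ({z, s} : Set G))
    (hBp : Nat.card B = 5 ^ (Nat.card ↥(Subgroup.centralizer ({z, s} : Set G))).factorization 5)
    [hn : (B.subgroupOf (Subgroup.centralizer (B : Set G))).Normal] :
    IsOfHaradaNortonType (↥(Subgroup.centralizer (B : Set G)) ⧸ B.subgroupOf (Subgroup.centralizer (B : Set G))) := by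
  classical
  have : Fact (Nat.Prime 5) := ⟨by norm_num⟩
  obtain ⟨hS, e, ψ, hψ⟩ := hM
  obtain ⟨hsc, hsQ⟩ := hsQ
  set x : Q := ⟨⟨s, hsc⟩, hsQ⟩ with hx
  obtain ⟨e₁, ψ₁, hψ₁, hx₁⟩ := exists_frame_form hS hψ (x := x) hs hs1
  have hx1 : gval x ≠ 1 := by
    intro h
    obtain ⟨g, hg⟩ := isConj_iff.mp hs
    have hs' : s = 1 := h
    rw [hs', mul_inv_eq_one, mul_eq_left] at hg
    have := hS.1
    rw [hg, orderOf_one] at this
    norm_num at this
  have hM24 : ¬ 5 ^ 2 ∣ Nat.card M24 := by rw [CfsgLib.Golay.natCard_M24]; norm_num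
  have hfac := joint_prime_part hS hψ₁ hx₁ hs1 hx1 (p := 5) (by norm_num) sigM_order hM24
  have hB5 : Nat.card B = 5 := by rw [hBp, hfac, pow_one]
  obtain ⟨b, rfl⟩ : ∃ a : G, B = Subgroup.zpowers a := by
    obtain ⟨y, hyB⟩ := isCyclic_iff_exists_zpowers_eq_top.mp (isCyclic_of_prime_card (α := B) hB5)
    refine ⟨y, ?_⟩
    have := congrArg (Subgroup.map B.subtype) hyB
    rw [MonoidHom.map_zpowers, ← MonoidHom.range_eq_map, Subgroup.range_subtype] at this
    exact this.symm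
  have hb : orderOf b = 5 := by rw [← Nat.card_zpowers, hB5]
  obtain ⟨hbz, hbs⟩ := mem_joint.mp (hB (Subgroup.mem_zpowers b))
  obtain ⟨e₂, ψ₂, σ, hψ₂, hx₂, hσ, heb⟩ :=
    exists_perm_form_prime hS hψ₁ hx₁ (p := 5) (by norm_num) hb hbz hbs
  obtain ⟨π, hπ⟩ := Local.exists_conj_zpowers (a := σ) (c := sigM) hσ sigM_order hM24
  obtain ⟨j, hj⟩ := Subgroup.mem_zpowers_iff.mp hπ
  set y := b ^ j with hy'
  have hyz : y * z = z * y := ((show Commute b z from hbz).zpow_left j).eq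
  have hys : y * s = s * y := ((show Commute b s from hbs).zpow_left j).eq
  have hy1 : y ≠ 1 := by
    intro h
    have hd : (5 : ℤ) ∣ j := by
      have := orderOf_dvd_iff_zpow_eq_one.mpr (h : b ^ j = 1)
      rwa [hb] at this
    have : σ ^ j = 1 := orderOf_dvd_iff_zpow_eq_one.mp (by rw [hσ]; exact hd)
    rw [this, eq_comm, conj_eq_one_iff] at hj
    have := sigM_order
    rw [hj, orderOf_one] at this
    norm_num at this
  have hy : orderOf y = 5 := orderOf_eq_prime (by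
    rw [hy', ← zpow_natCast, ← zpow_mul, mul_comm, zpow_mul, zpow_natCast, ← hb, pow_orderOf_eq_one, one_zpow]) hy1
  have hBy : Subgroup.zpowers b = Subgroup.zpowers y :=
    (Subgroup.eq_of_le_of_card_ge (Subgroup.zpowers_le.mpr (zpow_mem (Subgroup.mem_zpowers b) j))
      (by rw [Nat.card_zpowers, Nat.card_zpowers, hy, hb])).symm
  clear hBp hB5
  revert hn
  rw [hBy]
  intro hn
  set γ : Co0 := permW π with hγ
  have hx'' : ψ₂ (γ • LeechEight.latE none) = QuotientGroup.mk x :=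
    ((psi_cong hψ₂).mp (cong_latE_iff.mpr ⟨0, π, by rw [sgnW_zero', one_mul]⟩)).trans hx₂
  have hey' : (e₂.trans (MulAut.conj (QuotientGroup.mk γ : Spor.Co1)⁻¹))
      (QuotientGroup.mk (⟨y, Subgroup.mem_centralizer_singleton_iff.mpr hyz⟩ : cz z)) = QuotientGroup.mk tau := by
    show (MulAut.conj (QuotientGroup.mk γ : Spor.Co1)⁻¹) (e₂ _) = _
    rw [show (⟨y, Subgroup.mem_centralizer_singleton_iff.mpr hyz⟩ : cz z) =
        (⟨b, Subgroup.mem_centralizer_singleton_iff.mpr hbz⟩ : cz z) ^ j from Subtype.ext (by simp [hy']),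
      QuotientGroup.mk_zpow, map_zpow, heb, MulAut.conj_apply, inv_inv, ← QuotientGroup.mk_zpow,
      ← QuotientGroup.mk_inv, ← QuotientGroup.mk_mul, ← QuotientGroup.mk_mul]
    refine congrArg QuotientGroup.mk ?_
    rw [← permHom_apply, ← map_zpow, hj, hγ, ← permHom_apply π, ← map_inv, ← map_mul, ← map_mul, tau,
      ← permHom_apply sigM]
    exact congrArg permHom (by group)
  obtain ⟨zb, R, hR, hset, hiso⟩ := setting_of_lattice hS (iso_twist hψ₂ γ) (p := 5) (by norm_num) hy hyz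
    tau_five hey' coord (k := 4) (by norm_num) (by norm_num) wreathHom wreathHom_surjective card_ker_le
    (fun _ => wreathHom_eq_one) pCore_wreath (x := x) hs hs1 hys.symm
  exact ⟨zb, R, hR, hset, hiso⟩

end CfsgLib.MonsterLocal21.Harada
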