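import Mathlib

/-! A group of order 27 in the group of the code with the representative of the 3-elements with six fixed points in
its centre. -/

set_option autoImplicit false

namespace CfsgLib.MonsterLocal21.ThreeClass

def sylThree : List (List ℕ) :=
  [
  [0, 1, 2, 3, 4, 5, 6, 7, 8, 9, 10, 11, 12, 13, 14, 15, 16, 17, 18, 19, 20, 21, 22, 23],
  [0, 1, 18, 13, 6, 15, 12, 11, 14, 9, 7, 10, 4, 20, 19, 16, 5, 17, 21, 8, 3, 2, 22, 23],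
  [0, 1, 21, 20, 12, 16, 4, 10, 19, 9, 11, 7, 6, 3, 8, 5, 15, 17, 2, 14, 13, 18, 22, 23],
  [1, 23, 3, 5, 12, 2, 4, 11, 8, 9, 7, 10, 6, 15, 14, 18, 21, 17, 13, 19, 16, 20, 22, 0],
  [1, 23, 13, 15, 4, 18, 6, 10, 14, 9, 11, 7, 12, 16, 19, 21, 2, 17, 20, 8, 5, 3, 22, 0],
  [1, 23, 20, 16, 6, 21, 12, 7, 19, 9, 10, 11, 4, 5, 8, 2, 18, 17, 3, 14, 15, 13, 22, 0],
  [4, 12, 2, 3, 10, 5, 11, 1, 8, 22, 0, 23, 7, 15, 14, 18, 20, 9, 13, 19, 21, 16, 17, 6],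
  [4, 12, 13, 15, 11, 18, 7, 23, 14, 22, 1, 0, 10, 21, 19, 20, 5, 9, 16, 8, 3, 2, 17, 6],
  [4, 12, 16, 21, 7, 20, 10, 0, 19, 22, 23, 1, 11, 3, 8, 5, 18, 9, 2, 14, 15, 13, 17, 6],
  [6, 4, 5, 2, 11, 3, 7, 0, 8, 22, 23, 1, 10, 13, 14, 15, 21, 9, 18, 19, 16, 20, 17, 12],
  [6, 4, 18, 13, 7, 15, 10, 1, 14, 22, 0, 23, 11, 16, 19, 21, 3, 9, 20, 8, 2, 5, 17, 12],
  [6, 4, 20, 16, 10, 21, 11, 23, 19, 22, 1, 0, 7, 2, 8, 3, 15, 9, 5, 14, 13, 18, 17, 12],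
  [7, 11, 3, 5, 1, 2, 0, 6, 8, 17, 12, 4, 23, 13, 14, 15, 20, 22, 18, 19, 21, 16, 9, 10],
  [7, 11, 16, 21, 23, 20, 1, 12, 19, 17, 4, 6, 0, 5, 8, 2, 15, 22, 3, 14, 13, 18, 9, 10],
  [7, 11, 18, 13, 0, 15, 23, 4, 14, 17, 6, 12, 1, 21, 19, 20, 2, 22, 16, 8, 5, 3, 9, 10],
  [10, 7, 2, 3, 0, 5, 23, 12, 8, 17, 4, 6, 1, 18, 14, 13, 21, 22, 15, 19, 16, 20, 9, 11],
  [10, 7, 15, 18, 23, 13, 1, 6, 14, 17, 12, 4, 0, 16, 19, 21, 5, 22, 20, 8, 3, 2, 9, 11],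
  [10, 7, 20, 16, 1, 21, 0, 4, 19, 17, 6, 12, 23, 3, 8, 5, 13, 22, 2, 14, 18, 15, 9, 11],
  [11, 10, 5, 2, 23, 3, 1, 4, 8, 17, 6, 12, 0, 15, 14, 18, 16, 22, 13, 19, 20, 21, 9, 7],
  [11, 10, 13, 15, 1, 18, 0, 12, 14, 17, 4, 6, 23, 20, 19, 16, 3, 22, 21, 8, 2, 5, 9, 7],
  [11, 10, 21, 20, 0, 16, 23, 6, 19, 17, 12, 4, 1, 2, 8, 3, 18, 22, 5, 14, 15, 13, 9, 7],
  [12, 6, 3, 5, 7, 2, 10, 23, 8, 22, 1, 0, 11, 18, 14, 13, 16, 9, 15, 19, 20, 21, 17, 4],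
  [12, 6, 15, 18, 10, 13, 11, 0, 14, 22, 23, 1, 7, 20, 19, 16, 2, 9, 21, 8, 5, 3, 17, 4],
  [12, 6, 21, 20, 11, 16, 7, 1, 19, 22, 0, 23, 10, 5, 8, 2, 13, 9, 3, 14, 18, 15, 17, 4],
  [23, 0, 5, 2, 6, 3, 12, 10, 8, 9, 11, 7, 4, 18, 14, 13, 20, 17, 15, 19, 21, 16, 22, 1],
  [23, 0, 15, 18, 12, 13, 4, 7, 14, 9, 10, 11, 6, 21, 19, 20, 3, 17, 16, 8, 2, 5, 22, 1],
  [23, 0, 16, 21, 4, 20, 6, 11, 19, 9, 7, 10, 12, 2, 8, 3, 13, 17, 5, 14, 18, 15, 22, 1]]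

end CfsgLib.MonsterLocal21.ThreeClass
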