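import Mathlib
import Cfsg.Agent.Lib.Golay.Classes
import Cfsg.Agent.Lib.MonsterType.LocalLift
import Cfsg.Agent.Lib.MonsterType.Orbit
import Cfsg.Agent.Lib.MonsterLocal21.FixedClass
import Cfsg.Agent.Lib.MonsterLocal21.ThreeData

/-! An element of order 3 of the joint centralizer of `z` and a conjugate in `Q`: it acts as a permutation of the
frame after a change of identification, and with six fixed points it is 3-central there. -/

set_option autoImplicit false

namespace CfsgLib.MonsterLocal21.ThreeClass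

open Cfsg CfsgLib.MonsterType CfsgLib.LargeExtra CfsgLib.MonsterType.Local CfsgLib.Golay

theorem sylThree_ok : (sylThree.all fun l => genOK l && decide (CfsgLib.Golay.comp l Classes.thrSix = CfsgLib.Golay.comp Classes.thrSix l)) = true := by
  decide +kernel

theorem sylThree_closed : (sylThree.all fun a => sylThree.all fun b => sylThree.contains (CfsgLib.Golay.comp a b)) = true := by
  decide +kernel

theorem sylThree_card : sylThree.Nodup ∧ sylThree.length = 27 ∧ sylThree.contains (List.range 24) = true := by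
  decide +kernel

/-- A permutation with six fixed points and order 3 lies in the centre of a subgroup of order 27. -/
theorem exists_three_group {σ : M24} (hσ : orderOf σ = 3)
    (h6 : (Finset.univ.filter fun p => (σ : Equiv.Perm GolayPt) p = p).card = 6) :
    ∃ P : Subgroup M24, Nat.card P = 27 ∧ ∀ π ∈ P, π * σ = σ * π := by
  classical
  have hord : orderOf (σ : Equiv.Perm GolayPt) = 3 := (Subgroup.orderOf_coe σ).trans hσ
  obtain ⟨-, g, hg, hgl⟩ := (Classes.three_cases σ.2 hord).resolve_right fun h => by rw [h6] at h; omega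
  let S : Subgroup M24 :=
    { carrier := {π | toList (π : Equiv.Perm GolayPt) ∈ sylThree}
      one_mem' := by
        show toList ((1 : M24) : Equiv.Perm GolayPt) ∈ sylThree
        rw [OneMemClass.coe_one, toList_one]
        exact List.contains_iff_mem.mp sylThree_card.2.2
      mul_mem' := fun {a b} ha hb => by
        show toList ((a * b : M24) : Equiv.Perm GolayPt) ∈ sylThree
        rw [Subgroup.coe_mul, toList_mul]
        exact List.contains_iff_mem.mp (List.all_eq_true.mp (List.all_eq_true.mp sylThree_closed _ ha) _ hb)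
      inv_mem' := fun {a} ha => by
        have hfin : IsOfFinOrder a := isOfFinOrder_of_finite a
        have hpow : ∀ n : ℕ, toList ((a ^ n : M24) : Equiv.Perm GolayPt) ∈ sylThree := by
          intro n
          induction n with
          | zero =>
            rw [pow_zero, OneMemClass.coe_one, toList_one]
            exact List.contains_iff_mem.mp sylThree_card.2.2
          | succ n ih =>
            rw [pow_succ, Subgroup.coe_mul, toList_mul]
            exact List.contains_iff_mem.mp (List.all_eq_true.mp (List.all_eq_true.mp sylThree_closed _ ih) _ ha)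
        obtain ⟨n, hn⟩ := hfin.mem_powers_iff_mem_zpowers.mpr (inv_mem (Subgroup.mem_zpowers a))
        have hn' : a ^ n = a⁻¹ := hn
        show toList ((a⁻¹ : M24) : Equiv.Perm GolayPt) ∈ sylThree
        rw [← hn']
        exact hpow n }
  have hScard : Nat.card S = 27 := by
    have e : Nat.card S = sylThree.toFinset.card := by
      rw [← Fintype.card_coe, ← Nat.card_eq_fintype_card]
      refine Nat.card_congr (Equiv.ofBijective (fun π : S => (⟨toList (π.1 : Equiv.Perm GolayPt),
        List.mem_toFinset.mpr π.2⟩ : sylThree.toFinset)) ⟨fun a b h => ?_, fun l => ?_⟩)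
      · exact Subtype.ext (Subtype.ext (toList_injective (congrArg Subtype.val h)))
      · have hl := List.mem_toFinset.mp l.2
        have h1 := List.all_eq_true.mp sylThree_ok _ hl
        rw [Bool.and_eq_true] at h1
        obtain ⟨π, hπ, hπl⟩ := exists_perm h1.1
        exact ⟨⟨⟨π, hπ⟩, (show toList π ∈ sylThree by rw [hπl]; exact hl)⟩, Subtype.ext hπl⟩
    rw [e, List.toFinset_card_of_nodup sylThree_card.1, sylThree_card.2.1]
  set γ : M24 := ⟨g, hg⟩
  refine ⟨S.map (MulAut.conj γ⁻¹).toMonoidHom, ?_, ?_⟩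
  · rw [Subgroup.card_map_of_injective (MulAut.conj γ⁻¹).injective, hScard]
  · rintro _ ⟨π, hπ, rfl⟩
    have h1 := List.all_eq_true.mp sylThree_ok _ hπ
    rw [Bool.and_eq_true, decide_eq_true_eq, ← hgl] at h1
    have h2 : π * (γ * σ * γ⁻¹) = γ * σ * γ⁻¹ * π := by
      refine Subtype.ext (toList_injective ?_)
      simp only [Subgroup.coe_mul, Subgroup.coe_inv, toList_mul]
      simpa [toList_mul] using h1.2
    show γ⁻¹ * π * γ⁻¹⁻¹ * σ = σ * (γ⁻¹ * π * γ⁻¹⁻¹)
    calc γ⁻¹ * π * γ⁻¹⁻¹ * σ = γ⁻¹ * (π * (γ * σ * γ⁻¹)) * γ := by group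
      _ = σ * (γ⁻¹ * π * γ⁻¹⁻¹) := by rw [h2]; group

variable {G : Type*} [Group G] [Finite G] {z : G} {Q : Subgroup (cz z)} [Q.Normal]
  {e : cz z ⧸ Q ≃* Spor.Co1} {ψ : leechLattice → Q ⧸ Subgroup.center Q}

theorem neg_smul' (v : leechLattice) : sgnW ⟨1, one_mem_golay⟩ • v = -v := by
  apply Subtype.ext; funext i; rw [sgnW_apply]; simp

theorem neg_sq : sgnW ⟨1, one_mem_golay⟩ * sgnW ⟨1, one_mem_golay⟩ = (1 : Co0) :=
  ext_latE fun j => by rw [mul_smul, one_smul, neg_smul', neg_smul', neg_neg]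

theorem sgnW_add' (c d : golayCode) : sgnW (c + d) = sgnW c * sgnW d :=
  map_mul sgnHom (Multiplicative.ofAdd c) (Multiplicative.ofAdd d)

theorem sgnW_self (c : golayCode) : c + c = 0 := Subtype.ext (funext fun _ => CharTwo.add_self_eq_zero _)

/-- Equal images in the first Conway group have equal permutation parts. -/
theorem mono_unique_mod {c d : golayCode} {σ τ : M24}
    (h : (QuotientGroup.mk (sgnW c * permW σ) : Spor.Co1) = QuotientGroup.mk (sgnW d * permW τ)) : σ = τ := by
  rcases center_cases (QuotientGroup.eq.mp h) with e1 | e1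
  · exact mono_unique (inv_mul_eq_one.mp e1)
  · rw [inv_mul_eq_iff_eq_mul, Subgroup.mem_center_iff.mp neg_mem_center, ← mul_assoc, ← sgnW_add'] at e1
    exact (mono_unique e1).symm

/-- The normal form of an element of order 3 commuting with `z` and `x`. -/
theorem exists_perm_form (hS : IsExtraspecialCentralizerSetting z Q 12) (hψ : IsLeechModTwoIso Q e ψ) {x : Q}
    (hxc : IsConj z (gval x)) (hxz : gval x ≠ z) {y : G} (hy : orderOf y = 3) (hyz : y * z = z * y)
    (hyx : y * gval x = gval x * y) :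
    ∃ (e' : cz z ⧸ Q ≃* Spor.Co1) (ψ' : leechLattice → Q ⧸ Subgroup.center Q) (σ : M24),
      IsLeechModTwoIso Q e' ψ' ∧ ψ' (LeechEight.latE none) = QuotientGroup.mk x ∧ orderOf σ = 3 ∧
      e' (QuotientGroup.mk (⟨y, Subgroup.mem_centralizer_singleton_iff.mpr hyz⟩ : cz z)) =
        QuotientGroup.mk (permW σ) := by
  obtain ⟨v, hv, hx⟩ := exists_norm64 orbitFacts hS hψ hxc hxz
  obtain ⟨γ₁, hγ₁⟩ := orbitFacts.t64 (LeechEight.latE none) v (by simpa using sqNorm_image_latE 1 none) hv
  set ψ₁ := fun w => ψ (γ₁ • w) with hψ₁def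
  set e₁ := e.trans (MulAut.conj (QuotientGroup.mk γ₁ : Spor.Co1)⁻¹) with he₁
  have hψ₁ : IsLeechModTwoIso Q e₁ ψ₁ := iso_twist hψ γ₁
  have hx₁ : ψ₁ (LeechEight.latE none) = QuotientGroup.mk x := ((psi_cong hψ).mp hγ₁).trans hx
  set yc : cz z := ⟨y, Subgroup.mem_centralizer_singleton_iff.mpr hyz⟩ with hyc
  have hy1 : y ≠ 1 := fun h => by rw [h, orderOf_one] at hy; norm_num at hy
  have hy3 : yc ^ 3 = 1 := Subtype.ext (show y ^ 3 = 1 by rw [← hy]; exact pow_orderOf_eq_one y)
  obtain ⟨γ, hγ⟩ := QuotientGroup.mk_surjective (e₁ (QuotientGroup.mk yc))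
  have h3 : γ ^ 3 ∈ Subgroup.center Co0 := (QuotientGroup.eq_one_iff _).mp (by
    rw [QuotientGroup.mk_pow, hγ, ← map_pow, ← QuotientGroup.mk_pow, hy3, QuotientGroup.mk_one, map_one])
  obtain ⟨δ, hδ, hδ3⟩ : ∃ δ : Co0, (QuotientGroup.mk δ : Spor.Co1) = e₁ (QuotientGroup.mk yc) ∧ δ ^ 3 = 1 := by
    rcases center_cases h3 with e1 | e1
    · exact ⟨γ, hγ, e1⟩
    · refine ⟨sgnW ⟨1, one_mem_golay⟩ * γ, ?_, ?_⟩
      · rw [QuotientGroup.mk_mul, (QuotientGroup.eq_one_iff _).mpr neg_mem_center, one_mul, hγ]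
      · rw [(show Commute (sgnW ⟨1, one_mem_golay⟩) γ from
          (Subgroup.mem_center_iff.mp neg_mem_center γ).symm).mul_pow, e1,
          show sgnW ⟨1, one_mem_golay⟩ ^ 3 = sgnW ⟨1, one_mem_golay⟩ by rw [pow_three, neg_sq, mul_one], neg_sq]
  have hcong : Cong (δ • LeechEight.latE none) (LeechEight.latE none) := by
    rw [psi_cong hψ₁, psi_smul hψ₁ hδ.symm hx₁, hx₁, mk_center_iff hS]
    left
    show y * gval x * y⁻¹ = gval x
    rw [hyx, mul_inv_cancel_right]
  obtain ⟨c, σ, rfl⟩ := cong_latE_iff.mp hcong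
  -- the permutation part
  have hperm : ∀ (d : golayCode) (π : M24), permW π * sgnW d = sgnW ⟨_, act_code π.2 d⟩ * permW π := fun d π =>
    mul_inv_eq_iff_eq_mul.mp (perm_sgn π d)
  set c1 : golayCode := ⟨_, act_code σ.2 c⟩ with hc1
  set c2 : golayCode := ⟨_, act_code σ.2 c1⟩ with hc2
  have hcube : (sgnW c * permW σ) ^ 3 = sgnW (c + c1 + c2) * permW (σ * σ * σ) := by
    rw [pow_three, sgnW_add', sgnW_add', permW_mul', permW_mul']
    calc sgnW c * permW σ * (sgnW c * permW σ * (sgnW c * permW σ))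
        = sgnW c * (permW σ * sgnW c) * (permW σ * sgnW c) * permW σ := by simp only [mul_assoc]
      _ = sgnW c * (sgnW c1 * permW σ) * (sgnW c1 * permW σ) * permW σ := by rw [hperm c σ]
      _ = sgnW c * sgnW c1 * (permW σ * sgnW c1) * permW σ * permW σ := by simp only [mul_assoc]
      _ = sgnW c * sgnW c1 * (sgnW c2 * permW σ) * permW σ * permW σ := by rw [hperm c1 σ]
      _ = _ := by simp only [mul_assoc]
  rw [hcube, ← show sgnW (0 : golayCode) * permW (1 : M24) = 1 by rw [sgnW_zero', one_mul]; exact map_one permHom] at hδ3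
  have hσ3 := mono_unique hδ3
  rw [hσ3] at hδ3
  have hc0 : c + c1 + c2 = 0 := sgnW_inj' (mul_right_cancel hδ3)
  have hσ1 : σ ≠ 1 := by
    intro h
    have e1 : c1 = c := Subtype.ext (by rw [hc1, h]; rfl)
    have e2 : c2 = c := Subtype.ext (by
      rw [hc2]
      show CfsgLib.GolayModule.act _ c1.1 = _
      rw [e1, h]; rfl)
    rw [e1, e2, sgnW_self, zero_add] at hc0
    rw [h, hc0, sgnW_zero', one_mul, show permW (1 : M24) = 1 from map_one permHom, QuotientGroup.mk_one,
      eq_comm, MulEquiv.map_eq_one_iff, QuotientGroup.eq_one_iff] at hδ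
    obtain ⟨k, hk⟩ := hS.2.2.1.1.1 ⟨yc, hδ⟩
    have hd : orderOf y ∣ 2 ^ k := orderOf_dvd_of_pow_eq_one (congrArg (fun t : Q => gval t) hk)
    rw [hy] at hd
    have := Nat.Prime.dvd_of_dvd_pow Nat.prime_three hd
    norm_num at this
  -- kill the sign
  have hd : c1 + c2 = c := by
    calc c1 + c2 = c + (c + c1 + c2) := by rw [← add_assoc, ← add_assoc, sgnW_self, zero_add]
      _ = c := by rw [hc0, add_zero]
  set α : Co0 := sgnW c1 with hα
  have hαinv : α⁻¹ = α := inv_eq_of_mul_eq_one_right (by rw [hα, ← sgnW_add', sgnW_self, sgnW_zero'])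
  refine ⟨e₁.trans (MulAut.conj (QuotientGroup.mk α : Spor.Co1)⁻¹), fun w => ψ₁ (α • w), σ, iso_twist hψ₁ α, ?_,
    orderOf_eq_prime (by rw [pow_three, ← mul_assoc, hσ3]) hσ1, ?_⟩
  · refine ((psi_cong hψ₁).mp (cong_latE_iff.mpr ⟨c1, 1, ?_⟩)).trans hx₁
    rw [hα, show permW (1 : M24) = 1 from map_one permHom, mul_one]
  · show (MulAut.conj (QuotientGroup.mk α : Spor.Co1)⁻¹) (e₁ (QuotientGroup.mk yc)) = _
    rw [MulAut.conj_apply, inv_inv, ← hδ, ← QuotientGroup.mk_inv, hαinv, ← QuotientGroup.mk_mul,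
      ← QuotientGroup.mk_mul]
    congr 1
    rw [hα, mul_assoc, mul_assoc, hperm c1 σ, ← hc2, ← mul_assoc (sgnW c), ← mul_assoc, ← sgnW_add', ← sgnW_add',
      show c1 + (c + c2) = 0 by rw [add_left_comm, hd, sgnW_self], sgnW_zero', one_mul]

/-- With six fixed points the element is central in a Sylow 3-subgroup of the joint centralizer. -/
theorem exists_central_sylow (hS : IsExtraspecialCentralizerSetting z Q 12) (hψ : IsLeechModTwoIso Q e ψ) {x : Q}
    (hx : ψ (LeechEight.latE none) = QuotientGroup.mk x) (hxz : gval x ≠ z) (hx1 : gval x ≠ 1) {y : G}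
    (hy : orderOf y = 3) (hyz : y * z = z * y) (hyx : y * gval x = gval x * y) {σ : M24} (hσ : orderOf σ = 3)
    (hey : e (QuotientGroup.mk (⟨y, Subgroup.mem_centralizer_singleton_iff.mpr hyz⟩ : cz z)) =
      QuotientGroup.mk (permW σ))
    (h6 : (Finset.univ.filter fun p => (σ : Equiv.Perm GolayPt) p = p).card = 6) :
    ∃ P : Sylow 3 ↥(Subgroup.centralizer ({z, gval x} : Set G)),
      (Subgroup.zpowers y).subgroupOf (Subgroup.centralizer ({z, gval x} : Set G)) ≤
        (Subgroup.center ↥(P : Subgroup ↥(Subgroup.centralizer ({z, gval x} : Set G)))).map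
          (P : Subgroup ↥(Subgroup.centralizer ({z, gval x} : Set G))).subtype := by
  classical
  have : Fact (Nat.Prime 3) := ⟨Nat.prime_three⟩
  obtain ⟨hA, -, hnorm⟩ := setting_extraAt hS
  set L := Subgroup.centralizer ({z, gval x} : Set G) with hL
  have hmemL : ∀ {a : G}, a ∈ L ↔ a * z = z * a ∧ a * gval x = gval x * a := by
    intro a
    rw [hL, Subgroup.mem_centralizer_iff]
    simp only [Set.mem_insert_iff, Set.mem_singleton_iff, forall_eq_or_imp, forall_eq]
    exact ⟨fun h => ⟨h.1.symm, h.2.symm⟩, fun h => ⟨h.1.symm, h.2.symm⟩⟩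
  have hcz : ∀ {a : G}, a ∈ L → a ∈ cz z := fun ha => Subgroup.mem_centralizer_singleton_iff.mpr (hmemL.mp ha).1
  have hex : ∀ l : L, ∃ cπ : golayCode × M24,
      e (QuotientGroup.mk (⟨l, hcz l.2⟩ : cz z)) = QuotientGroup.mk (sgnW cπ.1 * permW cπ.2) := by
    intro l
    obtain ⟨γ, hγ⟩ := QuotientGroup.mk_surjective (e (QuotientGroup.mk (⟨l, hcz l.2⟩ : cz z)))
    have hc : Cong (γ • LeechEight.latE none) (LeechEight.latE none) := by
      rw [psi_cong hψ, psi_smul hψ hγ.symm hx, hx, mk_center_iff hS]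
      left
      show (l : G) * gval x * (l : G)⁻¹ = gval x
      rw [(hmemL.mp l.2).2, mul_inv_cancel_right]
    obtain ⟨c, π, rfl⟩ := cong_latE_iff.mp hc
    exact ⟨(c, π), hγ.symm⟩
  choose F hF using hex
  let κ : L →* M24 := MonoidHom.mk' (fun l => (F l).2) fun a b => by
    refine mono_unique_mod (c := (F (a * b)).1) ?_ (d := (F a).1 + ⟨_, act_code (F a).2.2 (F b).1⟩)
    rw [← hF (a * b), ← mono_mul, QuotientGroup.mk_mul, ← hF a, ← hF b, ← map_mul]
    rfl
  set yL : L := ⟨y, hmemL.mpr ⟨hyz, hyx⟩⟩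
  set Cy : Subgroup L := Subgroup.centralizer ({yL} : Set L) with hCy
  -- the kernel is a 2-group
  have hker : IsPGroup 2 κ.ker := by
    rintro ⟨l, hl⟩
    have hl' : (F l).2 = 1 := hl
    have h2 : (⟨l, hcz l.2⟩ : cz z) * ⟨l, hcz l.2⟩ ∈ Q := by
      refine (QuotientGroup.eq_one_iff _).mp (e.injective ?_)
      rw [map_one, QuotientGroup.mk_mul, map_mul, hF, hl', show permW (1 : M24) = 1 from map_one permHom,
        mul_one, ← QuotientGroup.mk_mul, ← sgnW_add', sgnW_self, sgnW_zero', QuotientGroup.mk_one]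
    obtain ⟨k, hk⟩ := hS.2.2.1.1.1 ⟨_, h2⟩
    refine ⟨k + 1, Subtype.ext (Subtype.ext ?_)⟩
    have hk' : ((l : G) * l) ^ 2 ^ k = 1 := congrArg (fun t : Q => gval t) hk
    show (l : G) ^ 2 ^ (k + 1) = 1
    rw [pow_succ', pow_mul, pow_two]
    exact hk'
  -- enough lifts commute with `y`
  obtain ⟨P27, hP27, hPc⟩ := exists_three_group hσ h6
  have hsub : P27 ≤ Cy.map κ := by
    intro π hπ
    obtain ⟨c0, hc0⟩ := exists_lift_Co0 e (permW π)
    have hx0 : (QuotientGroup.mk c0 : cz z ⧸ Q) ∈ imgX Q (gval x) := by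
      have h0 := (mem_map_imgX_iff hS hψ hx hx1 hxz (permW π)).mpr (cong_latE_iff.mpr ⟨0, π, by
        rw [sgnW_zero', one_mul]⟩)
      rw [← hc0] at h0
      exact (Subgroup.mem_map_iff_mem e.injective).mp h0
    obtain ⟨d, hd, hde⟩ := hx0
    have hdx : (d : G) * gval x = gval x * d := Subgroup.mem_centralizer_singleton_iff.mp hd.2
    have hdL : (d : G) ∈ L := hmemL.mpr ⟨Subgroup.mem_centralizer_singleton_iff.mp d.2, hdx⟩
    set yc : cz z := ⟨y, Subgroup.mem_centralizer_singleton_iff.mpr hyz⟩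
    have hed : e (QuotientGroup.mk d) = QuotientGroup.mk (permW π) := by
      rw [← hc0]; exact congrArg e hde
    have hdy : (d : G) * y * (d : G)⁻¹ * y⁻¹ ∈ qm Q ⊓ Subgroup.centralizer ({gval x} : Set G) := by
      refine ⟨coe_mem_qm (c := d * yc * d⁻¹ * yc⁻¹).mpr ((QuotientGroup.eq_one_iff _).mp (e.injective ?_)), ?_⟩
      · rw [map_one, QuotientGroup.mk_mul, QuotientGroup.mk_mul, QuotientGroup.mk_mul, QuotientGroup.mk_inv,
          QuotientGroup.mk_inv, map_mul, map_mul, map_mul, map_inv, map_inv, hed, hey, ← QuotientGroup.mk_mul,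
          ← permW_mul', hPc π hπ, permW_mul', QuotientGroup.mk_mul, mul_inv_cancel_right, mul_inv_cancel]
      · refine Subgroup.mem_centralizer_singleton_iff.mpr ?_
        exact ((((show Commute (d : G) (gval x) from hdx).mul_left (show Commute y (gval x) from hyx)).mul_left
          (show Commute (d : G) (gval x) from hdx).inv_left).mul_left
            (show Commute y (gval x) from hyx).inv_left).eq
    have hn : ∀ a ∈ qm Q ⊓ Subgroup.centralizer ({gval x} : Set G),
        y * a * y⁻¹ ∈ qm Q ⊓ Subgroup.centralizer ({gval x} : Set G) := fun a ha =>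
      ⟨(Subgroup.mem_normalizer_iff.mp (hnorm yc.2) a).mp ha.1, Subgroup.mem_centralizer_singleton_iff.mpr
        (((show Commute y (gval x) from hyx).mul_left
          (show Commute a (gval x) from Subgroup.mem_centralizer_singleton_iff.mp ha.2)).mul_left
            (show Commute y (gval x) from hyx).inv_left).eq⟩
    obtain ⟨q, hq, hqy⟩ := exists_mul_commute (by norm_num) ((hS.2.2.1.1.1.map _).to_le inf_le_left) hy hn hdy
    have hqL : q * (d : G) ∈ L := mul_mem (hmemL.mpr ⟨Subgroup.mem_centralizer_singleton_iff.mp (qm_le hq.1),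
      Subgroup.mem_centralizer_singleton_iff.mp hq.2⟩) hdL
    refine ⟨⟨q * d, hqL⟩, Subgroup.mem_centralizer_singleton_iff.mpr (Subtype.ext hqy), ?_⟩
    refine (mono_unique_mod (c := 0) (d := (F ⟨q * d, hqL⟩).1) ?_).symm
    show (QuotientGroup.mk (sgnW 0 * permW π) : Spor.Co1) =
      QuotientGroup.mk (sgnW (F ⟨q * d, hqL⟩).1 * permW (F ⟨q * d, hqL⟩).2)
    rw [sgnW_zero', one_mul, ← hF, ← hed]
    show e (QuotientGroup.mk d) = e (QuotientGroup.mk ((⟨q, qm_le hq.1⟩ : cz z) * d))
    rw [QuotientGroup.mk_mul, (QuotientGroup.eq_one_iff _).mpr ((coe_mem_qm (c := ⟨q, qm_le hq.1⟩)).mp hq.1), one_mul]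
  have h27 : 27 ∣ Nat.card Cy := by
    rw [← hP27]
    exact (Subgroup.card_dvd_of_le hsub).trans (Subgroup.card_map_dvd Cy κ)
  have hnot : ¬ 81 ∣ Nat.card L := by
    intro h81
    have h1 := Subgroup.card_mul_index κ.ker
    rw [Subgroup.index_ker] at h1
    obtain ⟨k, hk⟩ := IsPGroup.iff_card.mp hker
    rw [hk] at h1
    rw [← h1] at h81
    have hcop : Nat.Coprime 81 (2 ^ k) := Nat.Coprime.pow_right k (by norm_num)
    have := (hcop.dvd_of_dvd_mul_left h81).trans (Subgroup.card_subgroup_dvd_card κ.range)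
    rw [natCard_M24] at this
    norm_num at this
  obtain ⟨S⟩ : Nonempty (Sylow 3 Cy) := inferInstance
  obtain ⟨P, hP⟩ := (S.2.map Cy.subtype).exists_le_sylow
  have hPS : ((S : Subgroup Cy).map Cy.subtype : Subgroup L) = (P : Subgroup L) := by
    refine Subgroup.eq_of_le_of_card_ge hP ?_
    rw [Subgroup.card_map_of_injective Cy.subtype_injective, P.card_eq_multiplicity, S.card_eq_multiplicity]
    refine Nat.pow_le_pow_right (by norm_num) ?_
    have h3 : (Nat.card L).factorization 3 ≤ 3 := by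
      by_contra h
      push Not at h
      exact hnot ((show 81 = 3 ^ 4 by norm_num) ▸
        (Nat.Prime.pow_dvd_iff_le_factorization Nat.prime_three Nat.card_pos.ne').mpr h)
    have h3' : 3 ≤ (Nat.card Cy).factorization 3 :=
      (Nat.Prime.pow_dvd_iff_le_factorization Nat.prime_three Nat.card_pos.ne').mp (by norm_num; exact h27)
    omega
  have hcomP : ∀ a ∈ (P : Subgroup L), a * yL = yL * a := by
    intro a ha
    rw [← hPS] at ha
    obtain ⟨b, -, rfl⟩ := ha
    exact Subgroup.mem_centralizer_singleton_iff.mp b.2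
  have hyP : yL ∈ (P : Subgroup L) := by
    have hyC : yL ∈ Cy := Subgroup.mem_centralizer_singleton_iff.mpr rfl
    have hp3 : IsPGroup 3 (Subgroup.zpowers (⟨yL, hyC⟩ : Cy)) := by
      refine IsPGroup.iff_card.mpr ⟨1, ?_⟩
      rw [Nat.card_zpowers, pow_one, ← Subgroup.orderOf_coe, ← Subgroup.orderOf_coe]
      exact hy
    obtain ⟨T, hT⟩ := hp3.exists_le_sylow
    obtain ⟨g, rfl⟩ := MulAction.exists_smul_eq Cy T S
    rw [← hPS]
    refine ⟨⟨yL, hyC⟩, ?_, rfl⟩
    have h1 : (⟨yL, hyC⟩ : Cy) ∈ (T : Subgroup Cy) := hT (Subgroup.mem_zpowers _)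
    rw [Sylow.coe_subgroup_smul]
    refine ⟨⟨yL, hyC⟩, h1, ?_⟩
    show g * (⟨yL, hyC⟩ : Cy) * g⁻¹ = ⟨yL, hyC⟩
    exact mul_inv_eq_iff_eq_mul.mpr (Subtype.ext (Subgroup.mem_centralizer_singleton_iff.mp g.2))
  refine ⟨P, fun a ha => ?_⟩
  have haz : a ∈ Subgroup.zpowers yL := by
    obtain ⟨i, hi⟩ := Subgroup.mem_zpowers_iff.mp (show (a : G) ∈ Subgroup.zpowers y from ha)
    exact ⟨i, Subtype.ext (by simpa using hi)⟩
  refine (Subgroup.zpowers_le.mpr ?_) haz
  exact ⟨⟨yL, hyP⟩, Subgroup.mem_center_iff.mpr fun b => Subtype.ext (hcomP b b.2), rfl⟩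

end CfsgLib.MonsterLocal21.ThreeClass
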