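import Mathlib
import Cfsg.Agent.Lib.MonsterLocal21.Bridge
import Cfsg.Agent.Lib.MonsterLocal21.ThreeClass
import Cfsg.Agent.Lib.MonsterLocal21.ThompsonLattice

/-! An element of order 3 of the joint centralizer that is not 3-central there: its centralizer modulo it is of
Thompson type. -/

set_option autoImplicit false

namespace CfsgLib.MonsterLocal21.Thompson

open Cfsg CfsgLib.MonsterType CfsgLib.LargeExtra

theorem pCore_alt_nine : pCore 2 (alternatingGroup (Fin 9)) = ⊥ := by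
  have : Fact (Nat.Prime 2) := ⟨Nat.prime_two⟩
  have hsimp : IsSimpleGroup (alternatingGroup (Fin 9)) := alternatingGroup.isSimpleGroup (by simp)
  refine (IsSimpleGroup.eq_bot_or_eq_top_of_normal _ (CfsgLib.LargeExtra.pCore_normal' 2 _)).resolve_right fun h => ?_
  obtain ⟨k, hk⟩ := IsPGroup.iff_card.mp (CfsgLib.LargeExtra.pCore_isPGroup' 2 (alternatingGroup (Fin 9)))
  rw [h, Subgroup.card_top, nat_card_alternatingGroup, Nat.card_fin,
    show Nat.factorial 9 / 2 = 181440 from by decide] at hk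
  have h3 : 3 ∣ 2 ^ k := hk ▸ (by norm_num)
  have := Nat.Prime.dvd_of_dvd_pow Nat.prime_three h3
  norm_num at this

theorem tau_cube : tau ^ 3 = 1 := by
  have h : sigM ^ 3 = 1 := by rw [← sigM_order]; exact pow_orderOf_eq_one sigM
  have h2 := map_pow permHom sigM 3
  rw [h, map_one] at h2
  exact h2.symm

variable {G : Type*} [Group G] [Finite G] {z : G} {Q : Subgroup (cz z)} [Q.Normal]

/-- The main statement. -/
theorem thompson_type (hM : IsOfMonsterType z Q) (s : G)
    (hsQ : ∃ hsc : s ∈ cz z, (⟨s, hsc⟩ : cz z) ∈ Q) (hs : IsConj z s) (hs1 : s ≠ z) (Y : Subgroup G)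
    (hY : Y ≤ Subgroup.centralizer ({z, s} : Set G)) (hY3 : Nat.card Y = 3)
    (hnc : ∀ P : Sylow 3 ↥(Subgroup.centralizer ({z, s} : Set G)),
      ¬ Y.subgroupOf (Subgroup.centralizer ({z, s} : Set G)) ≤
        (Subgroup.center ↥(P : Subgroup ↥(Subgroup.centralizer ({z, s} : Set G)))).map
          (P : Subgroup ↥(Subgroup.centralizer ({z, s} : Set G))).subtype)
    [hn : (Y.subgroupOf (Subgroup.centralizer (Y : Set G))).Normal] :
    IsOfThompsonType (↥(Subgroup.centralizer (Y : Set G)) ⧸ Y.subgroupOf (Subgroup.centralizer (Y : Set G))) := by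
  classical
  have : Fact (Nat.Prime 3) := ⟨Nat.prime_three⟩
  obtain ⟨y, hYy⟩ : ∃ a : G, Y = Subgroup.zpowers a := by
    obtain ⟨y, hyY⟩ := isCyclic_iff_exists_zpowers_eq_top.mp (isCyclic_of_prime_card (α := Y) hY3)
    refine ⟨y, ?_⟩
    have := congrArg (Subgroup.map Y.subtype) hyY
    rw [MonoidHom.map_zpowers, ← MonoidHom.range_eq_map, Subgroup.range_subtype] at this
    exact this.symm
  subst hYy
  have hy : orderOf y = 3 := by rw [← Nat.card_zpowers, hY3]
  have hyL := hY (Subgroup.mem_zpowers y)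
  rw [Subgroup.mem_centralizer_iff] at hyL
  have hyz : y * z = z * y := (hyL z (Or.inl rfl)).symm
  have hys : y * s = s * y := (hyL s (Or.inr rfl)).symm
  obtain ⟨hS, e, ψ, hψ⟩ := hM
  obtain ⟨hsc, hsQ⟩ := hsQ
  set x : Q := ⟨⟨s, hsc⟩, hsQ⟩ with hx
  obtain ⟨e', ψ', σ, hψ', hx', hσ, hey⟩ := ThreeClass.exists_perm_form hS hψ (x := x) hs hs1 hy hyz hys
  have hσ' : orderOf (σ : Equiv.Perm GolayPt) = 3 := (Subgroup.orderOf_coe σ).trans hσ
  have hx1 : gval x ≠ 1 := by
    intro h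
    obtain ⟨g, hg⟩ := isConj_iff.mp hs
    have hs' : s = 1 := h
    rw [hs', mul_inv_eq_one, mul_eq_left] at hg
    have := hS.1
    rw [hg, orderOf_one] at this
    norm_num at this
  obtain ⟨g, hg, hgl⟩ : ∃ g ∈ M24, CfsgLib.Golay.toList (g * (σ : Equiv.Perm GolayPt) * g⁻¹) =
      CfsgLib.Golay.Classes.thrFree := by
    refine ((CfsgLib.Golay.Classes.three_cases σ.2 hσ').resolve_left ?_).2
    rintro ⟨h6, -⟩
    obtain ⟨P, hP⟩ := ThreeClass.exists_central_sylow hS hψ' hx' hs1 hx1 hy hyz hys hσ hey h6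
    exact hnc P hP
  -- move the permutation to the standard one
  set π : M24 := ⟨g, hg⟩ with hπ
  have hσπ : π * σ * π⁻¹ = sigM := Subtype.ext (CfsgLib.Golay.toList_injective (by
    show CfsgLib.Golay.toList (g * (σ : Equiv.Perm GolayPt) * g⁻¹) = CfsgLib.Golay.toList sigP
    rw [hgl, toList_gens.1]))
  set γ : Co0 := permW π⁻¹ with hγ
  have hx'' : ψ' (γ • LeechEight.latE none) = QuotientGroup.mk x :=
    ((psi_cong hψ').mp (cong_latE_iff.mpr ⟨0, π⁻¹, by rw [sgnW_zero', one_mul]⟩)).trans hx'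
  have hey' : (e'.trans (MulAut.conj (QuotientGroup.mk γ : Spor.Co1)⁻¹))
      (QuotientGroup.mk (⟨y, Subgroup.mem_centralizer_singleton_iff.mpr hyz⟩ : cz z)) = QuotientGroup.mk tau := by
    show (MulAut.conj (QuotientGroup.mk γ : Spor.Co1)⁻¹) (e' _) = _
    rw [hey, MulAut.conj_apply, inv_inv, ← QuotientGroup.mk_inv, ← QuotientGroup.mk_mul, ← QuotientGroup.mk_mul]
    congr 1
    rw [hγ, tau, ← hσπ, permW_mul', permW_mul', ← permHom_apply π⁻¹, map_inv, inv_inv, permHom_apply]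
  obtain ⟨zb, R, hR, hset, hiso⟩ := setting_of_lattice hS (iso_twist hψ' γ) (p := 3) (by norm_num) hy hyz
    tau_cube hey' coord (k := 4) (by norm_num) (by norm_num) nineHom nineHom_surjective card_ker_le
    (fun _ => nineHom_eq_one) pCore_alt_nine (x := x) hs hs1 hys.symm
  exact ⟨zb, R, hR, hset, hiso⟩

end CfsgLib.MonsterLocal21.Thompson
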